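import Cfsg.Agent.Lib.Transvect.Basic
import Cfsg.Agent.Lib.Unitary.Form

/-!
# Small facts about a nondegenerate hermitian space

Isotropic vectors in subspaces, transvection moves, totally isotropic families, Eichler elements.
-/

set_option autoImplicit false
set_option linter.unusedSectionVars false

namespace Cfsg.Agent.C4.Herm

open Matrix Module Cfsg.Agent.Transvect Cfsg.Agent.Unitary
open scoped MatrixGroups

variable {F : Type*} [Field F] [Fintype F] {q m : ℕ} {h : (Fin m → F) → (Fin m → F) → F}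

local notation "V" => (Fin m → F)

/-- `x ↦ h x v`. -/
def fl (H : IsHerm q h) (v : Fin m → F) : (Fin m → F) →ₗ[F] F where
  toFun x := h x v
  map_add' x y := H.add_left x y v
  map_smul' c x := H.smul_left c x v

variable (hF : Fintype.card F = q ^ 2) (H : IsHerm q h)

@[simp] lemma fl_apply (v x : V) : fl H v x = h x v := rfl

lemma skew_pow {c : F} (hc : c + c ^ q = 0) : c ^ q = -c := eq_neg_of_add_eq_zero_right hc

include hF H

lemma exists_fl (hnd : Unitary.Nondeg h) (α : V →ₗ[F] F) : ∃ v, fl H v = α := by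
  classical
  let e := (Pi.basisFun F (Fin m)).toDualEquiv
  have hinj : Function.Injective fun v => e.symm (fl H v) := fun v w hvw => by
    have h1 := e.symm.injective hvw
    refine sub_eq_zero.1 (hnd _ fun y => ?_)
    rw [H.eq_zero_symm hF, H.sub_right hF, ← fl_apply H v, ← fl_apply H w, h1, sub_self]
  obtain ⟨v, hv⟩ := Finite.surjective_of_injective hinj (e.symm α)
  exact ⟨v, e.symm.injective hv⟩

lemma exists_pair (hnd : Unitary.Nondeg h) {v : V} (hv : v ≠ 0) : ∃ x, h x v = 1 := by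
  obtain ⟨y, hy⟩ : ∃ y, h y v ≠ 0 := by
    by_contra! hc
    exact hv (hnd v fun y => (H.eq_zero_symm hF).1 (hc y))
  exact ⟨(h y v)⁻¹ • y, by rw [H.smul_left, inv_mul_cancel₀ hy]⟩

lemma fl_ne_zero (hnd : Unitary.Nondeg h) {v : V} (hv : v ≠ 0) : fl H v ≠ 0 := fun h0 => by
  obtain ⟨x, hx⟩ := exists_pair hF H hnd hv
  have h1 := LinearMap.congr_fun h0 x
  rw [fl_apply, hx] at h1
  exact one_ne_zero h1

/-- A plane contains an isotropic vector. -/
lemma exists_iso_in {W : Submodule F V} (hW : 2 ≤ finrank F W) :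
    ∃ x ∈ W, x ≠ 0 ∧ h x x = 0 := by
  by_contra! hc
  obtain ⟨u, hu, hu0⟩ := Submodule.exists_mem_ne_zero_of_ne_bot
    (p := W) (by rintro rfl; simp at hW)
  have huu := hc u hu hu0
  obtain ⟨w, hw, hwu⟩ : ∃ w ∈ W, w ∉ F ∙ u := by
    by_contra! h2
    have h3 := Submodule.finrank_mono (show W ≤ F ∙ u from h2)
    rw [finrank_span_singleton hu0] at h3
    omega
  set v := w - (h w u / h u u) • u with hv
  have hvW : v ∈ W := W.sub_mem hw (W.smul_mem _ hu)
  have hvu : h v u = 0 := by rw [hv, H.sub_left, H.smul_left, div_mul_cancel₀ _ huu, sub_self]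
  have hv0 : v ≠ 0 := fun h0 => hwu (by
    rw [sub_eq_zero.1 h0]; exact Submodule.smul_mem _ _ (Submodule.mem_span_singleton_self u))
  have hvv := hc v hvW hv0
  obtain ⟨t, ht⟩ := exists_norm_eq hF (c := -(h v v) / h u u)
    (by rw [div_pow, neg_pow_q hF, H.self_fixed, H.self_fixed])
  have hx0 : t • u + v ≠ 0 := fun h0 => by
    have h1 : h (t • u + v) v = 0 := by rw [h0, H.zero_left]
    rw [H.add_left, H.smul_left, (H.eq_zero_symm hF).1 hvu, mul_zero, zero_add] at h1
    exact hvv h1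
  refine hc _ (W.add_mem (W.smul_mem t hu) hvW) hx0 ?_
  rw [H.add_left, H.add_right hF, H.add_right hF, H.smul_left, H.smul_left, H.smul_right,
    H.smul_right, hvu, (H.eq_zero_symm hF).1 hvu, ← mul_assoc, ← pow_succ', ht,
    div_mul_cancel₀ _ huu]
  ring

omit hF

/-- The vectors orthogonal to a family. -/
def perpF (H : IsHerm q h) {κ : Type*} (w : κ → V) : Submodule F V :=
  LinearMap.ker (LinearMap.pi fun i => fl H (w i))

lemma mem_perpF {κ : Type*} {w : κ → V} {x : V} : x ∈ perpF H w ↔ ∀ i, h x (w i) = 0 := by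
  simp [perpF, funext_iff]

lemma le_finrank_perpF {k : ℕ} (w : Fin k → V) : m ≤ finrank F (perpF H w) + k := by
  have h1 := LinearMap.finrank_range_add_finrank_ker (LinearMap.pi fun i => fl H (w i))
  have h2 := Submodule.finrank_le (LinearMap.range (LinearMap.pi fun i => fl H (w i)))
  rw [finrank_fin_fun] at h1 h2
  unfold perpF
  omega

include hF H

/-- An isotropic vector orthogonal to a subspace of codimension at least two. -/
lemma exists_iso_perp {W : Submodule F V} (hW : finrank F W + 2 ≤ m) :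
    ∃ z, z ≠ 0 ∧ h z z = 0 ∧ ∀ x ∈ W, h x z = 0 := by
  set b := Module.finBasis F W
  have h1 := le_finrank_perpF H fun i => (b i : V)
  obtain ⟨z, hz, hz0, hzz⟩ := exists_iso_in hF H (W := perpF H fun i => (b i : V)) (by omega)
  refine ⟨z, hz0, hzz, fun x hx => ?_⟩
  rw [mem_perpF] at hz
  have h2 := congrArg (W.subtype) (b.sum_repr ⟨x, hx⟩)
  simp only [map_sum, map_smul, Submodule.subtype_apply] at h2
  rw [← h2, H.sum_left]
  exact Finset.sum_eq_zero fun i _ => by rw [H.smul_left, (H.eq_zero_symm hF).1 (hz i), mul_zero]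

/-- An isotropic hyperbolic partner. -/
lemma exists_partner (hnd : Unitary.Nondeg h) {b : V} (hb0 : b ≠ 0) (hb : h b b = 0) :
    ∃ b', h b' b' = 0 ∧ h b' b = 1 ∧ h b b' = 1 ∧ b' ≠ 0 := by
  obtain ⟨x, hx⟩ := exists_pair hF H hnd hb0
  obtain ⟨t, ht⟩ := exists_trace_eq hF (c := -(h x x)) (by rw [neg_pow_q hF, H.self_fixed])
  have hx' : h b x = 1 := by rw [H.conj_symm x b, hx, one_pow]
  have h1 : h (x + t • b) b = 1 := by rw [H.add_left, H.smul_left, hx, hb, mul_zero, add_zero]
  refine ⟨x + t • b, ?_, h1, by rw [H.conj_symm _ b, h1, one_pow], fun h0 => ?_⟩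
  · rw [H.add_left, H.add_right hF, H.add_right hF, H.smul_left, H.smul_left, H.smul_right,
      H.smul_right, hx, hx', hb]
    linear_combination ht
  · rw [h0, H.zero_left] at h1
    exact zero_ne_one h1

/-- An isotropic vector with given nonzero pairings against two orthogonal isotropic vectors. -/
lemma exists_nonorth (hnd : Unitary.Nondeg h) {b b' : V} (hb0 : b ≠ 0) (hb : h b b = 0)
    (hb' : b' ≠ 0) (hbb : h b b' = 0) : ∃ d, h d d = 0 ∧ h d b ≠ 0 ∧ h d b' ≠ 0 := by
  obtain ⟨x, hx⟩ := exists_pair hF H hnd hb0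
  obtain ⟨y, hy⟩ := exists_pair hF H hnd hb'
  obtain ⟨z, hz, hz'⟩ : ∃ z, h z b ≠ 0 ∧ h z b' ≠ 0 := by
    by_cases hxb : h x b' = 0
    · by_cases hyb : h y b = 0
      · exact ⟨x + y, by rw [H.add_left, hx, hyb]; simp, by rw [H.add_left, hxb, hy]; simp⟩
      · exact ⟨y, hyb, by simp [hy]⟩
    · exact ⟨x, by simp [hx], hxb⟩
  obtain ⟨t, ht⟩ := exists_trace_eq hF (c := -(h z z)) (by rw [neg_pow_q hF, H.self_fixed])
  refine ⟨z + (t / h b z) • b, ?_, ?_, ?_⟩
  · rw [H.add_left, H.add_right hF, H.add_right hF, H.smul_left, H.smul_left, H.smul_right,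
      H.smul_right, hb, H.conj_symm b z, div_pow]
    have h0 : h b z ≠ 0 := fun h0 => hz ((H.eq_zero_symm hF).1 h0)
    rw [div_mul_cancel₀ _ h0, div_mul_cancel₀ _ (pow_ne_zero _ h0)]
    linear_combination ht
  · rwa [H.add_left, H.smul_left, hb, mul_zero, add_zero]
  · rwa [H.add_left, H.smul_left, hbb, mul_zero, add_zero]

/-! ### Transvections -/

omit hF

/-- `x ↦ x + c h(x,v) v`. -/
noncomputable def tu (H : IsHerm q h) (v : V) (c : F) : GL (Fin m) F := tv v (c • fl H v)

lemma tu_apply {v : V} (hv : h v v = 0) (c : F) (x : V) :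
    app (tu H v c) x = x + (c * h x v) • v := by
  rw [tu, tv_apply (by simp [hv])]; simp

lemma tu_mem_sl (v : V) (c : F) : tu H v c ∈ Cfsg.Geo.specialLinear (Fin m) F := tv_mem_sl _ _

/-- `g` preserves `h`. -/
def Iso (h : (Fin m → F) → (Fin m → F) → F) (g : GL (Fin m) F) : Prop :=
  ∀ x y, h (app g x) (app g y) = h x y

include hF H

lemma tu_iso {v : V} (hv : h v v = 0) {c : F} (hc : c + c ^ q = 0) : Iso h (tu H v c) := fun x y => by
  rw [tu_apply H hv, tu_apply H hv]
  simp only [H.add_left, H.add_right hF, H.smul_left, H.smul_right, hv, mul_zero, add_zero, mul_pow,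
    H.conj_symm y v]
  linear_combination (h x v * h y v ^ q) * hc

/-- A subgroup containing all isotropic transvections moves isotropic points transitively. -/
lemma exists_move (hnd : Unitary.Nondeg h) {K : Subgroup (GL (Fin m) F)}
    (hK : ∀ v c, h v v = 0 → c + c ^ q = 0 → tu H v c ∈ K) {b b' : V} (hb0 : b ≠ 0)
    (hb : h b b = 0) (hb0' : b' ≠ 0) (hb' : h b' b' = 0) :
    ∃ g ∈ K, ∃ ρ : F, ρ ≠ 0 ∧ app g b = ρ • b' := by
  have key : ∀ {x y : V}, h x x = 0 → h y y = 0 → h x y ≠ 0 →
      ∃ g ∈ K, ∃ ρ : F, ρ ≠ 0 ∧ app g x = ρ • y := by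
    intro x y hx hy hxy
    obtain ⟨e, he0, he⟩ := exists_skew hF
    set l : F := e / h x y with hl
    -- `d = x + μ y` is isotropic and the transvection at `d` kills the component along `x`
    set μ : F := e / h y x with hμ
    have hyx : h y x ≠ 0 := fun h0 => hxy ((H.eq_zero_symm hF).1 h0)
    have hμ0 : μ ≠ 0 := div_ne_zero he0 hyx
    have e1 : h (x + μ • y) (x + μ • y) = 0 := by
      rw [H.add_left, H.add_right hF, H.add_right hF, H.smul_left, H.smul_left, H.smul_right,
        H.smul_right, hx, hy, hμ, div_pow, H.conj_symm x y, he, pow_q_pow_q hF]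
      field_simp
      ring
    have e2 : h x (x + μ • y) = -e := by
      rw [H.add_right hF, hx, H.smul_right, hμ, div_pow, H.conj_symm x y, he, pow_q_pow_q hF]
      field_simp
      ring
    refine ⟨tu H (x + μ • y) e⁻¹, hK _ _ e1 (by rw [inv_pow, he]; field_simp; ring), -μ,
      neg_ne_zero.2 hμ0, ?_⟩
    rw [tu_apply H e1, e2, mul_neg, inv_mul_cancel₀ he0]
    module
  by_cases hbb : h b b' = 0
  · obtain ⟨d, hd, hdb, hdb'⟩ := exists_nonorth hF H hnd hb0 hb hb0' hbb
    obtain ⟨g, hg, ρ, hρ, hgb⟩ := key hb hd fun h0 => hdb ((H.eq_zero_symm hF).1 h0)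
    obtain ⟨g', hg', ρ', hρ', hgd⟩ := key hd hb' hdb'
    exact ⟨g' * g, K.mul_mem hg' hg, ρ * ρ', mul_ne_zero hρ hρ', by
      rw [map_mul, LinearEquiv.mul_apply, hgb, map_smul, hgd, smul_smul]⟩
  · exact key hb hb' hbb

/-- A subgroup containing all isotropic transvections scales an isotropic vector by ratios of skew
scalars. -/
lemma exists_scale (hnd : Unitary.Nondeg h) {K : Subgroup (GL (Fin m) F)}
    (hK : ∀ v c, h v v = 0 → c + c ^ q = 0 → tu H v c ∈ K) {b : V} (hb0 : b ≠ 0) (hb : h b b = 0)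
    {s t : F} (hs : s + s ^ q = 0) (ht : t + t ^ q = 0) (hs0 : s ≠ 0) (ht0 : t ≠ 0) :
    ∃ g ∈ K, app g b = -(t / s) • b := by
  obtain ⟨b', hb', h1, h2, -⟩ := exists_partner hF H hnd hb0 hb
  let w : F → GL (Fin m) F := fun c => tu H b c * tu H b' (-c⁻¹) * tu H b c
  have hw : ∀ c, c + c ^ q = 0 → w c ∈ K := fun c hc => by
    have : -c⁻¹ + (-c⁻¹) ^ q = 0 := by
      rw [neg_pow_q hF, inv_pow, skew_pow hc, inv_neg]; ring
    exact K.mul_mem (K.mul_mem (hK _ _ hb hc) (hK _ _ hb' this)) (hK _ _ hb hc)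
  have ew : ∀ c, c ≠ 0 → app (w c) b = -c⁻¹ • b' ∧ app (w c) b' = c • b := fun c hc => by
    constructor
    all_goals
      simp only [w, map_mul, LinearEquiv.mul_apply, tu_apply H hb, tu_apply H hb', hb, hb', h1, h2,
        H.add_left, H.smul_left, mul_zero, mul_one, zero_add, add_zero, zero_smul]
      match_scalars <;> field_simp <;> ring
  refine ⟨w t * w s, K.mul_mem (hw t ht) (hw s hs), ?_⟩
  rw [map_mul, LinearEquiv.mul_apply, (ew s hs0).1, map_smul, (ew t ht0).2, smul_smul]
  congr 1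
  ring

/-! ### Spanning by isotropic vectors -/

lemma mem_span_iso_of_aniso {P : Submodule F V} {x : V} (hx : x ∈ P) {y : V} (hy : y ∈ P)
    (hyx : h y x = 0) (hyy : h y y ≠ 0) :
    x ∈ Submodule.span F {v : V | v ∈ P ∧ h v v = 0} := by
  by_cases hxx : h x x = 0
  · exact Submodule.subset_span ⟨hx, hxx⟩
  obtain ⟨t, ht⟩ := exists_norm_eq hF (c := -(h x x) / h y y)
    (by rw [div_pow, neg_pow_q hF, H.self_fixed, H.self_fixed])
  have ht0 : t ≠ 0 := fun h0 => by
    rw [h0, zero_pow (Nat.succ_ne_zero q)] at ht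
    exact hxx (neg_eq_zero.1 ((div_eq_zero_iff.1 ht.symm).resolve_right hyy))
  obtain ⟨η, hη, hη1⟩ : ∃ η : F, η ^ (q + 1) = 1 ∧ η ≠ 1 := by
    by_contra! hc
    have h1 : Nat.card {x : F // x ^ (q + 1) = 1} ≤ 1 :=
      Finite.card_le_one_iff_subsingleton.2 ⟨fun a b => Subtype.ext ((hc _ a.2).trans (hc _ b.2).symm)⟩
    rw [card_norm_one hF] at h1
    have := two_le_q hF
    omega
  have hxy := (H.eq_zero_symm hF).1 hyx
  have hiso : ∀ s : F, s ^ (q + 1) = -(h x x) / h y y → h (x + s • y) (x + s • y) = 0 := fun s hs => by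
    rw [H.add_left, H.add_right hF, H.add_right hF, H.smul_left, H.smul_left, H.smul_right,
      H.smul_right, hyx, hxy, ← mul_assoc, ← pow_succ', hs, div_mul_cancel₀ _ hyy]
    ring
  set S := Submodule.span F {v : V | v ∈ P ∧ h v v = 0}
  have m1 : x + t • y ∈ S :=
    Submodule.subset_span ⟨P.add_mem hx (P.smul_mem _ hy), hiso t ht⟩
  have m2 : x + (η * t) • y ∈ S :=
    Submodule.subset_span ⟨P.add_mem hx (P.smul_mem _ hy), hiso _ (by rw [mul_pow, hη, one_mul, ht])⟩
  have m3 := S.sub_mem m1 m2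
  rw [add_sub_add_left_eq_sub, ← sub_smul, ← one_mul t, ← mul_assoc, mul_one, ← sub_mul] at m3
  have m4 := S.sub_mem m1 (S.smul_mem (t * ((1 - η) * t)⁻¹) m3)
  have hne : (1 - η) * t ≠ 0 := mul_ne_zero (sub_ne_zero.2 (Ne.symm hη1)) ht0
  rwa [smul_smul, mul_assoc, inv_mul_cancel₀ hne, mul_one, add_sub_cancel_right] at m4

/-- Isotropic vectors span. -/
lemma mem_span_iso (hnd : Unitary.Nondeg h) (hm : 2 ≤ m) (x : V) :
    x ∈ Submodule.span F {v : V | h v v = 0} := by
  by_cases hxx : h x x = 0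
  · exact Submodule.subset_span hxx
  refine Submodule.span_mono (fun v hv => hv.2) (?_ : x ∈ Submodule.span F {v : V | v ∈ (⊤ : Submodule F V) ∧ h v v = 0})
  obtain ⟨y, hyx, hyy⟩ : ∃ y, h y x = 0 ∧ h y y ≠ 0 := by
    by_contra! hc
    let P := perpF H fun _ : Fin 1 => x
    have hP : ∀ y : P, h (y : V) (y : V) = 0 := fun y => hc _ ((mem_perpF H).1 y.2 0)
    have h0 : ∀ y : P, (y : V) = 0 := fun y => hnd _ fun z => by
      have hz : z - (h z x / h x x) • x ∈ P := (mem_perpF H).2 fun _ => by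
        rw [H.sub_left, H.smul_left, div_mul_cancel₀ _ hxx, sub_self]
      have h1 := (H.comap P.subtype).eq_zero_of_isotropic hF hP y ⟨_, hz⟩
      simp only [Submodule.subtype_apply] at h1
      rwa [H.sub_right hF, H.smul_right, (mem_perpF H).1 y.2 0, mul_zero, sub_zero] at h1
    have : P = ⊥ := (Submodule.eq_bot_iff _).2 fun y hy => h0 ⟨y, hy⟩
    have h2 : m ≤ finrank F P + 1 := le_finrank_perpF H fun _ : Fin 1 => x
    rw [this, finrank_bot] at h2
    omega
  exact mem_span_iso_of_aniso hF H Submodule.mem_top Submodule.mem_top hyx hyy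

/-- Isotropic vectors orthogonal to an isotropic vector span its perp. -/
lemma mem_span_iso_perp (hnd : Unitary.Nondeg h) (hm : 4 ≤ m) {b : V} (hb0 : b ≠ 0) (hb : h b b = 0)
    {x : V} (hx : h x b = 0) :
    x ∈ Submodule.span F {v : V | h v b = 0 ∧ h v v = 0} := by
  by_cases hxx : h x x = 0
  · exact Submodule.subset_span ⟨hx, hxx⟩
  obtain ⟨b', hb', h1, h2, -⟩ := exists_partner hF H hnd hb0 hb
  let P := perpF H ![b, b', x]
  obtain ⟨y, hy, hyy⟩ : ∃ y ∈ P, h y y ≠ 0 := by
    by_contra! hc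
    have hP : ∀ y : P, h (y : V) (y : V) = 0 := fun y => hc _ y.2
    have h0 : ∀ y : P, (y : V) = 0 := fun y => hnd _ fun z => by
      obtain ⟨hyb, hyb', hyx⟩ : h (y : V) b = 0 ∧ h (y : V) b' = 0 ∧ h (y : V) x = 0 :=
        ⟨(mem_perpF H).1 y.2 0, (mem_perpF H).1 y.2 1, (mem_perpF H).1 y.2 2⟩
      -- `x₀` is the part of `x` orthogonal to the hyperbolic pair
      set x0 := x - h x b' • b with hx0
      have a1 : h x0 b = 0 := by rw [hx0, H.sub_left, H.smul_left, hx, hb]; ring
      have a2 : h x0 b' = 0 := by rw [hx0, H.sub_left, H.smul_left, h2, mul_one, sub_self]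
      have hbx : h b x = 0 := (H.eq_zero_symm hF).1 hx
      have a3 : h x0 x = h x x := by rw [hx0, H.sub_left, H.smul_left, hbx]; ring
      have hbx' := (H.eq_zero_symm hF).1 a1
      have a4 : h x0 x0 = h x x := by
        rw [show h x0 x0 = h x0 (x - h x b' • b) from congrArg _ hx0, H.sub_right hF, H.smul_right,
          a1, a3]
        ring
      set z1 := z - h z b' • b - h z b • b' with hz1
      have c1 : h z1 b = 0 := by rw [hz1]; simp [H.sub_left, H.smul_left, hb, h1]
      have c2 : h z1 b' = 0 := by rw [hz1]; simp [H.sub_left, H.smul_left, hb', h2]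
      have hz : z1 - (h z1 x / h x x) • x0 ∈ P := (mem_perpF H).2 fun i => by
        rw [H.sub_left, H.smul_left]
        fin_cases i
        · show h z1 b - _ * h x0 b = 0
          rw [c1, a1]; ring
        · show h z1 b' - _ * h x0 b' = 0
          rw [c2, a2]; ring
        · show h z1 x - _ * h x0 x = 0
          rw [a3, div_mul_cancel₀ _ hxx, sub_self]
      have e := (H.comap P.subtype).eq_zero_of_isotropic hF hP y ⟨_, hz⟩
      simp only [Submodule.subtype_apply] at e
      simpa [H.sub_right hF, H.smul_right, hz1, hx0, hyb, hyb', hyx] using e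
    have : P = ⊥ := (Submodule.eq_bot_iff _).2 fun y hy => h0 ⟨y, hy⟩
    have h3 : m ≤ finrank F P + 3 := le_finrank_perpF H ![b, b', x]
    rw [this, finrank_bot] at h3
    omega
  have := mem_span_iso_of_aniso hF H (P := perpF H fun _ : Fin 1 => b) ((mem_perpF H).2 fun _ => hx)
    ((mem_perpF H).2 fun _ => (mem_perpF H).1 hy 0) ((mem_perpF H).1 hy 2) hyy
  refine Submodule.span_mono ?_ this
  exact fun v hv => ⟨(mem_perpF H).1 hv.1 0, hv.2⟩

/-- A map fixing every isotropic point is scalar. -/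
lemma scalar_of_iso_eigen (hnd : Unitary.Nondeg h) (hm : 2 ≤ m) {k : V →ₗ[F] V}
    (hk : ∀ r, h r r = 0 → ∃ d : F, k r = d • r) : ∃ c : F, ∀ x, k x = c • x := by
  have key : ∀ {r s : V} {d d' : F}, h r r = 0 → h s s = 0 → h r s ≠ 0 → k r = d • r → k s = d' • s →
      d = d' := by
    intro r s d d' hr hs hrs kr ks
    obtain ⟨e, he0, he⟩ := exists_skew hF
    have hsr : h s r ≠ 0 := fun h0 => hrs ((H.eq_zero_symm hF).1 h0)
    have e1 : h (r + (e / h s r) • s) (r + (e / h s r) • s) = 0 := by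
      rw [H.add_left, H.add_right hF, H.add_right hF, H.smul_left, H.smul_left, H.smul_right,
        H.smul_right, hr, hs, div_pow, H.conj_symm r s, he, pow_q_pow_q hF]
      field_simp
      ring
    obtain ⟨d'', hd⟩ := hk _ e1
    rw [map_add, map_smul, kr, ks] at hd
    have l1 := congrArg (fun z => h z s) hd
    have l2 := congrArg (fun z => h z r) hd
    simp only [H.add_left, H.smul_left, hs, hr, mul_zero, add_zero, zero_add] at l1 l2
    have h1 : d = d'' := mul_right_cancel₀ hrs l1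
    have h2 : d' = d'' := by
      exact mul_right_cancel₀ (mul_ne_zero (div_ne_zero he0 hsr) hsr) (by linear_combination l2)
    rw [h1, h2]
  obtain ⟨r0, hr0⟩ : ∃ r : V, h r r = 0 ∧ r ≠ 0 := by
    obtain ⟨x, -, hx0, hxx⟩ := exists_iso_in hF H (W := (⊤ : Submodule F V)) (by simpa)
    exact ⟨x, hxx, hx0⟩
  obtain ⟨c, hc⟩ := hk r0 hr0.1
  refine ⟨c, fun x => ?_⟩
  have hx := mem_span_iso hF H hnd hm x
  induction hx using Submodule.span_induction with
  | mem r hr =>
    obtain ⟨d, hd⟩ := hk r hr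
    by_cases hr00 : r = 0
    · simp [hr00]
    have : d = c := by
      by_cases hrr : h r r0 = 0
      · obtain ⟨y, hy, hyr, hy0⟩ := exists_nonorth hF H hnd hr00 hr hr0.2 hrr
        obtain ⟨d', hd'⟩ := hk y hy
        rw [← key hy hr hyr hd' hd, key hy hr0.1 hy0 hd' hc]
      · exact key hr hr0.1 hrr hd hc
    rw [hd, this]
  | zero => simp
  | add a b _ _ ha hb => rw [map_add, ha, hb, smul_add]
  | smul a v _ hv => rw [map_smul, hv, smul_comm]

/-- Totally isotropic families through a given point. -/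
lemma exists_ti {b : V} (hb0 : b ≠ 0) (hb : h b b = 0) :
    ∀ j, 2 * (j + 1) ≤ m →
      ∃ z : Fin (j + 1) → V, LinearIndependent F z ∧ (∀ i l, h (z i) (z l) = 0) ∧ z 0 = b := by
  intro j
  induction j with
  | zero => exact fun _ => ⟨fun _ => b, LinearIndependent.of_subsingleton (ι := Fin 1) 0 hb0, fun _ _ => hb, rfl⟩
  | succ j ih =>
    intro hj
    obtain ⟨z, hzi, hzz, hz0⟩ := ih (by omega)
    obtain ⟨C, hC⟩ := Submodule.exists_isCompl (Submodule.span F (Set.range z))
    have h1 := Submodule.finrank_add_eq_of_isCompl hC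
    rw [finrank_span_eq_card hzi, Fintype.card_fin, finrank_fin_fun] at h1
    have h2 := le_finrank_perpF H z
    have h3 := Submodule.finrank_sup_add_finrank_inf_eq (perpF H z) C
    have h4 := Submodule.finrank_le (perpF H z ⊔ C)
    rw [finrank_fin_fun] at h4
    obtain ⟨x, ⟨hxP, hxC⟩, hx0, hxx⟩ := exists_iso_in hF H (W := perpF H z ⊓ C) (by omega)
    have hxz := (mem_perpF H).1 hxP
    refine ⟨Fin.snoc z x, hzi.finSnoc fun hx => hx0 ?_, fun i l => ?_, ?_⟩
    · exact Submodule.disjoint_def.1 hC.disjoint x hx hxC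
    · induction i using Fin.lastCases with
      | last =>
        induction l using Fin.lastCases with
        | last => simpa using hxx
        | cast l => simpa using hxz l
      | cast i =>
        induction l using Fin.lastCases with
        | last => simpa using (H.eq_zero_symm hF).1 (hxz i)
        | cast l => simpa using hzz i l
    · rw [show (0 : Fin (j + 2)) = Fin.castSucc 0 from rfl, Fin.snoc_castSucc, hz0]

omit hF

/-! ### Eichler elements -/

/-- `z ↦ z + h(z,b) v - h(z,v) b + c h(z,b) b`. -/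
noncomputable def eich (H : IsHerm q h) (b v : V) (c : F) : GL (Fin m) F :=
  tv b ((c + h v v) • fl H b - fl H v) * tv v (fl H b)

lemma eich_apply {b v : V} (hb : h b b = 0) (hbv : h b v = 0) (hvb : h v b = 0) (c : F) (x : V) :
    app (eich H b v c) x = x + h x b • v - h x v • b + (c * h x b) • b := by
  rw [eich, map_mul, LinearEquiv.mul_apply, tv_apply (φ := fl H b) (by simp [hvb]),
    tv_apply (φ := (c + h v v) • fl H b - fl H v) (by simp [hb, hbv])]
  simp only [LinearMap.sub_apply, LinearMap.smul_apply, fl_apply, smul_eq_mul, H.add_left,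
    H.smul_left, hvb, mul_zero, add_zero]
  module

lemma eich_mem_sl (b v : V) (c : F) : eich H b v c ∈ Cfsg.Geo.specialLinear (Fin m) F :=
  mul_mem (tv_mem_sl _ _) (tv_mem_sl _ _)

include hF H

lemma eich_iso {b v : V} (hb : h b b = 0) (hvb : h v b = 0) {c : F}
    (hc : c + c ^ q = -(h v v)) : Iso h (eich H b v c) := fun x y => by
  have hbv := (H.eq_zero_symm hF).1 hvb
  rw [eich_apply H hb hbv hvb, eich_apply H hb hbv hvb]
  simp only [H.add_left, H.add_right hF, H.sub_left, H.sub_right hF, H.smul_left, H.smul_right,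
    hb, hbv, hvb, mul_zero, add_zero, sub_zero, mul_pow, H.conj_symm y b, H.conj_symm y v]
  linear_combination (h x b * h y b ^ q) * hc

end Cfsg.Agent.C4.Herm
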