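import Cfsg.Agent.Lib.C4.Basic
import Cfsg.Agent.Lib.C4.Unitary.Herm
import Cfsg.Agent.Lib.Unitary.Maximal

/-!
# A tensor product of two hermitian spaces
-/

set_option autoImplicit false
set_option linter.unusedSectionVars false

namespace Cfsg.Agent.C4

open Matrix Module Cfsg.Agent.Transvect Cfsg.Agent.Unitary Cfsg.Agent.C4.Herm
open scoped MatrixGroups

/-- `F^n = F^n₁ ⊗ F^n₂`, the standard hermitian form being the product of `h₁` and `h₂`. -/
structure UData0 (F : Type*) [Field F] [Fintype F] (q n n₁ n₂ : ℕ) where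
  D : TData (Fin n) F n₁ n₂
  h₁ : (Fin n₁ → F) → (Fin n₁ → F) → F
  h₂ : (Fin n₂ → F) → (Fin n₂ → F) → F
  hF : Fintype.card F = q ^ 2
  H₁ : Unitary.IsHerm q h₁
  nd₁ : Unitary.Nondeg h₁
  H₂ : Unitary.IsHerm q h₂
  nd₂ : Unitary.Nondeg h₂
  tensor : ∀ a w a' w', Cfsg.hermForm n F q (D.T a w) (D.T a' w') = h₁ a a' * h₂ w w'
  two_le : 2 ≤ n₁
  three_le : 3 ≤ n₂
  exc : ¬ (n₁ = 2 ∧ q = 2)

/-- The decomposition with unequal dimensions to which the maximality theorem applies. -/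
structure UData (F : Type*) [Field F] [Fintype F] (q n n₁ n₂ : ℕ) extends
    UData0 F q n n₁ n₂ where
  lt : n₁ < n₂
  six : 6 ≤ n

namespace UData0

variable {F : Type*} [Field F] [Fintype F] {q n n₁ n₂ : ℕ} (U : UData0 F q n n₁ n₂)

local notation "hh" => Cfsg.hermForm n F q

include U

lemma card_eq : n = n₁ * n₂ := by simpa using Fintype.card_congr U.D.e

lemma hermV : Unitary.IsHerm q (Cfsg.hermForm n F q) := hermForm_isHerm U.hF n

lemma two_le_q' : 2 ≤ q := Unitary.two_le_q U.hF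

/-- The subgroup to be proved maximal. -/
def stab : Subgroup (GL (Fin n) F) :=
  Cfsg.Geo.tensorProductSubgroup n₁ n₂ U.D.e U.D.P ⊓ suGL n F q

/-- The tensor group. -/
def tens : Subgroup (GL (Fin n) F) := Cfsg.Geo.tensorProductSubgroup n₁ n₂ U.D.e U.D.P

/-- The contraction with `b` in the second factor. -/
def cb (b : Fin n₂ → F) : (Fin n → F) →ₗ[F] (Fin n₁ → F) := U.D.ct (fl U.H₂ b)

lemma cb_T (b : Fin n₂ → F) (a : Fin n₁ → F) (w : Fin n₂ → F) :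
    U.cb b (U.D.T a w) = U.h₂ w b • a := U.D.ct_T _ a w

/-- The contraction with `a` in the first factor. -/
def lc (a : Fin n₁ → F) : (Fin n → F) →ₗ[F] (Fin n₂ → F) :=
  ∑ i, U.h₁ (Pi.single i 1) a • (LinearMap.proj i ∘ₗ U.D.row)

lemma lc_T (a a' : Fin n₁ → F) (w : Fin n₂ → F) : U.lc a (U.D.T a' w) = U.h₁ a' a • w := by
  simp only [lc, LinearMap.sum_apply, LinearMap.smul_apply, LinearMap.comp_apply,
    LinearMap.proj_apply, U.D.row_T, smul_smul, ← Finset.sum_smul]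
  congr 1
  conv_rhs => rw [pi_eq_sum_univ' a', U.H₁.sum_left]
  exact Finset.sum_congr rfl fun i _ => by rw [U.H₁.smul_left, mul_comm]

lemma herm_right (x : Fin n → F) (a : Fin n₁ → F) (w : Fin n₂ → F) :
    hh x (U.D.T a w) = U.h₁ (U.cb w x) a :=
  LinearMap.congr_fun (U.D.lin_ext (f := fl U.hermV (U.D.T a w)) (g := fl U.H₁ a ∘ₗ U.cb w)
    fun a' w' => by
      simp only [fl_apply, LinearMap.comp_apply, U.cb_T, U.tensor, U.H₁.smul_left, mul_comm]) x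

lemma herm_left (x : Fin n → F) (a : Fin n₁ → F) (w : Fin n₂ → F) :
    hh (U.D.T a w) x = U.h₁ a (U.cb w x) := by
  rw [U.hermV.conj_symm x, U.herm_right, ← U.H₁.conj_symm]

lemma herm_lc (x : Fin n → F) (a : Fin n₁ → F) (w : Fin n₂ → F) :
    hh x (U.D.T a w) = U.h₂ (U.lc a x) w :=
  LinearMap.congr_fun (U.D.lin_ext (f := fl U.hermV (U.D.T a w)) (g := fl U.H₂ w ∘ₗ U.lc a)
    fun a' w' => by
      simp only [fl_apply, LinearMap.comp_apply, U.lc_T, U.tensor, U.H₂.smul_left]) x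

lemma cb_eq_zero_iff {b : Fin n₂ → F} {x : Fin n → F} :
    U.cb b x = 0 ↔ ∀ a, hh x (U.D.T a b) = 0 := by
  refine ⟨fun h a => by rw [U.herm_right, h, U.H₁.zero_left], fun h => U.nd₁ _ fun a => ?_⟩
  rw [← U.herm_right, h]

lemma cb_line {b z : Fin n₂ → F} (h : U.h₂ b z = 0) {x : Fin n → F} (hx : x ∈ U.D.line b) :
    U.cb z x = 0 := U.D.ct_line (α := fl U.H₂ z) h hx

lemma mem_line_of_cb {b : Fin n₂ → F} {x : Fin n → F}
    (h : ∀ z, U.h₂ b z = 0 → U.cb z x = 0) : x ∈ U.D.line b := by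
  refine U.D.mem_line_of_ct fun α hα => ?_
  obtain ⟨z, rfl⟩ := exists_fl U.hF U.H₂ U.nd₂ α
  exact h z hα

lemma iso_of_T {g : GL (Fin n) F} (h : ∀ a w a' w', hh (app g (U.D.T a w)) (app g (U.D.T a' w')) =
    U.h₁ a a' * U.h₂ w w') : Iso (Cfsg.hermForm n F q) g := by
  have h1 : ∀ a' w' x, hh (app g x) (app g (U.D.T a' w')) = hh x (U.D.T a' w') := fun a' w' x =>
    LinearMap.congr_fun (U.D.lin_ext
      (f := fl U.hermV (app g (U.D.T a' w')) ∘ₗ (app g).toLinearMap)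
      (g := fl U.hermV (U.D.T a' w')) fun a w => by
        simp only [LinearMap.comp_apply, LinearEquiv.coe_coe, fl_apply, h, U.tensor]) x
  intro x y
  rw [U.hermV.conj_symm (app g y), U.hermV.conj_symm y]
  congr 1
  exact LinearMap.congr_fun (U.D.lin_ext
    (f := fl U.hermV (app g x) ∘ₗ (app g).toLinearMap) (g := fl U.hermV x) fun a w => by
      simp only [LinearMap.comp_apply, LinearEquiv.coe_coe, fl_apply]
      rw [U.hermV.conj_symm (app g x), h1, ← U.hermV.conj_symm]) y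

lemma mem_suGL_of_iso {g : GL (Fin n) F} (h : Iso (Cfsg.hermForm n F q) g)
    (hd : g ∈ Cfsg.Geo.specialLinear (Fin n) F) : g ∈ suGL n F q :=
  ⟨fun x y => h x y, hd⟩

lemma kr_iso {A : GL (Fin n₁) F} {B : GL (Fin n₂) F} (hA : Iso U.h₁ A) (hB : Iso U.h₂ B) :
    Iso (Cfsg.hermForm n F q) (U.D.kr A B) :=
  U.iso_of_T fun a w a' w' => by rw [U.D.app_kr, U.D.app_kr, U.tensor, hA, hB]

lemma kr_mem_stab {A : GL (Fin n₁) F} {B : GL (Fin n₂) F} (hA : Iso U.h₁ A) (hB : Iso U.h₂ B)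
    (hA' : A ∈ Cfsg.Geo.specialLinear (Fin n₁) F) (hB' : B ∈ Cfsg.Geo.specialLinear (Fin n₂) F) :
    U.D.kr A B ∈ U.stab :=
  ⟨U.D.kr_mem A B, U.mem_suGL_of_iso (U.kr_iso hA hB) (U.D.kr_mem_sl hA' hB')⟩

lemma iso_one {m : ℕ} (h : (Fin m → F) → (Fin m → F) → F) : Iso h (1 : GL (Fin m) F) :=
  fun x y => by simp

lemma cb_kr (b : Fin n₂ → F) (A : GL (Fin n₁) F) (B : GL (Fin n₂) F) (hB : Iso U.h₂ B)
    (x : Fin n → F) : U.cb (app B b) (app (U.D.kr A B) x) = app A (U.cb b x) :=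
  LinearMap.congr_fun (U.D.lin_ext (f := U.cb (app B b) ∘ₗ (app (U.D.kr A B)).toLinearMap)
    (g := (app A).toLinearMap ∘ₗ U.cb b) fun a w => by
      simp only [LinearMap.comp_apply, LinearEquiv.coe_coe, U.D.app_kr, U.cb_T, hB w b, map_smul]) x

/-- `1 ⊗ B`. -/
noncomputable def krR : GL (Fin n₂) F →* GL (Fin n) F :=
  MonoidHom.mk' (fun B => U.D.kr 1 B) fun B B' => U.D.gl_ext_T fun a w => by
    simp [map_mul, LinearEquiv.mul_apply, U.D.app_kr]

/-- `A ⊗ 1`. -/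
noncomputable def krL : GL (Fin n₁) F →* GL (Fin n) F :=
  MonoidHom.mk' (fun A => U.D.kr A 1) fun A A' => U.D.gl_ext_T fun a w => by
    simp [map_mul, LinearEquiv.mul_apply, U.D.app_kr]

/-- The root element `1 ⊗ t`. -/
noncomputable def R (b : Fin n₂ → F) (s : F) : GL (Fin n) F := U.D.kr 1 (tu U.H₂ b s)

/-- The element `t ⊗ 1`. -/
noncomputable def Lt (r : Fin n₁ → F) (s : F) : GL (Fin n) F := U.D.kr (tu U.H₁ r s) 1

lemma R_apply {b : Fin n₂ → F} (hb : U.h₂ b b = 0) (s : F) (x : Fin n → F) :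
    app (U.R b s) x = x + s • U.D.T (U.cb b x) b :=
  LinearMap.congr_fun (U.D.lin_ext (f := (app (U.R b s)).toLinearMap)
    (g := LinearMap.id + s • (U.D.T.flip b ∘ₗ U.cb b)) fun a w => by
      simp only [R, LinearEquiv.coe_coe, U.D.app_kr, tu_apply U.H₂ hb, LinearMap.add_apply,
        LinearMap.id_apply, LinearMap.smul_apply, LinearMap.comp_apply, LinearMap.flip_apply,
        U.cb_T, map_add, map_smul, map_one, LinearEquiv.coe_one, id_eq, smul_smul]) x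

lemma R_eq_rt {b : Fin n₂ → F} (hb : U.h₂ b b = 0) (s : F) :
    U.R b s = U.D.rt (s • LinearMap.id) b (fl U.H₂ b) :=
  gl_ext fun x => by
    rw [U.R_apply hb, U.D.rt_apply hb]
    simp [cb]

lemma R_mem {b : Fin n₂ → F} (hb : U.h₂ b b = 0) {s : F} (hs : s + s ^ q = 0) : U.R b s ∈ U.stab :=
  U.kr_mem_stab (U.iso_one _) (tu_iso U.hF U.H₂ hb hs) (one_mem _) (tu_mem_sl U.H₂ b s)

lemma Lt_mem {r : Fin n₁ → F} (hr : U.h₁ r r = 0) {s : F} (hs : s + s ^ q = 0) :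
    U.Lt r s ∈ U.stab :=
  U.kr_mem_stab (tu_iso U.hF U.H₁ hr hs) (U.iso_one _) (tu_mem_sl U.H₁ r s) (one_mem _)

/-- All long root operators of `M` are scalar. -/
def Scal (M : Subgroup (GL (Fin n) F)) : Prop :=
  ∀ b, b ≠ 0 → U.h₂ b b = 0 → ∀ k : (Fin n₁ → F) →ₗ[F] (Fin n₁ → F),
    U.D.rt k b (fl U.H₂ b) ∈ M → ∃ c : F, ∀ a, k a = c • a

/-- Isotropic points of the second factor are conjugate. -/
lemma exists_move_line {b b' : Fin n₂ → F} (hb0 : b ≠ 0) (hb : U.h₂ b b = 0) (hb0' : b' ≠ 0)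
    (hb' : U.h₂ b' b' = 0) :
    ∃ g ∈ U.stab, ∀ x, x ∈ U.D.line b → app g x ∈ U.D.line b' := by
  obtain ⟨B, hB, ρ, -, hBb⟩ := exists_move U.hF U.H₂ U.nd₂ (K := U.stab.comap U.krR)
    (fun v c hv hc => U.R_mem hv hc) hb0 hb hb0' hb'
  refine ⟨U.krR B, hB, ?_⟩
  rintro _ ⟨a, rfl⟩
  show app (U.D.kr 1 B) (U.D.T a b) ∈ _
  rw [U.D.app_kr, hBb, map_smul]
  exact Submodule.smul_mem _ _ (U.D.mem_line _)

/-- A vector with few rows is annihilated by an isotropic contraction. -/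
lemma exists_cb_zero {x : Fin n → F} {W : Submodule F (Fin n₂ → F)} (hW : finrank F W + 2 ≤ n₂)
    (hx : ∀ i, U.D.row x i ∈ W) : ∃ z, z ≠ 0 ∧ U.h₂ z z = 0 ∧ U.cb z x = 0 := by
  obtain ⟨z, hz0, hz, hzW⟩ := exists_iso_perp U.hF U.H₂ hW
  exact ⟨z, hz0, hz, funext fun i => hzW _ (hx i)⟩

lemma mem_span_T (x : Fin n → F) :
    x ∈ Submodule.span F {y : Fin n → F | ∃ a w, U.D.T a w = y} := by
  rw [← U.D.sum_T_row x]
  exact Submodule.sum_mem _ fun i _ => Submodule.subset_span ⟨_, _, rfl⟩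

end UData0

namespace UData

variable {F : Type*} [Field F] [Fintype F] {q n n₁ n₂ : ℕ} (U : UData F q n n₁ n₂)

include U

lemma four_le [h7 : Fact (7 ≤ n)] : 4 ≤ n₂ := by
  have h1 := U.card_eq
  have h2 := h7.out
  have h3 := U.lt
  by_contra! h
  have h4 : n₁ * n₂ ≤ 2 * 3 := Nat.mul_le_mul (by omega) (by omega)
  omega

end UData

end Cfsg.Agent.C4
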