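import Cfsg.Agent.Lib.Unitary.Field
import Mathlib.FieldTheory.ChevalleyWarning
import Mathlib.LinearAlgebra.Matrix.Determinant.Basic

/-!
# Chevalley-Warning over the fixed field

A polynomial over `F` of degree less than the number of variables, whose values at rational points
are rational, has a nontrivial rational zero.
-/

set_option autoImplicit false

namespace Cfsg.Agent.C4.Herm

open MvPolynomial Cfsg.Agent.Unitary

variable {F : Type*} [Field F] [Fintype F] {q d : ℕ}

theorem exists_rat_zero (hF : Fintype.card F = q ^ 2) (P : MvPolynomial (Fin d) F)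
    (hdeg : P.totalDegree < d) (h0 : eval 0 P = 0)
    (hfix : ∀ x : Fin d → F, (∀ i, x i ^ q = x i) → eval x P ^ q = eval x P) :
    ∃ x : Fin d → F, x ≠ 0 ∧ (∀ i, x i ^ q = x i) ∧ eval x P = 0 := by
  classical
  obtain ⟨t, ht⟩ := exists_trace_eq hF (one_pow q : (1 : F) ^ q = 1)
  set K := fixedField hF with hK
  set P' := C t * P + C (t ^ q) * map (Cfsg.Agent.Unitary.conjHom hF) P with hP'
  have hc : ∀ m, coeff m P' ^ q = coeff m P' := fun m => by
    simp only [hP', coeff_add, coeff_C_mul, coeff_map, Cfsg.Agent.Unitary.conjHom_apply, add_pow_q hF, mul_pow,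
      pow_q_pow_q hF]
    ring
  let P0 : MvPolynomial (Fin d) K := ∑ m ∈ P'.support, monomial m ⟨coeff m P', hc m⟩
  have hmap : map K.subtype P0 = P' := by
    conv_rhs => rw [P'.as_sum]
    simp only [P0, map_sum, map_monomial]
    rfl
  have hdeg' : P'.totalDegree ≤ P.totalDegree := by
    refine (totalDegree_add _ _).trans (max_le ?_ ?_)
    · refine (totalDegree_mul _ _).trans ?_
      simp
    · refine (totalDegree_mul _ _).trans ?_
      rw [totalDegree_C, zero_add]
      refine Finset.sup_le fun m hm => ?_
      exact le_totalDegree (support_map_subset _ _ hm)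
  have hdeg0 : P0.totalDegree < d := by
    refine lt_of_le_of_lt ((totalDegree_finsetSum _ _).trans (Finset.sup_le fun m hm => ?_)) hdeg
    by_cases hz : (⟨coeff m P', hc m⟩ : K) = 0
    · simp [hz]
    · rw [totalDegree_monomial _ hz]
      exact (le_totalDegree hm).trans hdeg'
  have heval : ∀ x : Fin d → K, (eval x P0 : F) = eval (fun i => (x i : F)) P := fun x => by
    have e1 : (eval x P0 : F) = eval (fun i => (x i : F)) P' := by
      rw [← hmap, eval_map]
      exact eval₂_comp_left K.subtype (RingHom.id K) x P0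
    have e2 : Cfsg.Agent.Unitary.conjHom hF (eval (fun i => (x i : F)) P) =
        eval (fun i => (x i : F)) (map (Cfsg.Agent.Unitary.conjHom hF) P) := by
      have := eval₂_comp_left (Cfsg.Agent.Unitary.conjHom hF) (RingHom.id F) (fun i => (x i : F)) P
      rw [eval_map]
      refine this.trans ?_
      congr 1
      funext i
      exact (x i).2
    rw [e1, hP', map_add, map_mul, map_mul, eval_C, eval_C, ← e2, Cfsg.Agent.Unitary.conjHom_apply,
      hfix _ fun i => (x i).2]
    linear_combination eval (fun i => (x i : F)) P * ht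
  obtain ⟨p, hchar⟩ := CharP.exists F
  have : Fact p.Prime := ⟨(CharP.char_is_prime_or_zero F p).resolve_right
    (CharP.char_ne_zero_of_finite F p)⟩
  have : CharP K p := (RingHom.charP_iff K.subtype Subtype.val_injective p).2 inferInstance
  have hdvd := char_dvd_card_solutions p (f := P0) (by simpa using hdeg0)
  have hz0 : eval (0 : Fin d → K) P0 = 0 := Subtype.ext ((heval 0).trans (by simpa using h0))
  obtain ⟨⟨x, hx⟩, hne⟩ := Fintype.exists_ne_of_one_lt_card
    (lt_of_lt_of_le (Fact.out : p.Prime).one_lt
      (Nat.le_of_dvd (Fintype.card_pos_iff.2 ⟨⟨0, hz0⟩⟩) (by convert hdvd using 3)))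
    (⟨0, hz0⟩ : {x : Fin d → K // eval x P0 = 0})
  refine ⟨fun i => (x i : F), fun h => hne (Subtype.ext (funext fun i => Subtype.ext ?_)),
    fun i => (x i).2, by rw [← heval, hx]; rfl⟩
  exact congrFun h i

omit [Fintype F] in
theorem totalDegree_det_le {σ : Type*} {k e : ℕ}
    (M : Matrix (Fin k) (Fin k) (MvPolynomial σ F)) (h : ∀ i j, (M i j).totalDegree ≤ e) :
    M.det.totalDegree ≤ k * e := by
  rw [Matrix.det_apply]
  refine (totalDegree_finsetSum _ _).trans (Finset.sup_le fun s _ => ?_)
  rw [Units.smul_def]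
  refine (totalDegree_smul_le _ _).trans ((totalDegree_finsetProd _ _).trans ?_)
  exact (Finset.sum_le_sum fun i _ => h _ _).trans (by simp)

omit [Fintype F] in
theorem eval_det {σ : Type*} {k : ℕ} (M : Matrix (Fin k) (Fin k) (MvPolynomial σ F)) (x : σ → F) :
    eval x M.det = (Matrix.of fun i j => eval x (M i j)).det := by
  rw [RingHom.map_det]; rfl

end Cfsg.Agent.C4.Herm
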