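import Cfsg.Agent.Lib.C4.Unitary.Stab
import Cfsg.Agent.Lib.C4.Unitary.Chevalley

/-!
# Degenerate pairs of lines

If `g (A ⊗ b')` meets `(A ⊗ b)^⊥` for some `g ∈ M` then `g` is a tensor: by Chevalley-Warning a
suitable element `1 ⊗ (1 + N)` always increases the intersection of `g (A ⊗ b')` with `A ⊗ b`.
-/

set_option autoImplicit false
set_option linter.unusedSectionVars false

namespace Cfsg.Agent.C4

open Matrix Module Cfsg.Agent.Transvect Cfsg.Agent.Unitary Cfsg.Agent.C4.Herm
open scoped MatrixGroups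

namespace UData

variable {F : Type*} [Field F] [Fintype F] {q n n₁ n₂ : ℕ} (U : UData F q n n₁ n₂)

local notation "hh" => Cfsg.hermForm n F q

include U

lemma exists_tens {g : GL (Fin n) F} (hg : g ∈ U.tens) :
    ∃ (A : GL (Fin n₁) F) (B : GL (Fin n₂) F), ∀ a w, app g (U.D.T a w) = U.D.T (app A a) (app B w) := by
  obtain ⟨A, B, rfl⟩ := U.D.exists_of_mem hg
  exact ⟨A, B, U.D.app_kr A B⟩

lemma exists_ne_zero_left : ∃ a : Fin n₁ → F, a ≠ 0 := by
  have : Nonempty (Fin n₁) := ⟨⟨0, by have := U.two_le; omega⟩⟩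
  exact exists_ne 0

lemma exists_dual_family {k : ℕ} {z : Fin k → (Fin n₂ → F)} (hz : LinearIndependent F z) (i : Fin k) :
    ∃ w, ∀ l, U.h₂ (z l) w = if l = i then 1 else 0 := by
  obtain ⟨L, hL⟩ := LinearMap.exists_leftInverse_of_injective (Fintype.linearCombination F z)
    (LinearMap.ker_eq_bot.2 (linearIndependent_iff_injective_fintypeLinearCombination.1 hz))
  obtain ⟨w, hw⟩ := exists_fl U.hF U.H₂ U.nd₂ (LinearMap.proj i ∘ₗ L)
  refine ⟨w, fun l => ?_⟩
  have h1 : L (z l) = Pi.single l 1 := by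
    have := LinearMap.congr_fun hL (Pi.single l 1)
    rwa [LinearMap.comp_apply, Fintype.linearCombination_apply_single, one_smul] at this
  rw [← fl_apply U.H₂, hw, LinearMap.comp_apply, LinearMap.proj_apply, h1, Pi.single_apply]
  simp [eq_comm]

/-! ### The elements `1 ⊗ (1 + N)` -/

/-- The operator on the second factor given by a matrix on a totally isotropic family. -/
def nB {m : ℕ} (z : Fin m → (Fin n₂ → F)) (C : Matrix (Fin m) (Fin m) F) :
    (Fin n₂ → F) →ₗ[F] (Fin n₂ → F) :=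
  ∑ i, ∑ l, C i l • (fl U.H₂ (z l)).smulRight (z i)

/-- The same operator on `V`. -/
def nV {m : ℕ} (z : Fin m → (Fin n₂ → F)) (C : Matrix (Fin m) (Fin m) F) :
    (Fin n → F) →ₗ[F] (Fin n → F) :=
  ∑ i, ∑ l, C i l • (U.D.T.flip (z i) ∘ₗ U.cb (z l))

/-- `1 ⊗ (1 + N)`. -/
noncomputable def nEl {m : ℕ} (z : Fin m → (Fin n₂ → F)) (C : Matrix (Fin m) (Fin m) F) :
    GL (Fin n) F :=
  U.D.kr 1 (unip (U.nB z C))

section NEl

variable {m : ℕ} {z : Fin m → (Fin n₂ → F)} (hz : ∀ i l, U.h₂ (z i) (z l) = 0)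
  {C : Matrix (Fin m) (Fin m) F}

lemma nV_apply (x : Fin n → F) :
    U.nV z C x = ∑ i, ∑ l, C i l • U.D.T (U.cb (z l) x) (z i) := by
  simp [nV]

lemma nV_T (a : Fin n₁ → F) (w : Fin n₂ → F) : U.nV z C (U.D.T a w) = U.D.T a (U.nB z C w) := by
  simp [U.nV_apply, nB, U.cb_T, map_sum, LinearMap.sum_apply]

include hz

lemma nB_sq (w : Fin n₂ → F) : U.nB z C (U.nB z C w) = 0 := by
  have h1 : ∀ l, U.h₂ (U.nB z C w) (z l) = 0 := fun l => by
    simp [nB, U.H₂.sum_left, U.H₂.smul_left, hz, LinearMap.sum_apply]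
  conv_lhs => arg 1; simp only [nB]
  simp [LinearMap.sum_apply, h1]

lemma nEl_apply (x : Fin n → F) : app (U.nEl z C) x = x + U.nV z C x :=
  LinearMap.congr_fun (U.D.lin_ext (f := (app (U.nEl z C)).toLinearMap)
    (g := LinearMap.id + U.nV z C) fun a w => by
      simp only [nEl, LinearEquiv.coe_coe, U.D.app_kr, unip_apply (U.nB_sq hz), map_add,
        LinearMap.add_apply, LinearMap.id_apply, U.nV_T, map_one, LinearEquiv.coe_one, id_eq]) x

lemma cb_nV (i : Fin m) (x : Fin n → F) : U.cb (z i) (U.nV z C x) = 0 := by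
  simp [U.nV_apply, U.cb_T, hz]

lemma nV_sq (x : Fin n → F) : U.nV z C (U.nV z C x) = 0 := by
  rw [U.nV_apply (U.nV z C x)]
  simp [U.cb_nV hz]

variable (hC : ∀ i l, C l i ^ q = -(C i l))
include hC

lemma nEl_mem : U.nEl z C ∈ U.stab := by
  refine U.kr_mem_stab (U.iso_one _) (fun x y => ?_) (one_mem _) (unip_mem_sl _)
  rw [unip_apply (U.nB_sq hz), unip_apply (U.nB_sq hz)]
  have h1 : ∀ l, U.h₂ (U.nB z C x) (z l) = 0 := fun l => by
    simp [nB, U.H₂.sum_left, U.H₂.smul_left, hz, LinearMap.sum_apply]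
  have h2 : U.h₂ (U.nB z C x) (U.nB z C y) = 0 := by
    simp [nB, U.H₂.sum_right U.hF, U.H₂.smul_right, LinearMap.sum_apply] at h1 ⊢
    simp [h1]
  have h3 : U.h₂ (U.nB z C x) y + U.h₂ x (U.nB z C y) = 0 := by
    simp only [nB, LinearMap.sum_apply, LinearMap.smul_apply, LinearMap.smulRight_apply, fl_apply,
      U.H₂.sum_left, U.H₂.sum_right U.hF, U.H₂.smul_left, U.H₂.smul_right]
    conv_lhs => arg 2; rw [Finset.sum_comm]
    rw [← Finset.sum_add_distrib]
    refine Finset.sum_eq_zero fun i _ => ?_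
    rw [← Finset.sum_add_distrib]
    refine Finset.sum_eq_zero fun l _ => ?_
    rw [hC i l, U.H₂.conj_symm y (z i)]
    ring
  simp only [U.H₂.add_left, U.H₂.add_right U.hF, h2]
  linear_combination h3

end NEl

/-- Fewer vectors than parameters have a degenerate combination. -/
lemma exists_degen {m k : ℕ} (z : Fin m → (Fin n₂ → F)) (hz : ∀ i l, U.h₂ (z i) (z l) = 0)
    (y : Fin k → (Fin n → F)) (hk : 0 < k) (hkm : k < m * m) :
    ∃ C : Matrix (Fin m) (Fin m) F, C ≠ 0 ∧ (∀ i l, C l i ^ q = -(C i l)) ∧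
      ∃ c : Fin k → F, c ≠ 0 ∧ ∀ l, hh (U.nV z C (∑ i, c i • y i)) (y l) = 0 := by
  classical
  obtain ⟨ω, hω, hω1⟩ : ∃ ω : F, ω + ω ^ q = 1 ∧ ω ^ q ≠ ω := by
    obtain ⟨t, ht⟩ := exists_trace_eq U.hF (one_pow q : (1 : F) ^ q = 1)
    by_cases h : t ^ q = t
    · obtain ⟨d, hd0, hd⟩ := exists_skew U.hF
      refine ⟨t + d, by rw [add_pow_q U.hF, hd]; linear_combination ht, fun h2 => ?_⟩
      rw [add_pow_q U.hF, h, hd, add_right_inj] at h2
      have h3 : (2 : F) * d = 0 := by linear_combination -h2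
      rcases mul_eq_zero.1 h3 with h4 | h4
      · exact one_ne_zero (ht.symm.trans (by rw [h]; linear_combination t * h4))
      · exact hd0 h4
    · exact ⟨t, ht, h⟩
  obtain ⟨e, he0, he⟩ := exists_skew U.hF
  let π := (finProdFinEquiv : Fin m × Fin m ≃ Fin (m * m))
  let Cx : (Fin (m * m) → F) → Matrix (Fin m) (Fin m) F :=
    fun x => Matrix.of fun a b => ω * x (π (a, b)) - ω ^ q * x (π (b, a))
  let E : Matrix (Fin k) (Fin k) (MvPolynomial (Fin (m * m)) F) := Matrix.of fun i l =>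
    ∑ a, ∑ b, MvPolynomial.C (e * U.h₁ (U.cb (z b) (y i)) (U.cb (z a) (y l))) *
      (MvPolynomial.C ω * MvPolynomial.X (π (a, b)) -
        MvPolynomial.C (ω ^ q) * MvPolynomial.X (π (b, a)))
  have hEval : ∀ x i l, MvPolynomial.eval x (E i l) = e * hh (U.nV z (Cx x) (y i)) (y l) := by
    intro x i l
    simp only [E, Matrix.of_apply, map_sum, map_mul, map_sub, MvPolynomial.eval_C,
      MvPolynomial.eval_X, U.nV_apply, U.hermV.sum_left, U.hermV.smul_left, U.herm_left,
      Finset.mul_sum, Cx]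
    exact Finset.sum_congr rfl fun a _ => Finset.sum_congr rfl fun b _ => by ring
  have hskew : ∀ x : Fin (m * m) → F, (∀ i, x i ^ q = x i) → ∀ i l, Cx x l i ^ q = -(Cx x i l) := by
    intro x hx i l
    simp only [Cx, Matrix.of_apply, sub_pow_q U.hF, mul_pow, hx, pow_q_pow_q U.hF]
    ring
  obtain ⟨x, hx0, hx, hdet⟩ := exists_rat_zero U.hF E.det
    (lt_of_le_of_lt (totalDegree_det_le (e := 1) E fun i l => by
      simp only [E, Matrix.of_apply]
      refine (MvPolynomial.totalDegree_finsetSum _ _).trans (Finset.sup_le fun a _ => ?_)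
      refine (MvPolynomial.totalDegree_finsetSum _ _).trans (Finset.sup_le fun b _ => ?_)
      refine (MvPolynomial.totalDegree_mul _ _).trans ?_
      rw [MvPolynomial.totalDegree_C, zero_add]
      refine (MvPolynomial.totalDegree_sub _ _).trans (max_le ?_ ?_) <;>
      · refine (MvPolynomial.totalDegree_mul _ _).trans ?_
        rw [MvPolynomial.totalDegree_C, MvPolynomial.totalDegree_X, zero_add]) (by simpa using hkm))
    (by
      rw [Herm.eval_det]
      have : Nonempty (Fin k) := ⟨⟨0, hk⟩⟩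
      refine (congrArg Matrix.det (Matrix.ext fun i l => ?_)).trans Matrix.det_zero
      simp [E])
    (fun x hx => by
      rw [Herm.eval_det, ← Cfsg.Agent.Unitary.conjHom_apply U.hF, RingHom.map_det,
        ← Matrix.det_transpose (M := Matrix.of fun i j => MvPolynomial.eval x (E i j))]
      congr 1
      funext i l
      simp only [RingHom.mapMatrix_apply, Matrix.map_apply, Matrix.of_apply, Matrix.transpose_apply,
        Cfsg.Agent.Unitary.conjHom_apply, hEval, mul_pow, he, ← U.hermV.conj_symm]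
      have hanti : hh (U.nV z (Cx x) (y l)) (y i) + hh (y l) (U.nV z (Cx x) (y i)) = 0 := by
        have h1 : hh (app (U.nEl z (Cx x)) (y l)) (app (U.nEl z (Cx x)) (y i)) = hh (y l) (y i) :=
          (U.nEl_mem hz (hskew x hx)).2.1 (y l) (y i)
        rw [U.nEl_apply hz, U.nEl_apply hz, U.hermV.add_left,
          U.hermV.add_right U.hF, U.hermV.add_right U.hF] at h1
        have h2 : hh (U.nV z (Cx x) (y l)) (U.nV z (Cx x) (y i)) = 0 := by
          rw [U.nV_apply (y i), U.hermV.sum_right U.hF]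
          refine Finset.sum_eq_zero fun a _ => ?_
          rw [U.hermV.sum_right U.hF]
          refine Finset.sum_eq_zero fun b _ => ?_
          rw [U.hermV.smul_right, U.herm_right, U.cb_nV hz, U.H₁.zero_left, mul_zero]
        linear_combination h1 - h2
      linear_combination -e * hanti)
  have hC0 : Cx x ≠ 0 := fun h0 => hx0 (funext fun p => by
    obtain ⟨⟨a, b⟩, rfl⟩ := π.surjective p
    have h1 := congrFun (congrFun h0 a) b
    have h2 := congrFun (congrFun h0 b) a
    simp only [Cx, Matrix.of_apply, Matrix.zero_apply] at h1 h2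
    have h3 : (ω - ω ^ q) * x (π (a, b)) = 0 := by
      linear_combination ω * h1 + ω ^ q * h2 -
        (ω - ω ^ q) * x (π (a, b)) * hω
    exact (mul_eq_zero.1 h3).resolve_left (sub_ne_zero.2 (Ne.symm hω1)))
  obtain ⟨c, hc, hcE⟩ := Matrix.exists_vecMul_eq_zero_iff.2 ((Herm.eval_det E x).symm.trans hdet)
  refine ⟨Cx x, hC0, hskew x hx, c, hc, fun l => ?_⟩
  have h1 := congrFun hcE l
  simp only [Matrix.vecMul, dotProduct, Matrix.of_apply, hEval, Pi.zero_apply] at h1
  refine (mul_eq_zero.1 (show e * _ = 0 from ?_)).resolve_left he0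
  rw [← h1, map_sum, U.hermV.sum_left, Finset.mul_sum]
  exact Finset.sum_congr rfl fun i _ => by rw [map_smul, U.hermV.smul_left]; ring

variable {M : Subgroup (GL (Fin n) F)} (hHM : U.stab ≤ M) (hMK : M ≤ suGL n F q) (hS : U.Scal M)

include hHM hMK hS

/-- An element mapping an isotropic line of tensors onto another one is a tensor. -/
lemma mem_tens_of_map {b b' : Fin n₂ → F} (hb0 : b ≠ 0) (hb : U.h₂ b b = 0) (hb'0 : b' ≠ 0)
    (hb' : U.h₂ b' b' = 0) {g : GL (Fin n) F} (hg : g ∈ M)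
    (h : ∀ a, app g (U.D.T a b') ∈ U.D.line b) : g ∈ U.tens := by
  obtain ⟨m, hm, hmb⟩ := U.exists_move_line hb0 hb hb'0 hb'
  have h1 : g * m ∈ U.tens := U.mem_tens_of_stab hHM hMK hS hb0 hb (mul_mem hg (hHM hm)) fun a => by
    obtain ⟨a', ha'⟩ := hmb _ (U.D.mem_line a)
    rw [map_mul, LinearEquiv.mul_apply, ← ha']
    exact h a'
  simpa using mul_mem h1 (inv_mem hm.1)

/-- An element conjugating a root element into the tensor group is a tensor. -/
lemma mem_tens_of_root {b : Fin n₂ → F} (hb0 : b ≠ 0) (hb : U.h₂ b b = 0) {s : F}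
    (hs : s + s ^ q = 0) (hs0 : s ≠ 0) {g : GL (Fin n) F} (hg : g ∈ M)
    (h : g⁻¹ * U.R b s * g ∈ U.tens) : g ∈ U.tens := by
  obtain ⟨A, B, hAB⟩ := U.exists_tens h
  set W := (U.D.line b).map (app g⁻¹).toLinearMap
  have hW : ∀ x, app (g⁻¹ * U.R b s * g) x - x ∈ W := fun x => by
    refine ⟨s • U.D.T (U.cb b (app g x)) b, Submodule.smul_mem _ _ (U.D.mem_line _), ?_⟩
    rw [map_mul, map_mul, LinearEquiv.mul_apply, LinearEquiv.mul_apply, U.R_apply hb, map_add,
      app_inv_app, add_sub_cancel_left]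
    rfl
  have hWdim : finrank F W = n₁ :=
    (LinearEquiv.finrank_map_eq (app g⁻¹) _).trans (U.D.finrank_line hb0)
  obtain ⟨c, hc⟩ : ∃ c : F, ∀ a, app A a = c • a := by
    refine scalar_of_iso_eigen U.hF U.H₁ U.nd₁ U.two_le (k := (app A).toLinearMap) fun a _ => ?_
    by_contra! hne
    let L : (Fin n₂ → F) →ₗ[F] W := LinearMap.codRestrict W
      (((app (g⁻¹ * U.R b s * g)).toLinearMap - LinearMap.id) ∘ₗ U.D.T a) fun w => hW _
    have hL : Function.Injective L := (injective_iff_map_eq_zero L).2 fun w hw => by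
      have h1 := congrArg Subtype.val hw
      simp only [L, LinearMap.codRestrict_apply, LinearMap.comp_apply, LinearMap.sub_apply,
        LinearEquiv.coe_coe, LinearMap.id_apply, hAB, ZeroMemClass.coe_zero, sub_eq_zero] at h1
      by_contra hw0
      obtain ⟨α, hα⟩ := TData.exists_dual ((app B).map_ne_zero_iff.2 hw0)
      have h2 := congrArg (U.D.ct α) h1
      rw [U.D.ct_T, U.D.ct_T, hα, one_smul] at h2
      exact hne _ h2
    have := LinearMap.finrank_le_finrank_of_injective hL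
    rw [hWdim, finrank_fin_fun] at this
    exact absurd U.lt (by omega)
  obtain ⟨w0, hw0⟩ : ∃ w, c • app B w - w ≠ 0 := by
    by_contra! h0
    obtain ⟨x, hx⟩ := exists_pair U.hF U.H₂ U.nd₂ hb0
    obtain ⟨a, ha⟩ := U.exists_ne_zero_left
    have e1 : app (g⁻¹ * U.R b s * g) (app g⁻¹ (U.D.T a x)) = app g⁻¹ (U.D.T a x) := by
      have e2 : g⁻¹ * U.R b s * g = 1 := U.D.gl_ext_T fun a w => by
        rw [hAB, hc, map_smul, LinearMap.smul_apply, ← map_smul, sub_eq_zero.1 (h0 w)]
        simp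
      rw [e2]; simp
    rw [map_mul, map_mul, LinearEquiv.mul_apply, LinearEquiv.mul_apply, app_app_inv,
      U.R_apply hb, map_add, add_eq_left, (app g⁻¹).map_eq_zero_iff, smul_eq_zero, U.cb_T, hx,
      one_smul] at e1
    exact ha ((U.D.T_eq_zero (e1.resolve_left hs0)).resolve_right hb0)
  set b' := c • app B w0 - w0
  have hle : U.D.line b' ≤ W := by
    rintro _ ⟨a, rfl⟩
    have h1 := hW (U.D.T a w0)
    rw [hAB, hc, map_smul, LinearMap.smul_apply, ← map_smul, ← map_sub] at h1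
    exact h1
  have hmap : ∀ a, app g (U.D.T a b') ∈ U.D.line b := fun a => by
    obtain ⟨y, hy, hy'⟩ := hle (U.D.mem_line a)
    rw [← hy']
    show app g (app g⁻¹ y) ∈ _
    rwa [app_app_inv]
  have hb' : U.h₂ b' b' = 0 := by
    obtain ⟨a, ha⟩ := U.exists_ne_zero_left
    obtain ⟨a', ha'⟩ := exists_pair U.hF U.H₁ U.nd₁ ha
    obtain ⟨d, hd⟩ := hmap a'
    obtain ⟨d', hd'⟩ := hmap a
    have h1 := U.iso_of_mem hMK hg (U.D.T a' b') (U.D.T a b')
    rw [← hd, ← hd'] at h1
    simp only [LinearMap.flip_apply, U.tensor, hb, mul_zero, ha', one_mul] at h1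
    exact h1.symm
  exact U.mem_tens_of_map hHM hMK hS hb0 hb hw0 hb' hg hmap

omit hS hMK hHM

/-- The part of `g (A ⊗ b')` orthogonal to `A ⊗ b`. -/
def degSub (g : GL (Fin n) F) (b b' : Fin n₂ → F) : Submodule F (Fin n → F) :=
  LinearMap.ker (U.cb b) ⊓ (U.D.line b').map (app g).toLinearMap

/-- The part of `g (A ⊗ b')` in `A ⊗ b`. -/
def meetSub (g : GL (Fin n) F) (b b' : Fin n₂ → F) : Submodule F (Fin n → F) :=
  U.D.line b ⊓ (U.D.line b').map (app g).toLinearMap

include hMK

lemma herm_image {g : GL (Fin n) F} (hg : g ∈ M) {b' : Fin n₂ → F} (hb' : U.h₂ b' b' = 0)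
    {x y : Fin n → F} (hx : x ∈ (U.D.line b').map (app g).toLinearMap)
    (hy : y ∈ (U.D.line b').map (app g).toLinearMap) : hh x y = 0 := by
  obtain ⟨_, ⟨a, rfl⟩, rfl⟩ := hx
  obtain ⟨_, ⟨a', rfl⟩, rfl⟩ := hy
  simp only [LinearEquiv.coe_coe, LinearMap.flip_apply]
  rw [U.iso_of_mem hMK hg, U.tensor, hb', mul_zero]

include hHM hS

lemma deg_of_meet {j : ℕ}
    (IH : ∀ g ∈ M, ∀ b b', b ≠ 0 → b' ≠ 0 → U.h₂ b b = 0 → U.h₂ b' b' = 0 →
      j ≤ finrank F (U.meetSub g b b') → g ∈ U.tens)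
    {g : GL (Fin n) F} (hg : g ∈ M) {b b' : Fin n₂ → F} (hb0 : b ≠ 0) (hb'0 : b' ≠ 0)
    (hb : U.h₂ b b = 0) (hb' : U.h₂ b' b' = 0) (h : j ≤ finrank F (U.degSub g b b')) :
    g ∈ U.tens := by
  obtain ⟨s, hs0, hs⟩ := exists_skew U.hF
  have hs' : s + s ^ q = 0 := by rw [hs, add_neg_cancel]
  have hle : (U.degSub g b b').map (app g⁻¹).toLinearMap ≤
      U.meetSub (g⁻¹ * U.R b s * g) b' b' := by
    rintro _ ⟨x, ⟨hx1, y, hy, rfl⟩, rfl⟩
    simp only [LinearEquiv.coe_coe]
    rw [app_inv_app]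
    refine ⟨hy, y, hy, ?_⟩
    simp only [LinearEquiv.coe_coe, map_mul, LinearEquiv.mul_apply, U.R_apply hb]
    rw [show U.cb b (app g y) = 0 from hx1]
    simp only [map_zero, LinearMap.zero_apply, smul_zero, add_zero, app_inv_app]
  refine U.mem_tens_of_root hHM hMK hS hb0 hb hs' hs0 hg
    (IH _ (mul_mem (mul_mem (inv_mem hg) (hHM (U.R_mem hb hs'))) hg) b' b' hb'0 hb'0 hb' hb'
      (h.trans ?_))
  rw [← LinearEquiv.finrank_map_eq (app g⁻¹)]
  exact Submodule.finrank_mono hle

variable [Fact (7 ≤ n)]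

/-- Lines meeting after applying `g` make `g` a tensor. -/
theorem mem_tens_of_meet : ∀ (d j : ℕ), 0 < j → n₁ ≤ j + d → ∀ g ∈ M, ∀ b b', b ≠ 0 → b' ≠ 0 →
    U.h₂ b b = 0 → U.h₂ b' b' = 0 → j ≤ finrank F (U.meetSub g b b') → g ∈ U.tens := by
  intro d
  induction d with
  | zero =>
    intro j _ hj g hg b b' hb0 hb'0 hb hb' h
    have hdim : finrank F ((U.D.line b').map (app g).toLinearMap) = n₁ :=
      (LinearEquiv.finrank_map_eq (app g) _).trans (U.D.finrank_line hb'0)
    have heq : U.meetSub g b b' = (U.D.line b').map (app g).toLinearMap :=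
      Submodule.eq_of_le_of_finrank_le inf_le_right (by omega)
    refine U.mem_tens_of_map hHM hMK hS hb0 hb hb'0 hb' hg fun a => ?_
    have : app g (U.D.T a b') ∈ U.meetSub g b b' := heq ▸ ⟨_, U.D.mem_line a, rfl⟩
    exact this.1
  | succ d ih =>
    intro j hj0 hj g hg b b' hb0 hb'0 hb hb' h
    by_cases hcase : j + 1 ≤ finrank F (U.meetSub g b b')
    · exact ih (j + 1) (by omega) (by omega) g hg b b' hb0 hb'0 hb hb' hcase
    by_cases hjn : n₁ ≤ j + d
    · exact ih j hj0 hjn g hg b b' hb0 hb'0 hb hb' h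
    have hC := fun (g : GL (Fin n) F) (hg : g ∈ M) (b b' : Fin n₂ → F) (hb0 : b ≠ 0) (hb'0 : b' ≠ 0)
      (hb : U.h₂ b b = 0) (hb' : U.h₂ b' b' = 0) (h : j + 1 ≤ finrank F (U.degSub g b b')) =>
      U.deg_of_meet hHM hMK hS (ih (j + 1) (by omega) (by omega)) hg hb0 hb'0 hb hb' h
    set P0 := U.meetSub g b b' with hP0
    set S := (U.D.line b').map (app g).toLinearMap with hSdef
    have hP0dim : finrank F P0 = j := by omega
    have hSdim : finrank F S = n₁ :=
      (LinearEquiv.finrank_map_eq (app g) _).trans (U.D.finrank_line hb'0)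
    obtain ⟨C0, hC0⟩ := Submodule.exists_isCompl P0
    set C1 := S ⊓ C0 with hC1
    have hC1le : finrank F C1 ≤ n₁ - j := by
      have h1 := Submodule.finrank_sup_add_finrank_inf_eq P0 C1
      have h2 : P0 ⊓ C1 = ⊥ := eq_bot_iff.2 (le_trans (inf_le_inf_left _ inf_le_right) hC0.inf_eq_bot.le)
      have h3 : finrank F (P0 ⊔ C1 : Submodule F (Fin n → F)) ≤ finrank F S :=
        Submodule.finrank_mono (sup_le inf_le_right inf_le_left)
      rw [h2, finrank_bot] at h1
      omega
    have hsplit : ∀ s ∈ S, ∃ p ∈ P0, s - p ∈ C1 := fun s hs => by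
      have : s ∈ P0 ⊔ C0 := by rw [hC0.sup_eq_top]; trivial
      obtain ⟨p, hp, c, hc, rfl⟩ := Submodule.mem_sup.1 this
      exact ⟨p, hp, S.sub_mem hs hp.2, by rwa [add_sub_cancel_left]⟩
    set k := finrank F C1 with hk
    have hk0 : 0 < k := by
      by_contra hk0
      have hbot : C1 = ⊥ := Submodule.finrank_eq_zero.1 (by omega)
      have hle : S ≤ P0 := fun s hs => by
        obtain ⟨p, hp, hsp⟩ := hsplit s hs
        rw [hbot, Submodule.mem_bot, sub_eq_zero] at hsp
        exact hsp ▸ hp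
      have := Submodule.finrank_mono hle
      omega
    have h5 := U.four_le
    have hlt := U.lt
    obtain ⟨m', hm'⟩ : ∃ m', n₂ / 2 = m' + 1 := ⟨n₂ / 2 - 1, by omega⟩
    obtain ⟨z, hzi, hz, hz0⟩ := exists_ti U.hF U.H₂ hb0 hb m' (by omega)
    have hkm : k < (m' + 1) * (m' + 1) := by
      have h2 : 2 * (m' + 1) ≤ (m' + 1) * (m' + 1) := Nat.mul_le_mul_right _ (by omega)
      omega
    let yb := Module.finBasis F C1
    obtain ⟨C, hCne, hCs, c, hc, hcN⟩ := U.exists_degen z hz (fun i => (yb i : Fin n → F)) hk0 hkm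
    set y := ∑ i, c i • (yb i : Fin n → F) with hy
    have hyC1 : y ∈ C1 := C1.sum_mem fun i _ => C1.smul_mem _ (yb i).2
    have hy0 : y ≠ 0 := fun h0 => hc (by
      funext i
      refine Fintype.linearIndependent_iff.1 yb.linearIndependent c (Subtype.ext ?_) i
      simpa [hy] using h0)
    set h := U.nEl z C
    have hh' : h ∈ M := hHM (U.nEl_mem hz hCs)
    have hfix : ∀ a, app h (U.D.T a b) = U.D.T a b := fun a => by
      rw [U.nEl_apply hz, U.nV_apply]
      simp [U.cb_T, ← hz0, hz]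
    have hperp : ∀ x a, hh (U.nV z C x) (U.D.T a b) = 0 := fun x a => by
      rw [U.herm_right, ← hz0, U.cb_nV hz, U.H₁.zero_left]
    have hys : ∀ s ∈ S, hh (app h y) s = 0 := fun s hs => by
      obtain ⟨p, hp, hsp⟩ := hsplit s hs
      rw [U.nEl_apply hz, U.hermV.add_left, U.herm_image hMK hg hb' hyC1.1 hs, zero_add,
        show s = p + (s - p) by rw [add_sub_cancel], U.hermV.add_right U.hF]
      obtain ⟨a, ha⟩ := hp.1
      have h2 : hh (U.nV z C y) p = 0 := by rw [← ha]; exact hperp _ _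
      have h3 := congrArg Subtype.val (yb.sum_repr ⟨s - p, hsp⟩)
      simp only [Submodule.coe_sum, Submodule.coe_smul] at h3
      rw [h2, zero_add, ← h3, U.hermV.sum_right U.hF]
      exact Finset.sum_eq_zero fun i _ => by rw [U.hermV.smul_right, hcN, mul_zero]
    have hg2M : g⁻¹ * h * g ∈ M := mul_mem (mul_mem (inv_mem hg) hh') hg
    have hyP : app h y ∉ P0 := fun hyP => by
      obtain ⟨a, ha⟩ := hyP.1
      have : app h y = y := by
        apply (app h).injective
        rw [← ha]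
        exact hfix a
      rw [this] at hyP
      exact hy0 (Submodule.disjoint_def.1 hC0.disjoint y hyP hyC1.2)
    have hg2 : g⁻¹ * h * g ∈ U.tens := by
      refine hC _ hg2M b' b' hb'0 hb'0 hb' hb' ?_
      have hle : (P0 ⊔ F ∙ app h y).map (app g⁻¹).toLinearMap ≤
          U.degSub (g⁻¹ * h * g) b' b' := by
        rw [Submodule.map_sup, Submodule.map_span, Set.image_singleton, sup_le_iff,
          Submodule.span_singleton_le_iff_mem]
        refine ⟨?_, ?_, ?_⟩
        · rintro _ ⟨x, ⟨hxb, w, hw, rfl⟩, rfl⟩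
          simp only [LinearEquiv.coe_coe]
          rw [app_inv_app]
          refine ⟨U.cb_line hb' hw, w, hw, ?_⟩
          obtain ⟨a, ha⟩ := hxb
          simp only [LinearEquiv.coe_coe] at ha ⊢
          rw [map_mul, map_mul, LinearEquiv.mul_apply, LinearEquiv.mul_apply, ← ha, LinearMap.flip_apply,
            hfix]
          simp only [LinearMap.flip_apply] at ha
          rw [ha, app_inv_app]
        · refine U.cb_eq_zero_iff.2 fun a => ?_
          rw [← U.iso_of_mem hMK hg]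
          simp only [LinearEquiv.coe_coe, app_app_inv]
          exact hys _ ⟨_, U.D.mem_line a, rfl⟩
        · obtain ⟨w, hw, hwy⟩ := hyC1.1
          refine ⟨w, hw, ?_⟩
          simp only [LinearEquiv.coe_coe] at hwy ⊢
          rw [map_mul, map_mul, LinearEquiv.mul_apply, LinearEquiv.mul_apply, hwy]
      refine le_trans ?_ (Submodule.finrank_mono hle)
      rw [LinearEquiv.finrank_map_eq, ← hP0dim]
      exact Submodule.finrank_lt_finrank_of_lt
        (lt_of_le_of_ne le_sup_left fun he => hyP (he.symm ▸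
          Submodule.mem_sup_right (Submodule.mem_span_singleton_self _)))
    by_cases hoff : ∃ i l, i ≠ 0 ∧ C i l ≠ 0
    swap
    · push Not at hoff
      have h00 : C 0 0 ≠ 0 := fun h0 => hCne (by
        ext i l
        by_cases hi : i = 0
        · by_cases hl : l = 0
          · rw [hi, hl, h0]; rfl
          · have := hCs i l
            rw [hoff l i hl, zero_pow_q U.hF, eq_comm, neg_eq_zero] at this
            exact this
        · exact hoff i l hi)
      have hs00 : C 0 0 + C 0 0 ^ q = 0 := by rw [hCs 0 0, add_neg_cancel]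
      refine U.mem_tens_of_root hHM hMK hS hb0 hb hs00 h00 hg ?_
      have hR : h = U.R b (C 0 0) := gl_ext fun x => by
        rw [U.nEl_apply hz, U.R_apply hb, U.nV_apply,
          Finset.sum_eq_single 0 (fun i _ hi => Finset.sum_eq_zero fun l _ => by rw [hoff i l hi, zero_smul])
            (by simp),
          Finset.sum_eq_single 0 (fun l _ hl => ?_) (by simp), hz0]
        have := hCs 0 l
        rw [hoff l 0 hl, zero_pow_q U.hF, eq_comm, neg_eq_zero] at this
        rw [this, zero_smul]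
      rwa [hR] at hg2
    obtain ⟨i, l, hi, hil⟩ := hoff
    have hstab : ∀ a, app (g⁻¹ * h * g) (U.D.T a b') ∈ U.D.line b' := by
      obtain ⟨A, B, hAB⟩ := U.exists_tens hg2
      obtain ⟨p, hp, hp0⟩ := Submodule.exists_mem_ne_zero_of_ne_bot (p := P0) (by
        intro h0
        rw [h0, finrank_bot] at hP0dim
        omega)
      obtain ⟨⟨a, ha⟩, w, ⟨a0, rfl⟩, hw⟩ := hp
      have ha0 : a0 ≠ 0 := fun h0 => hp0 (by rw [← hw, h0]; simp)
      have e1 : U.D.T (app A a0) (app B b') = U.D.T a0 b' := by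
        rw [← hAB, map_mul, map_mul, LinearEquiv.mul_apply, LinearEquiv.mul_apply]
        simp only [LinearEquiv.coe_coe, LinearMap.flip_apply] at hw ha
        rw [hw, ← ha, hfix, ha, ← hw, app_inv_app]
      obtain ⟨a1, ha1⟩ := exists_pair U.hF U.H₁ U.nd₁ ((app A).map_ne_zero_iff.2 ha0)
      have e2 := congrArg (U.lc a1) e1
      rw [U.lc_T, U.lc_T, U.H₁.conj_symm a1, ha1, one_pow, one_smul] at e2
      intro a'
      rw [hAB, e2, map_smul]
      exact Submodule.smul_mem _ _ (U.D.mem_line _)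
    have hNS : ∀ s ∈ S, U.nV z C s ∈ S := by
      rintro _ ⟨_, ⟨a, rfl⟩, rfl⟩
      have h1 : app h (app g (U.D.T a b')) ∈ S := by
        refine ⟨_, hstab a, ?_⟩
        simp [map_mul, LinearEquiv.mul_apply]
      rw [U.nEl_apply hz] at h1
      exact (Submodule.add_mem_iff_right S ⟨_, U.D.mem_line a, rfl⟩).1 h1
    by_cases hNP : ∃ s ∈ S, U.nV z C s ∉ P0
    · obtain ⟨s, hs, hsP⟩ := hNP
      refine hC g hg b b' hb0 hb'0 hb hb' (le_trans ?_ (Submodule.finrank_mono (
        sup_le (le_inf (fun x hx => U.cb_line hb hx.1) inf_le_right)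
          ((Submodule.span_singleton_le_iff_mem _ _).2 ⟨show U.cb b _ = 0 by rw [← hz0]; exact U.cb_nV hz 0 _,
            hNS s hs⟩) : P0 ⊔ F ∙ U.nV z C s ≤ U.degSub g b b')))
      rw [← hP0dim]
      exact Submodule.finrank_lt_finrank_of_lt
        (lt_of_le_of_ne le_sup_left fun he => hsP (he.symm ▸
          Submodule.mem_sup_right (Submodule.mem_span_singleton_self _)))
    push Not at hNP
    obtain ⟨w, hw⟩ := U.exists_dual_family hzi i
    set z' := ∑ l, (C i l) ^ q • z l with hz'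
    have hz'0 : z' ≠ 0 := fun h0 =>
      pow_ne_zero q hil (Fintype.linearIndependent_iff.1 hzi _ h0 l)
    have hz'z : U.h₂ z' z' = 0 := by
      simp [hz', U.H₂.sum_left, U.H₂.sum_right U.hF, U.H₂.smul_left, U.H₂.smul_right, hz]
    refine hC g hg z' b' hz'0 hb'0 hz'z hb' (le_trans (show j + 1 ≤ finrank F S by omega)
      (Submodule.finrank_mono (le_inf (fun s hs => ?_) le_rfl)))
    refine U.cb_eq_zero_iff.2 fun a => ?_
    have h1 : U.cb w (U.nV z C s) = 0 := by
      refine U.cb_line ?_ (hNP s hs).1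
      rw [← hz0, hw, if_neg (Ne.symm hi)]
    have h2 : hh (U.nV z C s) (U.D.T a w) = 0 := by rw [U.herm_right, h1, U.H₁.zero_left]
    rw [U.nV_apply, U.hermV.sum_left, Finset.sum_eq_single i (fun i' _ hi' => ?_) (by simp)] at h2
    · rw [← h2, U.hermV.sum_left, map_sum, U.hermV.sum_right U.hF]
      refine Finset.sum_congr rfl fun l' _ => ?_
      rw [U.hermV.smul_left, map_smul, U.hermV.smul_right, pow_q_pow_q U.hF, U.tensor, hw, if_pos rfl,
        mul_one, U.herm_right]
    · rw [U.hermV.sum_left]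
      refine Finset.sum_eq_zero fun l' _ => ?_
      rw [U.hermV.smul_left, U.tensor, hw, if_neg hi', mul_zero, mul_zero]

/-- A degenerate pair makes `g` a tensor. -/
theorem mem_tens_of_deg {g : GL (Fin n) F} (hg : g ∈ M) {b b' : Fin n₂ → F} (hb0 : b ≠ 0)
    (hb'0 : b' ≠ 0) (hb : U.h₂ b b = 0) (hb' : U.h₂ b' b' = 0) {a : Fin n₁ → F} (ha : a ≠ 0)
    (h : U.cb b (app g (U.D.T a b')) = 0) : g ∈ U.tens := by
  refine U.deg_of_meet hHM hMK hS (j := 1) (U.mem_tens_of_meet hHM hMK hS n₁ 1 one_pos (by omega))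
    hg hb0 hb'0 hb hb' (Submodule.one_le_finrank_iff.2 fun h0 => ?_)
  have : app g (U.D.T a b') ∈ U.degSub g b b' := ⟨h, _, U.D.mem_line a, rfl⟩
  rw [h0, Submodule.mem_bot, (app g).map_eq_zero_iff] at this
  exact ha ((U.D.T_eq_zero this).resolve_right hb'0)

end UData

end Cfsg.Agent.C4
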