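import Cfsg.Agent.Lib.C4.Unitary.Climb
import Mathlib.FieldTheory.Perfect

/-!
# All elements are tensors

Some line of tensors is degenerate against its image under a suitable unipotent element of the
stabiliser; for `4 ⊗ 5` a pseudo-reflection fixing a vector of the image line is used instead.
-/

set_option autoImplicit false
set_option linter.unusedSectionVars false

namespace Cfsg.Agent.C4

open Matrix Module Cfsg.Agent.Transvect Cfsg.Agent.Unitary Cfsg.Agent.C4.Herm
open scoped MatrixGroups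

namespace UData

variable {F : Type*} [Field F] [Fintype F] {q n n₁ n₂ : ℕ} (U : UData F q n n₁ n₂)

local notation "hh" => Cfsg.hermForm n F q

include U

lemma lc_eq_sum (c : Fin n₁ → F) (x : Fin n → F) :
    U.lc c x = ∑ i, c i ^ q • U.lc (Pi.single i 1) x := by
  have h : U.lc c = ∑ i, c i ^ q • U.lc (Pi.single i 1) := U.D.lin_ext fun a w => by
    rw [U.lc_T]
    conv_lhs => rw [pi_eq_sum_univ' c, U.H₁.sum_right U.hF]
    simp only [LinearMap.sum_apply, LinearMap.smul_apply, U.lc_T, smul_smul, U.H₁.smul_right,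
      Finset.sum_smul]
  rw [h]; simp

lemma row_of_T (a : Fin n₁ → F) (w : Fin n₂ → F) (i : Fin n₁) : U.D.row (U.D.T a w) i = a i • w :=
  U.D.row_T a w i

variable [Fact (7 ≤ n)]
variable {M : Subgroup (GL (Fin n) F)} (hHM : U.stab ≤ M) (hMK : M ≤ suGL n F q) (hS : U.Scal M)

include hHM hMK hS

/-- An element conjugating a small unipotent element into the tensor group is a tensor. -/
lemma mem_tens_of_low {h : GL (Fin n) F} (hh1 : h ≠ 1) (hhM : h ∈ M)
    (hsq : ∀ x, app h (app h x - x) = app h x - x)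
    (hlow : ∀ x, ∃ z, z ≠ 0 ∧ U.h₂ z z = 0 ∧ U.cb z (app h x - x) = 0)
    {g : GL (Fin n) F} (hg : g ∈ M) (hg2 : g⁻¹ * h * g ∈ U.tens) : g ∈ U.tens := by
  obtain ⟨p, hchar⟩ := CharP.exists F
  have hpF : Fact p.Prime := ⟨(CharP.char_is_prime_or_zero F p).resolve_right
    (CharP.char_ne_zero_of_finite F p)⟩
  have hp : h ^ p = 1 := by
    have e : ∀ (k : ℕ) x, app (h ^ k) x = x + (k : F) • (app h x - x) := by
      intro k
      induction k with
      | zero => intro x; simp
      | succ k ih =>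
        intro x
        rw [pow_succ', map_mul, LinearEquiv.mul_apply, ih, map_add, map_smul, hsq]
        push_cast
        module
    exact gl_ext fun x => by rw [e, CharP.cast_eq_zero, zero_smul, add_zero, map_one]; rfl
  set g' := g⁻¹ * h * g with hg'
  have hg'M : g' ∈ M := mul_mem (mul_mem (inv_mem hg) hhM) hg
  have hap : ∀ x, app g' x = app g⁻¹ (app h (app g x)) := fun x => by
    rw [hg', map_mul, map_mul]; rfl
  have hsq' : ∀ x, app g' (app g' x - x) = app g' x - x := fun x => by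
    have : app g' x - x = app g⁻¹ (app h (app g x) - app g x) := by rw [hap, map_sub, app_inv_app]
    rw [this, hap, app_app_inv, hsq]
  -- it is enough to find a pure isotropic vector in the residual space
  suffices h : ∃ x a b', a ≠ 0 ∧ b' ≠ 0 ∧ U.h₂ b' b' = 0 ∧ app g' x - x = U.D.T a b' by
    obtain ⟨x, a, b', ha, hb'0, hb', hx⟩ := h
    obtain ⟨z, hz0, hz, hzc⟩ := hlow (app g x)
    refine U.mem_tens_of_deg hHM hMK hS hg hz0 hb'0 hz hb' ha ?_
    rwa [← hx, map_sub, hap, app_app_inv]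
  obtain ⟨A, B, hAB⟩ := U.exists_tens hg2
  have hpow : ∀ k a w, app (g' ^ k) (U.D.T a w) = U.D.T (app (A ^ k) a) (app (B ^ k) w) := by
    intro k
    induction k with
    | zero => intro a w; simp
    | succ k ih =>
      intro a w
      rw [pow_succ', map_mul, LinearEquiv.mul_apply, ih, hAB, pow_succ' A, pow_succ' B,
        map_mul, map_mul]
      rfl
  have hg'p : g' ^ p = 1 := by
    rw [hg', show g⁻¹ * h * g = g⁻¹ * h * g⁻¹⁻¹ by rw [inv_inv], conj_pow, hp, mul_one,
      mul_inv_cancel]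
  obtain ⟨μ, hμ⟩ : ∃ μ : F, ∀ a, app (A ^ p) a = μ • a := by
    obtain ⟨a₀, ha₀⟩ := U.exists_ne_zero_left
    obtain ⟨b₀, hb₀, -⟩ : ∃ b : Fin n₂ → F, b ≠ 0 ∧ True := by
      have : Nonempty (Fin n₂) := ⟨⟨0, by have := U.four_le; omega⟩⟩
      obtain ⟨b, hb⟩ := exists_ne (0 : Fin n₂ → F)
      exact ⟨b, hb, trivial⟩
    obtain ⟨α, hα⟩ := TData.exists_dual ((app (B ^ p)).map_ne_zero_iff.2 hb₀)
    refine ⟨α b₀, fun a => ?_⟩
    have := congrArg (U.D.ct α) (hpow p a b₀)
    rw [hg'p, map_one, LinearEquiv.coe_one, id_eq, U.D.ct_T, U.D.ct_T, hα, one_smul] at this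
    simpa using this.symm
  obtain ⟨ν, hν⟩ : ∃ ν : F, ν ^ p = μ := (bijective_frobenius F p).2 μ
  have hn1 : Nonempty (Fin n₁) := ⟨⟨0, by have := U.two_le; omega⟩⟩
  obtain ⟨x, hx0, hx⟩ : ∃ x, x ≠ 0 ∧ app A x = ν • x := by
    have h0 : ((A : Matrix (Fin n₁) (Fin n₁) F) - ν • 1) ^ p = 0 := by
      rw [sub_pow_char_of_commute p ((Commute.one_right _).smul_right ν), smul_pow, one_pow, hν,
        sub_eq_zero]
      refine Matrix.ext_of_mulVec_single fun i => ?_
      rw [← Units.val_pow_eq_pow_val, ← app_apply, hμ, Matrix.smul_mulVec, Matrix.one_mulVec]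
    have h1 : ((A : Matrix (Fin n₁) (Fin n₁) F) - ν • 1).det = 0 := by
      refine (pow_eq_zero_iff (n := p) hpF.out.ne_zero).1 ?_
      rw [← Matrix.det_pow, h0, Matrix.det_zero]
    obtain ⟨x, hx0, hx⟩ := Matrix.exists_mulVec_eq_zero_iff.2 h1
    rw [Matrix.sub_mulVec, Matrix.smul_mulVec, Matrix.one_mulVec, sub_eq_zero] at hx
    exact ⟨x, hx0, by rw [app_apply, hx]⟩
  set τ : (Fin n₂ → F) →ₗ[F] (Fin n₂ → F) := ν • (app B).toLinearMap with hτ
  have hg'x : ∀ w, app g' (U.D.T x w) = U.D.T x (τ w) := fun w => by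
    rw [hAB, hx, map_smul, LinearMap.smul_apply, hτ, LinearMap.smul_apply, map_smul]
    rfl
  have hτsq : ∀ w, τ (τ w - w) = τ w - w := fun w => by
    have := hsq' (U.D.T x w)
    rw [hg'x, ← map_sub, hg'x] at this
    obtain ⟨α, hα⟩ : ∃ a', U.h₁ x a' = 1 := by
      obtain ⟨y, hy⟩ := exists_pair U.hF U.H₁ U.nd₁ hx0
      exact ⟨y, by rw [U.H₁.conj_symm y x, hy, one_pow]⟩
    simpa [U.lc_T, hα] using congrArg (U.lc α) this
  have hν0 : ν ≠ 0 := fun h0 => hx0 ((app A).map_eq_zero_iff.1 (by rw [hx, h0, zero_smul]))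
  by_cases hτ1 : ∀ w, τ w = w
  · obtain ⟨a, ha⟩ : ∃ a, app A a - ν • a ≠ 0 := by
      by_contra! hall
      have hone : g' = 1 := U.D.gl_ext_T fun a w => by
        have h2 := hτ1 w
        rw [hτ, LinearMap.smul_apply, LinearEquiv.coe_coe] at h2
        rw [hAB, sub_eq_zero.1 (hall a), map_smul, LinearMap.smul_apply, ← map_smul, h2]
        simp
      refine hh1 ?_
      rw [show h = g * g' * g⁻¹ by rw [hg']; group, hone, mul_one, mul_inv_cancel]
    obtain ⟨b', -, hb'0, hb'⟩ := exists_iso_in U.hF U.H₂ (W := (⊤ : Submodule F (Fin n₂ → F)))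
      (by rw [finrank_top, finrank_fin_fun]; have := U.four_le; omega)
    refine ⟨U.D.T (ν • a) (ν⁻¹ • b'), ν⁻¹ • (app A a - ν • a), b', smul_ne_zero (inv_ne_zero hν0) ha,
      hb'0, hb', ?_⟩
    have h2 := hτ1 b'
    rw [hτ, LinearMap.smul_apply, LinearEquiv.coe_coe] at h2
    rw [hAB, map_smul (app A), map_smul (app B)]
    nth_rewrite 1 [show app B b' = ν⁻¹ • b' by rw [eq_inv_smul_iff₀ hν0, h2]]
    simp only [map_smul, map_sub, LinearMap.smul_apply, LinearMap.sub_apply, smul_smul, smul_sub]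
    field_simp
  · push Not at hτ1
    obtain ⟨y, hy⟩ := hτ1
    set c := τ y - y
    refine ⟨U.D.T x y, x, c, hx0, sub_ne_zero.2 hy, ?_, by rw [hg'x, ← map_sub]⟩
    obtain ⟨a, ha⟩ : ∃ a, U.h₁ x a = 1 := by
      obtain ⟨y, hy⟩ := exists_pair U.hF U.H₁ U.nd₁ hx0
      exact ⟨y, by rw [U.H₁.conj_symm y x, hy, one_pow]⟩
    set ρ := U.h₁ x (app A a) * (ν⁻¹) ^ q
    have hsim : ∀ w w', ρ * U.h₂ (τ w) (τ w') = U.h₂ w w' := fun w w' => by
      have h1 := U.iso_of_mem hMK hg'M (U.D.T x w) (U.D.T a w')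
      rw [hg'x, hAB, U.tensor, U.tensor, ha, one_mul,
        show app B w' = ν⁻¹ • τ w' by rw [hτ, LinearMap.smul_apply, inv_smul_smul₀ hν0]; rfl,
        U.H₂.smul_right] at h1
      rw [← h1]; ring
    have hk : ∀ (k : ℕ) w, (τ ^ k) w = w + (k : F) • (τ w - w) := by
      intro k
      induction k with
      | zero => intro w; simp
      | succ k ih =>
        intro w
        rw [pow_succ', Module.End.mul_apply, ih, map_add, map_smul, hτsq]
        push_cast
        module
    have hρk : ∀ k w w', ρ ^ k * U.h₂ ((τ ^ k) w) ((τ ^ k) w') = U.h₂ w w' := by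
      intro k
      induction k with
      | zero => intro w w'; simp
      | succ k ih =>
        intro w w'
        rw [pow_succ' τ, Module.End.mul_apply, Module.End.mul_apply, ← ih w w', ← hsim ((τ ^ k) w),
          pow_succ]
        ring
    have hρ : ρ = 1 := by
      obtain ⟨y', hy'⟩ := exists_pair U.hF U.H₂ U.nd₂ (sub_ne_zero.2 hy : c ≠ 0)
      have h1 := hρk p y' c
      rw [hk, hk, CharP.cast_eq_zero, zero_smul, zero_smul, add_zero, add_zero, hy', mul_one] at h1
      exact frobenius_inj F p (by simpa [frobenius_def] using h1)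
    have h1 := hsim y c
    have h2 : τ c = c := hτsq y
    rw [hρ, one_mul, h2, show τ y = y + c from (add_sub_cancel _ _).symm, U.H₂.add_left,
      add_eq_left] at h1
    exact h1

lemma exists_z_family : ∃ m', 2 * (m' + 1) ≤ n₂ ∧ n₂ ≤ 2 * (m' + 1) + 1 ∧
    ∃ z : Fin (m' + 1) → (Fin n₂ → F), LinearIndependent F z ∧ ∀ i l, U.h₂ (z i) (z l) = 0 := by
  have h5 := U.four_le
  obtain ⟨b, -, hb0, hb⟩ := exists_iso_in U.hF U.H₂ (W := (⊤ : Submodule F (Fin n₂ → F)))
    (by rw [finrank_top, finrank_fin_fun]; omega)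
  obtain ⟨z, hzi, hz, -⟩ := exists_ti U.hF U.H₂ hb0 hb (n₂ / 2 - 1) (by omega)
  exact ⟨n₂ / 2 - 1, by omega, by omega, z, hzi, hz⟩

/-- The generic first step. -/
lemma mem_tens_generic {m : ℕ} {z : Fin m → (Fin n₂ → F)} (hzi : LinearIndependent F z)
    (hz : ∀ i l, U.h₂ (z i) (z l) = 0) (hm : n₁ < m * m) {g : GL (Fin n) F} (hg : g ∈ M) :
    g ∈ U.tens := by
  have hn1 := U.two_le
  obtain ⟨b', -, hb'0, hb'⟩ := exists_iso_in U.hF U.H₂ (W := (⊤ : Submodule F (Fin n₂ → F)))
    (by rw [finrank_top, finrank_fin_fun]; have := U.four_le; omega)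
  obtain ⟨C, hC0, hC, c, hc, hcN⟩ :=
    U.exists_degen z hz (fun i => app g (U.D.T (Pi.single i 1) b')) (k := n₁) (by omega) hm
  set y := U.D.T c b'
  have hgy : app g y = ∑ i, c i • app g (U.D.T (Pi.single i 1) b') := by
    show app g (U.D.T c b') = _
    conv_lhs => rw [pi_eq_sum_univ' c]
    simp only [map_sum, map_smul, LinearMap.sum_apply, LinearMap.smul_apply]
  rw [← hgy] at hcN
  set h := U.nEl z C
  have hhM : h ∈ M := hHM (U.nEl_mem hz hC)
  have hsub : ∀ x, app h x - x = U.nV z C x := fun x => by rw [U.nEl_apply hz, add_sub_cancel_left]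
  have hg2 : g⁻¹ * h * g ∈ U.tens := by
    refine U.mem_tens_of_deg hHM hMK hS (mul_mem (mul_mem (inv_mem hg) hhM) hg) hb'0 hb'0 hb' hb'
      (a := c) hc (U.cb_eq_zero_iff.2 fun a => ?_)
    rw [map_mul, map_mul, LinearEquiv.mul_apply, LinearEquiv.mul_apply, ← U.iso_of_mem hMK hg,
      app_app_inv, U.nEl_apply hz, U.hermV.add_left, U.iso_of_mem hMK hg, U.tensor, hb', mul_zero,
      zero_add, pi_eq_sum_univ' a]
    simp only [map_sum, map_smul, LinearMap.sum_apply, LinearMap.smul_apply, U.hermV.sum_right U.hF,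
      U.hermV.smul_right]
    exact Finset.sum_eq_zero fun i _ => by rw [hcN, mul_zero]
  refine U.mem_tens_of_low hHM hMK hS (h := h) ?_ hhM ?_ ?_ hg hg2
  · intro h1
    obtain ⟨i, l, hil⟩ : ∃ i l, C i l ≠ 0 := by
      by_contra! h0
      exact hC0 (Matrix.ext h0)
    obtain ⟨w, hw⟩ := U.exists_dual_family hzi i
    obtain ⟨w', hw'⟩ := U.exists_dual_family hzi l
    obtain ⟨a, ha⟩ := U.exists_ne_zero_left
    have h2 := hsub (U.D.T a w')
    rw [h1, map_one, LinearEquiv.coe_one, id_eq, sub_self, U.nV_apply] at h2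
    have h3 := congrArg (U.cb w) h2.symm
    have hw'' : ∀ l', U.h₂ w' (z l') = if l' = l then 1 else 0 := fun l' => by
      rw [U.H₂.conj_symm, hw']; split_ifs <;> simp [zero_pow_q U.hF]
    simp only [U.cb_T, hw'', map_sum, map_smul, map_zero, LinearMap.smul_apply, hw, smul_smul] at h3
    simp [mul_ite, ite_smul] at h3
    exact ha (h3.resolve_left hil)
  · intro x
    rw [hsub, U.nEl_apply hz, U.nV_sq hz, add_zero]
  · intro x
    obtain ⟨i⟩ : Nonempty (Fin m) := ⟨⟨0, by
      by_contra h0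
      rw [Nat.eq_zero_of_not_pos h0] at hm
      omega⟩⟩
    exact ⟨z i, hzi.ne_zero i, hz i i, by rw [hsub]; exact U.cb_nV hz i x⟩

/-- Consequences of `g` fixing a vector of an image line. -/
lemma stab_line_of_fix {b' : Fin n₂ → F} (hb'0 : b' ≠ 0) (hb' : U.h₂ b' b' = 0)
    {g : GL (Fin n) F} (hg : g ∈ M) {h : GL (Fin n) F} (hh' : h ∈ M) {a0 : Fin n₁ → F}
    (ha0 : a0 ≠ 0) (hfix : app h (app g (U.D.T a0 b')) = app g (U.D.T a0 b')) :
    ∀ x ∈ (U.D.line b').map (app g).toLinearMap,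
      app h x ∈ (U.D.line b').map (app g).toLinearMap := by
  have hap : ∀ x, app (g⁻¹ * h * g) x = app g⁻¹ (app h (app g x)) := fun x => by
    rw [map_mul, map_mul]; rfl
  have h1 : app (g⁻¹ * h * g) (U.D.T a0 b') = U.D.T a0 b' := by rw [hap, hfix, app_inv_app]
  have h2 : g⁻¹ * h * g ∈ U.tens :=
    U.mem_tens_of_deg hHM hMK hS (mul_mem (mul_mem (inv_mem hg) hh') hg) hb'0 hb'0 hb' hb' ha0
      (by rw [h1, U.cb_T, hb', zero_smul])
  obtain ⟨A, B, hAB⟩ := U.exists_tens h2
  obtain ⟨a1, ha1⟩ := exists_pair U.hF U.H₁ U.nd₁ ((app A).map_ne_zero_iff.2 ha0)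
  have e2 := congrArg (U.lc a1) ((hAB a0 b').symm.trans h1)
  rw [U.lc_T, U.lc_T, U.H₁.conj_symm a1, ha1, one_pow, one_smul] at e2
  rintro _ ⟨_, ⟨a, rfl⟩, rfl⟩
  refine ⟨app (g⁻¹ * h * g) (U.D.T a b'), ?_, ?_⟩
  · rw [hAB, e2, map_smul]
    exact Submodule.smul_mem _ _ (U.D.mem_line _)
  · simp only [LinearEquiv.coe_coe]
    rw [hap, app_app_inv]
    rfl

omit hHM hMK hS

omit [Fact (7 ≤ n)] in
lemma exists_pseudo {m : ℕ} (v : Fin m → F) (φ : (Fin m → F) →ₗ[F] F) (h : 1 + φ v ≠ 0) :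
    ∃ A : GL (Fin m) F, (∀ x, app A x = x + φ x • v) ∧
      (A : Matrix (Fin m) (Fin m) F).det = 1 + φ v := by
  have hd : (1 + Matrix.replicateCol Unit v *
      Matrix.replicateRow Unit (fun j => φ (Pi.single j 1))).det = 1 + φ v := by
    rw [Matrix.det_one_add_replicateCol_mul_replicateRow]
    congr 1
    conv_rhs => rw [pi_eq_sum_univ' v, map_sum]
    exact Finset.sum_congr rfl fun i _ => by rw [map_smul, smul_eq_mul, mul_comm]
  refine ⟨Matrix.GeneralLinearGroup.mkOfDetNeZero _ (hd ▸ h), fun x => ?_, hd⟩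
  rw [app_apply]
  show (1 + Matrix.replicateCol Unit v *
    Matrix.replicateRow Unit (fun j => φ (Pi.single j 1))) *ᵥ x = _
  rw [Matrix.add_mulVec, Matrix.one_mulVec]
  congr 1
  funext i
  have hx : φ x = ∑ j, x j * φ (Pi.single j 1) := by
    conv_lhs => rw [pi_eq_sum_univ' x, map_sum]
    simp
  simp only [Matrix.mulVec, dotProduct, Matrix.mul_apply, Matrix.replicateCol_apply,
    Matrix.replicateRow_apply, Finset.univ_unique, Finset.sum_singleton, Pi.smul_apply, smul_eq_mul,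
    hx, Finset.sum_mul]
  exact Finset.sum_congr rfl fun j _ => by ring

omit [Fact (7 ≤ n)] in
lemma pseudo_iso {m : ℕ} {h : (Fin m → F) → (Fin m → F) → F} (H : IsHerm q h) {c : Fin m → F}
    (hc : h c c ≠ 0) {μ : F} (hμ : μ ^ (q + 1) = 1) :
    ∃ A : GL (Fin m) F, (∀ x, app A x = x + ((μ - 1) / h c c * h x c) • c) ∧ Iso h A ∧
      (A : Matrix (Fin m) (Fin m) F).det = μ := by
  have h1 : 1 + (((μ - 1) / h c c) • fl H c) c = μ := by
    rw [LinearMap.smul_apply, fl_apply, smul_eq_mul, div_mul_cancel₀ _ hc]; ring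
  have hμ0 : μ ≠ 0 := fun h0 => by simp [h0, zero_pow] at hμ
  obtain ⟨A, hA, hd⟩ := U.exists_pseudo c (((μ - 1) / h c c) • fl H c) (by rw [h1]; exact hμ0)
  refine ⟨A, fun x => by rw [hA]; rfl, fun x y => ?_, hd.trans h1⟩
  rw [hA, hA]
  simp only [LinearMap.smul_apply, fl_apply, smul_eq_mul, H.add_left, H.add_right U.hF, H.smul_left,
    H.smul_right, mul_pow, div_pow, H.self_fixed, sub_pow_q U.hF, one_pow, H.conj_symm y c]
  field_simp
  linear_combination (h x c * (h y c) ^ q) * hμ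

include hHM hMK hS

/-- `4 ⊗ 5` in odd characteristic. -/
lemma mem_tens_four_odd (h4 : n₁ = 4) (h5 : n₂ = 5) (h2 : (2 : F) ≠ 0) {g : GL (Fin n) F}
    (hg : g ∈ M) : g ∈ U.tens := by
  by_contra hgt
  have F1 : ∀ b' z a, b' ≠ 0 → U.h₂ b' b' = 0 → z ≠ 0 → U.h₂ z z = 0 → a ≠ 0 →
      U.cb z (app g (U.D.T a b')) ≠ 0 := fun b' z a hb'0 hb' hz0 hz ha h =>
    hgt (U.mem_tens_of_deg hHM hMK hS hg hz0 hb'0 hz hb' ha h)
  have key : ∀ b', b' ≠ 0 → U.h₂ b' b' = 0 → ∃ s' s, s' ≠ 0 ∧ s ≠ 0 ∧ U.h₂ b' s' = 0 ∧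
      (U.D.line s').map (app g).toLinearMap = U.D.line s := by
    intro b' hb'0 hb'
    obtain ⟨a0, ha0⟩ := U.exists_ne_zero_left
    obtain ⟨s, hs, hs0⟩ := Submodule.exists_mem_ne_zero_of_ne_bot
      (p := perpF U.H₂ fun i => U.D.row (app g (U.D.T a0 b')) i) (fun h0 => by
        have := le_finrank_perpF U.H₂ fun i => U.D.row (app g (U.D.T a0 b')) i
        rw [h0, finrank_bot] at this
        omega)
    have hsw : U.cb s (app g (U.D.T a0 b')) = 0 :=
      funext fun i => (U.H₂.eq_zero_symm U.hF).1 ((mem_perpF U.H₂).1 hs i)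
    have hss : U.h₂ s s ≠ 0 := fun h0 => F1 b' s a0 hb'0 hb' hs0 h0 ha0 hsw
    obtain ⟨B, hB, hBi, hBd⟩ := U.pseudo_iso U.H₂ hss (μ := -1) (by
      rw [pow_succ, neg_pow_q U.hF, one_pow]; ring)
    set h := U.D.kr 1 B
    have hhM : h ∈ M := hHM ⟨U.D.kr_mem 1 B, U.mem_suGL_of_iso (U.kr_iso (U.iso_one _) hBi)
      (mem_sl_iff.2 (by rw [U.D.det_kr, hBd, h4]; simp; norm_num))⟩
    set k : F := (-1 - 1) / U.h₂ s s
    have hk : k ≠ 0 := div_ne_zero (fun h0 => h2 (by linear_combination -h0)) hss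
    have hap : ∀ x, app h x = x + k • U.D.T (U.cb s x) s := fun x =>
      LinearMap.congr_fun (U.D.lin_ext (f := (app h).toLinearMap)
        (g := LinearMap.id + k • (U.D.T.flip s ∘ₗ U.cb s)) fun a w => by
          simp only [h, LinearEquiv.coe_coe, U.D.app_kr, hB, LinearMap.add_apply,
            LinearMap.id_apply, LinearMap.smul_apply, LinearMap.comp_apply, LinearMap.flip_apply,
            U.cb_T, map_add, map_smul, map_one, LinearEquiv.coe_one, id_eq, smul_smul]) x
    have hstab := U.stab_line_of_fix hHM hMK hS hb'0 hb' hg hhM ha0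
      (by rw [hap, hsw, map_zero, LinearMap.zero_apply, smul_zero, add_zero])
    have hkill : ∀ a, U.cb s (app g (U.D.T a b')) = 0 := by
      intro a
      by_contra hne
      have hin : app g (U.D.T a b') ∈ (U.D.line b').map (app g).toLinearMap :=
        ⟨_, U.D.mem_line a, rfl⟩
      have hmem := hstab _ hin
      rw [hap, Submodule.add_mem_iff_right _ hin,
        Submodule.smul_mem_iff _ hk] at hmem
      obtain ⟨_, ⟨d, rfl⟩, hd⟩ := hmem
      simp only [LinearEquiv.coe_coe, LinearMap.flip_apply] at hd hne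
      obtain ⟨z, hz0, hz, hzc⟩ := U.exists_cb_zero (x := app g (U.D.T d b')) (W := F ∙ s)
        (by rw [finrank_span_singleton hs0]; omega) fun i => by
          rw [hd, U.row_of_T]
          exact Submodule.smul_mem _ _ (Submodule.mem_span_singleton_self s)
      refine F1 b' z d hb'0 hb' hz0 hz (fun h0 => ?_) hzc
      rw [h0, map_zero, LinearMap.zero_apply, map_zero, eq_comm] at hd
      exact hne ((U.D.T_eq_zero hd).resolve_right hs0)
    set g' := g⁻¹ * h * g with hg'
    have hap' : ∀ x, app g' x = app g⁻¹ (app h (app g x)) := fun x => by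
      rw [hg', map_mul, map_mul]; rfl
    have hfixb : ∀ a, app g' (U.D.T a b') = U.D.T a b' := fun a => by
      rw [hap', hap, hkill, map_zero, LinearMap.zero_apply, smul_zero, add_zero, app_inv_app]
    have hg't : g' ∈ U.tens :=
      U.mem_tens_of_deg hHM hMK hS (mul_mem (mul_mem (inv_mem hg) hhM) hg) hb'0 hb'0 hb' hb' ha0
        (by rw [hfixb, U.cb_T, hb', zero_smul])
    obtain ⟨A, B', hAB⟩ := U.exists_tens hg't
    obtain ⟨α, hα⟩ := TData.exists_dual ((app B').map_ne_zero_iff.2 hb'0)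
    have hA : ∀ a, app A a = α b' • a := fun a => by
      have := congrArg (U.D.ct α) ((hAB a b').symm.trans (hfixb a))
      rwa [U.D.ct_T, U.D.ct_T, hα, one_smul] at this
    set W := (U.D.line s).map (app g⁻¹).toLinearMap
    have hW : ∀ x, app g' x - x ∈ W := fun x => by
      refine ⟨k • U.D.T (U.cb s (app g x)) s, Submodule.smul_mem _ _ (U.D.mem_line _), ?_⟩
      rw [hap', hap, map_add, app_inv_app, add_sub_cancel_left]
      rfl
    obtain ⟨y0, hy0⟩ : ∃ y, α b' • app B' y - y ≠ 0 := by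
      by_contra! h0
      have : g' = 1 := U.D.gl_ext_T fun a w => by
        rw [hAB, hA, map_smul, LinearMap.smul_apply, ← map_smul, sub_eq_zero.1 (h0 w)]
        simp
      obtain ⟨x, hx⟩ := exists_pair U.hF U.H₂ U.nd₂ hs0
      have h1 := hap' (app g⁻¹ (U.D.T a0 x))
      rw [this, map_one, app_app_inv, hap, map_add, LinearEquiv.coe_one, id_eq, left_eq_add,
        (app g⁻¹).map_eq_zero_iff, smul_eq_zero, U.cb_T, hx, one_smul] at h1
      exact ha0 ((U.D.T_eq_zero (h1.resolve_left hk)).resolve_right hs0)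
    set s' := α b' • app B' y0 - y0
    have hWdim : finrank F W = n₁ :=
      (LinearEquiv.finrank_map_eq (app g⁻¹) _).trans (U.D.finrank_line hs0)
    have hle : U.D.line s' ≤ W := by
      rintro _ ⟨a, rfl⟩
      have h1 := hW (U.D.T a y0)
      rw [hAB, hA, map_smul, LinearMap.smul_apply, ← map_smul, ← map_sub] at h1
      exact h1
    have heq : U.D.line s' = W :=
      Submodule.eq_of_le_of_finrank_le hle (by rw [hWdim, U.D.finrank_line hy0])
    refine ⟨s', s, hy0, hs0, ?_, ?_⟩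
    · obtain ⟨a', ha'⟩ := exists_pair U.hF U.H₁ U.nd₁ ha0
      obtain ⟨_, ⟨d, rfl⟩, hd⟩ := hle (U.D.mem_line a0)
      simp only [LinearEquiv.coe_coe, LinearMap.flip_apply] at hd
      have h1 := U.iso_of_mem hMK hg (U.D.T a' b') (U.D.T a0 s')
      rw [U.tensor, ha', one_mul, ← hd, app_app_inv, U.herm_right, hkill, U.H₁.zero_left] at h1
      exact h1.symm
    · rw [heq, ← Submodule.map_comp]
      convert Submodule.map_id _ using 2
      exact LinearMap.ext fun x => app_app_inv g x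
  obtain ⟨b', -, hb'0, hb'⟩ := exists_iso_in U.hF U.H₂ (W := (⊤ : Submodule F (Fin n₂ → F)))
    (by rw [finrank_top, finrank_fin_fun]; omega)
  obtain ⟨s', s, hs'0, hs0, -, hss'⟩ := key b' hb'0 hb'
  obtain ⟨b'', hb''0, hb'', hb''s⟩ : ∃ b'', b'' ≠ 0 ∧ U.h₂ b'' b'' = 0 ∧ U.h₂ b'' s' ≠ 0 := by
    by_contra! hall
    refine hs'0 (U.nd₂ _ fun y => (U.H₂.eq_zero_symm U.hF).1 ?_)
    have hy := mem_span_iso U.hF U.H₂ U.nd₂ (by omega) y
    induction hy using Submodule.span_induction with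
    | mem v hv =>
      by_cases hv0 : v = 0
      · rw [hv0, U.H₂.zero_left]
      · exact hall v hv0 hv
    | zero => exact U.H₂.zero_left _
    | add a b _ _ ha hb => rw [U.H₂.add_left, ha, hb, add_zero]
    | smul c v _ hv => rw [U.H₂.smul_left, hv, mul_zero]
  obtain ⟨t', t, ht'0, ht0, hbt, htt'⟩ := key b'' hb''0 hb''
  obtain ⟨b3, hb30, hb3, hb3W⟩ := exists_iso_perp U.hF U.H₂ (W := Submodule.span F (Set.range ![s', t']))
    (by
      have h2 := (finrank_range_le_card (R := F) ![s', t']).trans_eq (Fintype.card_fin 2)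
      simp only [Set.finrank] at h2
      omega)
  obtain ⟨a0, ha0⟩ := U.exists_ne_zero_left
  have hperp : ∀ w w', (U.D.line w').map (app g).toLinearMap = U.D.line w → U.h₂ w' b3 = 0 →
      U.cb w (app g (U.D.T a0 b3)) = 0 := fun w w' hww hw => U.cb_eq_zero_iff.2 fun a => by
    obtain ⟨_, ⟨d, rfl⟩, hd⟩ := hww.symm ▸ U.D.mem_line (u := w) a
    rw [← hd]
    simp only [LinearEquiv.coe_coe, LinearMap.flip_apply]
    rw [U.iso_of_mem hMK hg, U.tensor, (U.H₂.eq_zero_symm U.hF).1 hw, mul_zero]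
  have hs1 := hperp s s' hss' (hb3W s' (Submodule.subset_span ⟨0, rfl⟩))
  have ht1 := hperp t t' htt' (hb3W t' (Submodule.subset_span ⟨1, rfl⟩))
  have hst : t ∉ F ∙ s := fun hc => by
    obtain ⟨ρ, rfl⟩ := Submodule.mem_span_singleton.1 hc
    have hρ : ρ ≠ 0 := fun h0 => ht0 (by rw [h0, zero_smul])
    have hl : U.D.line t' ≤ U.D.line s' := fun x hx => by
      have h1 : app g x ∈ U.D.line (ρ • s) := htt' ▸ ⟨x, hx, rfl⟩
      obtain ⟨d, hd⟩ := h1
      have h2 : app g x ∈ (U.D.line s').map (app g).toLinearMap := by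
        rw [hss', ← hd, LinearMap.flip_apply, map_smul]
        exact Submodule.smul_mem _ _ (U.D.mem_line _)
      obtain ⟨y, hy, hyx⟩ := h2
      rwa [← (app g).injective hyx]
    obtain ⟨d, hd⟩ := hl (U.D.mem_line a0)
    simp only [LinearMap.flip_apply] at hd
    obtain ⟨a', ha'⟩ := exists_pair U.hF U.H₁ U.nd₁ ha0
    have h3 := congrArg (fun x => hh (U.D.T a' b'') x) hd
    simp only [U.tensor, ha', one_mul, hbt, mul_eq_zero] at h3
    have hd0 : d = 0 := by
      refine U.nd₁ _ fun y => ?_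
      have h4 := congrArg (fun x => hh (U.D.T y b'') x) hd
      simp only [U.tensor, hbt, mul_zero, mul_eq_zero] at h4
      exact (U.H₁.eq_zero_symm U.hF).1 (h4.resolve_right hb''s)
    rw [hd0, map_zero, LinearMap.zero_apply, eq_comm] at hd
    exact ha0 ((U.D.T_eq_zero hd).resolve_right ht'0)
  obtain ⟨z, hz, hz0, hzz⟩ := exists_iso_in U.hF U.H₂ (W := Submodule.span F (Set.range ![s, t]))
    (le_of_eq (by
      rw [finrank_span_eq_card, Fintype.card_fin]
      rw [LinearIndependent.pair_iff']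
      · exact fun ρ h => hst (Submodule.mem_span_singleton.2 ⟨ρ, h⟩)
      · exact hs0))
  refine F1 b3 z a0 hb30 hb3 hz0 hzz ha0 (U.cb_eq_zero_iff.2 fun a => ?_)
  obtain ⟨f, rfl⟩ := (Submodule.mem_span_range_iff_exists_fun F).1 hz
  simp only [Fin.sum_univ_two, Matrix.cons_val_zero, Matrix.cons_val_one, map_add,
    map_smul, U.hermV.add_right U.hF, U.hermV.smul_right, U.cb_eq_zero_iff.1 hs1 a,
    U.cb_eq_zero_iff.1 ht1 a, mul_zero, add_zero]

/-- `4 ⊗ 5` in characteristic two. -/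
lemma mem_tens_four_even (h4 : n₁ = 4) (h5 : n₂ = 5) (h2 : (2 : F) = 0) {g : GL (Fin n) F}
    (hg : g ∈ M) : g ∈ U.tens := by
  classical
  by_contra hgt
  obtain ⟨b', -, hb'0, hb'⟩ := exists_iso_in U.hF U.H₂ (W := (⊤ : Submodule F (Fin n₂ → F)))
    (by rw [finrank_top, finrank_fin_fun]; omega)
  have F1 : ∀ z a, z ≠ 0 → U.h₂ z z = 0 → a ≠ 0 → U.cb z (app g (U.D.T a b')) ≠ 0 :=
    fun z a hz0 hz ha h => hgt (U.mem_tens_of_deg hHM hMK hS hg hz0 hb'0 hz hb' ha h)
  have F2 : ∀ c a, c ≠ 0 → a ≠ 0 → U.lc c (app g (U.D.T a b')) ≠ 0 := fun c a hc ha h0 => by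
    obtain ⟨z, hz0, hz, hzc⟩ := U.exists_cb_zero (x := app g (U.D.T a b'))
      (W := Submodule.span F (Set.range (U.D.row (app g (U.D.T a b'))))) (by
        have hlt : finrank F (Submodule.span F (Set.range (U.D.row (app g (U.D.T a b'))))) < n₁ := by
          refine lt_of_le_of_ne ((finrank_range_le_card _).trans_eq (Fintype.card_fin n₁))
            fun heq => ?_
          have hli := linearIndependent_iff_card_eq_finrank_span.2
            ((Fintype.card_fin n₁).trans heq.symm)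
          have h1 : ∑ i, U.h₁ (Pi.single i 1) c • U.D.row (app g (U.D.T a b')) i = 0 := by
            rw [← h0]; simp [UData0.lc]
          refine hc (U.nd₁ c fun y => ?_)
          rw [pi_eq_sum_univ' y, U.H₁.sum_right U.hF]
          refine Finset.sum_eq_zero fun i _ => ?_
          rw [U.H₁.smul_right, U.H₁.conj_symm (Pi.single i 1) c,
            Fintype.linearIndependent_iff.1 hli _ h1 i, zero_pow_q U.hF, mul_zero]
        omega)
      fun i => Submodule.subset_span (Set.mem_range_self i)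
    exact F1 z a hz0 hz ha hzc
  -- a vector of the image line with an eigenvector
  obtain ⟨ω, hω⟩ : ∃ ω : F, ω ^ q ≠ ω := by
    by_contra! hc
    obtain ⟨t, ht⟩ := exists_trace_eq U.hF (one_pow q : (1 : F) ^ q = 1)
    rw [hc t] at ht
    exact one_ne_zero (ht.symm.trans (by linear_combination t * h2))
  let L : Fin n₁ → Fin n₁ → (Fin n₂ → F) :=
    fun j i => U.lc (Pi.single j 1) (app g (U.D.T (Pi.single i 1) b'))
  let X : Fin n₁ → MvPolynomial (Fin (n₁ + n₁ + 1)) F := fun i =>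
    MvPolynomial.X (i.castAdd n₁).castSucc +
      MvPolynomial.C ω * MvPolynomial.X (i.natAdd n₁).castSucc
  let Xc : Fin n₁ → MvPolynomial (Fin (n₁ + n₁ + 1)) F := fun i =>
    MvPolynomial.X (i.castAdd n₁).castSucc +
      MvPolynomial.C (ω ^ q) * MvPolynomial.X (i.natAdd n₁).castSucc
  let E : Matrix (Fin n₁) (Fin n₁) (MvPolynomial (Fin (n₁ + n₁ + 1)) F) := Matrix.of fun j l =>
    (∑ i, ∑ i', MvPolynomial.C (U.h₂ (L l i) (L j i')) * (X i * Xc i')) -
      MvPolynomial.X (Fin.last _) * MvPolynomial.C (U.h₁ (Pi.single j 1) (Pi.single l 1))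
  let al : (Fin (n₁ + n₁ + 1) → F) → Fin n₁ → F := fun x i =>
    x (i.castAdd n₁).castSucc + ω * x (i.natAdd n₁).castSucc
  have hw : ∀ x j, U.lc (Pi.single j 1) (app g (U.D.T (al x) b')) = ∑ i, al x i • L j i := by
    intro x j
    conv_lhs => rw [pi_eq_sum_univ' (al x)]
    simp [L, map_sum, map_smul, LinearMap.sum_apply]
  have hEval : ∀ x, (∀ i, x i ^ q = x i) → ∀ j l, MvPolynomial.eval x (E j l) =
      U.h₂ (U.lc (Pi.single l 1) (app g (U.D.T (al x) b')))
        (U.lc (Pi.single j 1) (app g (U.D.T (al x) b'))) -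
        x (Fin.last _) * U.h₁ (Pi.single j 1) (Pi.single l 1) := by
    intro x hx j l
    simp only [E, X, Xc, Matrix.of_apply, map_sub, map_sum, map_mul, map_add, MvPolynomial.eval_C,
      MvPolynomial.eval_X, hw, U.H₂.sum_left, U.H₂.sum_right U.hF, U.H₂.smul_left, U.H₂.smul_right,
      Finset.mul_sum]
    congr 1
    refine Finset.sum_congr rfl fun i _ => Finset.sum_congr rfl fun i' _ => ?_
    simp only [al, add_pow_q U.hF, mul_pow, hx]
    ring
  obtain ⟨x, hx0, hx, hdet⟩ := exists_rat_zero U.hF E.det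
    (lt_of_le_of_lt (totalDegree_det_le (e := 2) E fun j l => by
      simp only [E, X, Xc, Matrix.of_apply]
      refine (MvPolynomial.totalDegree_sub _ _).trans (max_le ?_ ?_)
      · refine (MvPolynomial.totalDegree_finsetSum _ _).trans (Finset.sup_le fun a _ => ?_)
        refine (MvPolynomial.totalDegree_finsetSum _ _).trans (Finset.sup_le fun b _ => ?_)
        refine (MvPolynomial.totalDegree_mul _ _).trans ?_
        rw [MvPolynomial.totalDegree_C, zero_add]
        refine (MvPolynomial.totalDegree_mul _ _).trans (Nat.add_le_add (a := _) (b := 1) (c := _) (d := 1) ?_ ?_) <;>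
        · refine (MvPolynomial.totalDegree_add _ _).trans (max_le ?_ ?_)
          · rw [MvPolynomial.totalDegree_X]
          · refine (MvPolynomial.totalDegree_mul _ _).trans ?_
            rw [MvPolynomial.totalDegree_C, MvPolynomial.totalDegree_X, zero_add]
      · refine (MvPolynomial.totalDegree_mul _ _).trans ?_
        rw [MvPolynomial.totalDegree_C, MvPolynomial.totalDegree_X]; omega) (by omega))
    (by
      rw [Herm.eval_det]
      have : Nonempty (Fin n₁) := ⟨⟨0, by omega⟩⟩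
      refine (congrArg Matrix.det (Matrix.ext fun i l => ?_)).trans Matrix.det_zero
      rw [Matrix.of_apply, hEval 0 (fun i => zero_pow_q U.hF), show al 0 = 0 from funext fun i => by simp [al]]
      simp [U.H₂.zero_left])
    (fun x hx => by
      rw [Herm.eval_det, ← Cfsg.Agent.Unitary.conjHom_apply U.hF, RingHom.map_det,
        ← Matrix.det_transpose (M := Matrix.of fun i j => MvPolynomial.eval x (E i j))]
      congr 1
      funext i l
      simp only [RingHom.mapMatrix_apply, Matrix.map_apply, Matrix.of_apply, Matrix.transpose_apply,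
        Cfsg.Agent.Unitary.conjHom_apply, hEval x hx, sub_pow_q U.hF, mul_pow, hx,
        ← U.H₂.conj_symm, ← U.H₁.conj_symm])
  set α := al x with hαdef
  obtain ⟨c, hc0, hcE⟩ := Matrix.exists_vecMul_eq_zero_iff.2 ((Herm.eval_det E x).symm.trans hdet)
  set w := app g (U.D.T α b') with hwdef
  set lam := x (Fin.last (n₁ + n₁))
  set d := U.lc c w with hd
  have hcd : U.cb d w = lam • c := by
    refine sub_eq_zero.1 (U.nd₁ _ fun a => ?_)
    have h1 : ∀ l, U.h₁ (U.cb d w - lam • c) (Pi.single l 1) = 0 := fun l => by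
      have h2 := congrFun hcE l
      simp only [Matrix.vecMul, dotProduct, Matrix.of_apply, hEval x hx, Pi.zero_apply] at h2
      rw [U.H₁.sub_left, ← U.herm_right, U.herm_lc, U.H₁.smul_left]
      conv_lhs => arg 2; rw [pi_eq_sum_univ' c, U.H₁.sum_left, Finset.mul_sum]
      rw [hd, U.lc_eq_sum c, U.H₂.sum_right U.hF, ← Finset.sum_sub_distrib, ← h2]
      refine Finset.sum_congr rfl fun j _ => ?_
      rw [U.H₂.smul_right, pow_q_pow_q U.hF, U.H₁.smul_left]
      ring
    rw [pi_eq_sum_univ' a, U.H₁.sum_right U.hF]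
    exact Finset.sum_eq_zero fun l _ => by rw [U.H₁.smul_right, h1, mul_zero]
  have hα : α ≠ 0 := by
    intro h0
    have hw0 : w = 0 := by rw [hwdef, h0]; simp
    have hlam : lam = 0 := by
      have h1 := hcd
      rw [hw0, map_zero, eq_comm, smul_eq_zero] at h1
      exact h1.resolve_right hc0
    refine hx0 (funext fun i => ?_)
    induction i using Fin.lastCases with
    | last => exact hlam
    | cast i =>
      have hxy : ∀ i, x (Fin.castAdd n₁ i).castSucc = 0 ∧ x (Fin.natAdd n₁ i).castSucc = 0 := fun i => by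
        have e1 : x (Fin.castAdd n₁ i).castSucc + ω * x (Fin.natAdd n₁ i).castSucc = 0 := congrFun h0 i
        have e2 := congrArg (fun z => z ^ q) e1
        simp only [add_pow_q U.hF, mul_pow, hx, zero_pow_q U.hF] at e2
        have e3 : (ω - ω ^ q) * x (Fin.natAdd n₁ i).castSucc = 0 := by linear_combination e1 - e2
        have e4 := (mul_eq_zero.1 e3).resolve_left (sub_ne_zero.2 (Ne.symm hω))
        exact ⟨by rwa [e4, mul_zero, add_zero] at e1, e4⟩
      induction i using Fin.addCases with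
      | left i => exact (hxy i).1
      | right i => exact (hxy i).2
  have hd0 : d ≠ 0 := F2 c α hc0 hα
  have hdd : U.h₂ d d = lam * U.h₁ c c := by
    rw [show U.h₂ d d = U.h₂ (U.lc c w) d from rfl, ← U.herm_lc, U.herm_right, hcd, U.H₁.smul_left]
  have hlam0 : lam ≠ 0 := fun h0 =>
    F1 d α hd0 (by rw [hdd, h0, zero_mul]) hα (by rw [← hwdef, hcd, h0, zero_smul])
  -- the final argument
  have finish : ∀ (h : GL (Fin n) F), h ∈ M → app h w = w → ∀ (A1 : F), A1 ≠ 0 →
      ∀ (s : Fin n₂ → F), (∀ x, ∃ u u', app h x = x + A1 • U.D.T c (U.lc c x) + U.D.T u d + U.D.T u' s) →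
      False := by
    intro h hhM hfix A1 hA1 s hform
    have hstab := U.stab_line_of_fix hHM hMK hS hb'0 hb' hg hhM hα (by rw [← hwdef]; exact hfix)
    let W2 := Submodule.span F (Set.range ![d, s])
    have hW2 : finrank F W2 ≤ 2 := (finrank_range_le_card _).trans_eq (Fintype.card_fin 2)
    have hdW : d ∈ W2 := Submodule.subset_span ⟨0, rfl⟩
    have hsW : s ∈ W2 := Submodule.subset_span ⟨1, rfl⟩
    have hmem : ∀ a, U.lc c (app g (U.D.T a b')) ∈ W2 := by
      intro a
      set y := app g (U.D.T a b')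
      obtain ⟨u, u', huu⟩ := hform y
      have hdiff : app h y - y ∈ (U.D.line b').map (app g).toLinearMap :=
        Submodule.sub_mem _ (hstab y ⟨_, U.D.mem_line a, rfl⟩) ⟨_, U.D.mem_line a, rfl⟩
      obtain ⟨_, ⟨e, rfl⟩, he⟩ := hdiff
      simp only [LinearEquiv.coe_coe, LinearMap.flip_apply] at he
      have hrow : ∀ i, U.D.row (app g (U.D.T e b')) i =
          (A1 * c i) • U.lc c y + (u i • d + u' i • s) := fun i => by
        rw [he, huu]
        simp only [map_sub, map_add, map_smul, Pi.sub_apply, Pi.add_apply, Pi.smul_apply, U.row_of_T,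
          smul_smul]
        module
      by_cases he0 : e = 0
      · obtain ⟨i, hi⟩ := Function.ne_iff.1 hc0
        have := hrow i
        rw [he0, map_zero, LinearMap.zero_apply, map_zero, map_zero, Pi.zero_apply, eq_comm,
          add_eq_zero_iff_eq_neg] at this
        rw [← Submodule.smul_mem_iff W2 (mul_ne_zero hA1 hi), this]
        exact neg_mem (W2.add_mem (W2.smul_mem _ hdW) (W2.smul_mem _ hsW))
      · exfalso
        obtain ⟨z, hz0, hz, hzc⟩ := U.exists_cb_zero (x := app g (U.D.T e b'))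
          (W := W2 ⊔ F ∙ U.lc c y) (by
            have h1 := Submodule.finrank_sup_add_finrank_inf_eq W2 (F ∙ U.lc c y)
            have h3 : finrank F (F ∙ U.lc c y) ≤ 1 :=
              (finrank_span_le_card {U.lc c y}).trans_eq (by simp)
            omega) fun i => by
          rw [hrow]
          exact Submodule.add_mem _ (Submodule.smul_mem _ _
              (Submodule.mem_sup_right (Submodule.mem_span_singleton_self _)))
            (Submodule.mem_sup_left (W2.add_mem (W2.smul_mem _ hdW) (W2.smul_mem _ hsW)))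
        exact F1 z e hz0 hz he0 hzc
    let φ : (Fin n₁ → F) →ₗ[F] W2 := LinearMap.codRestrict W2
      (U.lc c ∘ₗ (app g).toLinearMap ∘ₗ U.D.T.flip b') hmem
    obtain ⟨a, ha, ha0⟩ := Submodule.exists_mem_ne_zero_of_ne_bot
      (LinearMap.ker_ne_bot_of_finrank_lt (f := φ) (by rw [finrank_fin_fun]; omega))
    exact F2 c a hc0 ha0 (congrArg Subtype.val (LinearMap.mem_ker.1 ha))
  by_cases hcc : U.h₁ c c = 0
  · obtain ⟨s0, hs00, hs0⟩ := exists_skew U.hF
    have hdd0 : U.h₂ d d = 0 := by rw [hdd, hcc, mul_zero]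
    have hlamq : lam ^ q = lam := hx _
    have hs1 : -(s0 / lam) + (-(s0 / lam)) ^ q = 0 := by
      rw [neg_pow_q U.hF, div_pow, hs0, hlamq]; ring
    set h := U.D.kr (tu U.H₁ c s0) (tu U.H₂ d (-(s0 / lam)))
    have hap : ∀ y, app h y = y + s0 • U.D.T c (U.lc c y) + (-(s0 / lam)) • U.D.T (U.cb d y) d +
        (s0 * -(s0 / lam) * U.h₂ (U.lc c y) d) • U.D.T c d := fun y =>
      LinearMap.congr_fun (U.D.lin_ext (f := (app h).toLinearMap)
        (g := LinearMap.id + s0 • (U.D.T c ∘ₗ U.lc c) + (-(s0 / lam)) • (U.D.T.flip d ∘ₗ U.cb d) +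
          (((s0 * -(s0 / lam)) • (fl U.H₂ d ∘ₗ U.lc c)).smulRight (U.D.T c d))) fun a v => by
          simp only [h, LinearEquiv.coe_coe, U.D.app_kr, tu_apply U.H₁ hcc, tu_apply U.H₂ hdd0,
            LinearMap.add_apply, LinearMap.id_apply, LinearMap.smul_apply, LinearMap.comp_apply,
            LinearMap.flip_apply, LinearMap.smulRight_apply, fl_apply, U.cb_T, U.lc_T,
            U.H₂.smul_left, map_add, map_smul, smul_eq_mul, smul_smul]
          module) y
    refine finish h (hHM (U.kr_mem_stab (tu_iso U.hF U.H₁ hcc (by rw [hs0, add_neg_cancel]))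
      (tu_iso U.hF U.H₂ hdd0 hs1) (tu_mem_sl U.H₁ _ _) (tu_mem_sl U.H₂ _ _))) ?_ s0 hs00 0
      fun y => ⟨(-(s0 / lam)) • U.cb d y + (s0 * -(s0 / lam) * U.h₂ (U.lc c y) d) • c, 0, ?_⟩
    · rw [hap, ← hd, hcd, hdd0, map_smul, LinearMap.smul_apply, smul_smul,
        show -(s0 / lam) * lam = -s0 by field_simp]
      simp
    · rw [hap]
      simp only [map_add, map_smul, LinearMap.add_apply, LinearMap.smul_apply, map_zero, add_zero]
      abel
  · have hdd0 : U.h₂ d d ≠ 0 := by rw [hdd]; exact mul_ne_zero hlam0 hcc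
    obtain ⟨ζ, hζ, hζ1⟩ : ∃ ζ : F, ζ ^ (q + 1) = 1 ∧ ζ ≠ 1 := by
      by_contra! hz
      have h1 : Nat.card {x : F // x ^ (q + 1) = 1} ≤ 1 :=
        Finite.card_le_one_iff_subsingleton.2
          ⟨fun a b => Subtype.ext ((hz _ a.2).trans (hz _ b.2).symm)⟩
      rw [card_norm_one U.hF] at h1
      have := U.two_le_q'
      omega
    obtain ⟨s, hs, hs0⟩ := Submodule.exists_mem_ne_zero_of_ne_bot
      (p := perpF U.H₂ fun i => U.D.row w i) (fun h0 => by
        have := le_finrank_perpF U.H₂ fun i => U.D.row w i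
        rw [h0, finrank_bot] at this
        omega)
    have hsw : U.cb s w = 0 := funext fun i => (U.H₂.eq_zero_symm U.hF).1 ((mem_perpF U.H₂).1 hs i)
    have hss : U.h₂ s s ≠ 0 := fun h0 => F1 s α hs0 h0 hα (hwdef ▸ hsw)
    have hds : U.h₂ d s = 0 := by
      rw [show U.h₂ d s = U.h₂ (U.lc c w) s from rfl, ← U.herm_lc, U.herm_right, hsw, U.H₁.zero_left]
    set μ := (ζ⁻¹) ^ 4 with hμdef
    have hζ0 : ζ ≠ 0 := fun h0 => by rw [h0, zero_pow (Nat.succ_ne_zero q)] at hζ; exact zero_ne_one hζ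
    have hμ1 : μ ≠ 1 := fun h0 => hζ1 (by
      have h3 : ((ζ - 1) ^ 2) ^ 2 = 0 := by
        rw [hμdef, inv_pow, inv_eq_one] at h0
        linear_combination h0 + (-2 * ζ ^ 3 + 3 * ζ ^ 2 - 2 * ζ + 1) * h2
      exact sub_eq_zero.1 (pow_eq_zero_iff two_ne_zero |>.1 (pow_eq_zero_iff two_ne_zero |>.1 h3)))
    have hμn : μ ^ (q + 1) = 1 := by rw [hμdef, ← pow_mul, mul_comm, pow_mul, inv_pow, hζ]; simp
    obtain ⟨A, hA, hAi, hAd⟩ := U.pseudo_iso U.H₁ hcc hμn
    obtain ⟨B1, hB1, hB1i, hB1d⟩ := U.pseudo_iso U.H₂ hdd0 (μ := μ⁻¹) (by rw [inv_pow, hμn, inv_one])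
    obtain ⟨B2, hB2, hB2i, hB2d⟩ := U.pseudo_iso U.H₂ hss hζ
    set A1 := (μ - 1) / U.h₁ c c
    set Bd := (μ⁻¹ - 1) / U.h₂ d d
    set C1 := (ζ - 1) / U.h₂ s s
    set h := U.D.kr A (B1 * B2)
    have hBi : Iso U.h₂ (B1 * B2) := fun u v => by
      rw [map_mul, LinearEquiv.mul_apply, LinearEquiv.mul_apply, hB1i, hB2i]
    have hhM : h ∈ M := hHM ⟨U.D.kr_mem _ _, U.mem_suGL_of_iso (U.kr_iso hAi hBi) (mem_sl_iff.2 (by
      rw [U.D.det_kr, Units.val_mul, Matrix.det_mul, hAd, hB1d, hB2d, h4, h5, hμdef]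
      field_simp))⟩
    have hap : ∀ y, app h y = y + A1 • U.D.T c (U.lc c y) + Bd • U.D.T (U.cb d y) d +
        C1 • U.D.T (U.cb s y) s + (A1 * Bd * U.h₂ (U.lc c y) d) • U.D.T c d +
        (A1 * C1 * U.h₂ (U.lc c y) s) • U.D.T c s := fun y =>
      LinearMap.congr_fun (U.D.lin_ext (f := (app h).toLinearMap)
        (g := LinearMap.id + A1 • (U.D.T c ∘ₗ U.lc c) + Bd • (U.D.T.flip d ∘ₗ U.cb d) +
          C1 • (U.D.T.flip s ∘ₗ U.cb s) +
          ((A1 * Bd) • (fl U.H₂ d ∘ₗ U.lc c)).smulRight (U.D.T c d) +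
          ((A1 * C1) • (fl U.H₂ s ∘ₗ U.lc c)).smulRight (U.D.T c s)) fun a v => by
          simp only [h, LinearEquiv.coe_coe, U.D.app_kr, hA, map_mul, LinearEquiv.mul_apply, hB2,
            hB1, U.H₂.add_left, U.H₂.smul_left, (U.H₂.eq_zero_symm U.hF).1 hds, mul_zero, add_zero,
            LinearMap.add_apply, LinearMap.id_apply, LinearMap.smul_apply, LinearMap.comp_apply,
            LinearMap.flip_apply, LinearMap.smulRight_apply, fl_apply, U.cb_T, U.lc_T, map_add,
            map_smul, smul_eq_mul, smul_smul]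
          module) y
    refine finish h hhM ?_ A1 (div_ne_zero (sub_ne_zero.2 hμ1) hcc) s fun y =>
      ⟨Bd • U.cb d y + (A1 * Bd * U.h₂ (U.lc c y) d) • c,
        C1 • U.cb s y + (A1 * C1 * U.h₂ (U.lc c y) s) • c, ?_⟩
    · rw [hap, hcd, hsw, ← hd, hds, map_smul, LinearMap.smul_apply, map_zero, LinearMap.zero_apply,
        smul_zero, mul_zero, zero_smul, add_zero, add_zero, smul_smul, add_assoc, add_assoc,
        ← add_smul, ← add_smul, add_eq_left]
      convert zero_smul F (U.D.T c d) using 2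
      simp only [A1, Bd, hdd]
      have hμ0 : μ ≠ 0 := fun h0 => by
        rw [hμdef, pow_eq_zero_iff (by norm_num), inv_eq_zero] at h0
        exact hζ0 h0
      field_simp
      ring
    · rw [hap]
      simp only [map_add, map_smul, LinearMap.add_apply, LinearMap.smul_apply]
      abel

/-- All elements are tensors when all long root operators are scalar. -/
theorem le_tens : M ≤ U.tens := by
  intro g hg
  obtain ⟨m', hm1, hm2, z, hzi, hz⟩ := U.exists_z_family hHM hMK hS
  have hlt := U.lt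
  have h5 := U.four_le
  by_cases hm : n₁ < (m' + 1) * (m' + 1)
  · exact U.mem_tens_generic hHM hMK hS hzi hz hm hg
  · have hm3 : m' + 1 ≤ 2 := by
      by_contra! h3
      have h4 : 3 * (m' + 1) ≤ (m' + 1) * (m' + 1) := Nat.mul_le_mul_right _ h3
      omega
    have hm4 : m' = 1 := by omega
    subst hm4
    have e5 : n₂ = 5 := by omega
    have e4 : n₁ = 4 := by omega
    by_cases h2 : (2 : F) = 0
    · exact U.mem_tens_four_even hHM hMK hS e4 e5 h2 hg
    · exact U.mem_tens_four_odd hHM hMK hS e4 e5 h2 hg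

end UData

end Cfsg.Agent.C4
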