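import Cfsg.Agent.Lib.C4.Unitary.Base

/-!
# A nonscalar long root operator generates the special unitary group

From one nonscalar operator one gets a transvection at a doubly isotropic tensor, hence at every
tensor with isotropic first factor, hence at every isotropic vector.
-/

set_option autoImplicit false
set_option linter.unusedSectionVars false

namespace Cfsg.Agent.C4

open Matrix Module Cfsg.Agent.Transvect Cfsg.Agent.Unitary Cfsg.Agent.C4.Herm
open scoped MatrixGroups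

namespace UData0

variable {F : Type*} [Field F] [Fintype F] {q n n₁ n₂ : ℕ} (U : UData0 F q n n₁ n₂)

local notation "hh" => Cfsg.hermForm n F q

include U

lemma exists_fixed_ne (hq : 3 ≤ q) (c : F) : ∃ f : F, f ^ q = f ∧ f ≠ 0 ∧ f ≠ c := by
  classical
  by_contra! h
  have hsub : ∀ x : {x : F // x ^ q = x}, x.1 ∈ ({0, c} : Finset F) := fun x => by
    by_cases h0 : x.1 = 0
    · simp [h0]
    · simp [h x.1 x.2 h0]
  have := Nat.card_le_card_of_injective (fun x => (⟨x.1, hsub x⟩ : ({0, c} : Finset F)))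
    fun a b h => Subtype.ext (congrArg (fun y : ({0, c} : Finset F) => y.1) h)
  rw [card_fixed U.hF, Nat.card_eq_fintype_card, Fintype.card_coe] at this
  exact absurd (this.trans Finset.card_le_two) (by omega)

lemma exists_not_fixed_trace {c : F} (hc : c ^ q = c) (hc0 : c ≠ 0) :
    ∃ γ : F, γ + γ ^ q = c ∧ γ ^ q ≠ γ := by
  obtain ⟨t, ht⟩ := exists_trace_eq U.hF hc
  by_cases h : t ^ q = t
  · obtain ⟨d, hd0, hd⟩ := exists_skew U.hF
    have h2 : (2 : F) ≠ 0 := fun h2 => hc0 (by rw [← ht, h]; linear_combination t * h2)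
    refine ⟨t + d, by rw [add_pow_q U.hF, hd]; linear_combination ht, fun h3 => ?_⟩
    rw [add_pow_q U.hF, h, hd, add_right_inj] at h3
    exact hd0 ((mul_eq_zero.1 (show (2 : F) * d = 0 by linear_combination -h3)).resolve_left h2)
  · exact ⟨t, ht, h⟩

lemma exists_nu : ∃ ν : F, ν - ν ^ q ≠ 0 := by
  obtain ⟨γ, -, h⟩ := U.exists_not_fixed_trace (one_pow q) one_ne_zero
  exact ⟨γ, sub_ne_zero.2 (Ne.symm h)⟩

/-! ### Rank one and rank two operators on the first factor -/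

/-- `x ↦ h(x,r) r`. -/
def opP (r : Fin n₁ → F) : (Fin n₁ → F) →ₗ[F] (Fin n₁ → F) := (fl U.H₁ r).smulRight r

/-- `x ↦ h(x,r) w - h(x,w) r`. -/
def opW (r w : Fin n₁ → F) : (Fin n₁ → F) →ₗ[F] (Fin n₁ → F) :=
  (fl U.H₁ r).smulRight w - (fl U.H₁ w).smulRight r

/-- Conjugation by an element of `GL`. -/
def conjOp (A : GL (Fin n₁) F) (k : (Fin n₁ → F) →ₗ[F] (Fin n₁ → F)) :
    (Fin n₁ → F) →ₗ[F] (Fin n₁ → F) :=
  (app A).toLinearMap ∘ₗ k ∘ₗ (app A⁻¹).toLinearMap

lemma opP_apply (r x : Fin n₁ → F) : U.opP r x = U.h₁ x r • r := rfl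

lemma opW_apply (r w x : Fin n₁ → F) : U.opW r w x = U.h₁ x r • w - U.h₁ x w • r := rfl

lemma conjOp_apply (A : GL (Fin n₁) F) (k : (Fin n₁ → F) →ₗ[F] (Fin n₁ → F)) (x : Fin n₁ → F) :
    conjOp A k x = app A (k (app A⁻¹ x)) := rfl

lemma iso_inv {A : GL (Fin n₁) F} (hA : Iso U.h₁ A) (x r : Fin n₁ → F) :
    U.h₁ (app A⁻¹ x) r = U.h₁ x (app A r) := by rw [← hA, app_app_inv]

lemma conjOp_P {A : GL (Fin n₁) F} (hA : Iso U.h₁ A) (r : Fin n₁ → F) :
    conjOp A (U.opP r) = U.opP (app A r) := LinearMap.ext fun x => by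
  rw [U.conjOp_apply, U.opP_apply, U.opP_apply, map_smul, U.iso_inv hA]

lemma conjOp_W {A : GL (Fin n₁) F} (hA : Iso U.h₁ A) (r w : Fin n₁ → F) :
    conjOp A (U.opW r w) = U.opW (app A r) (app A w) := LinearMap.ext fun x => by
  rw [U.conjOp_apply, U.opW_apply, U.opW_apply, map_sub, map_smul, map_smul, U.iso_inv hA,
    U.iso_inv hA]

lemma conjOp_add_smul (A : GL (Fin n₁) F) (k k' : (Fin n₁ → F) →ₗ[F] (Fin n₁ → F)) (c : F) :
    conjOp A (k + c • k') = conjOp A k + c • conjOp A k' := LinearMap.ext fun x => by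
  rw [U.conjOp_apply, LinearMap.add_apply, LinearMap.smul_apply, map_add, map_smul]
  rfl

lemma conjOp_smul (A : GL (Fin n₁) F) (k : (Fin n₁ → F) →ₗ[F] (Fin n₁ → F)) (c : F) :
    conjOp A (c • k) = c • conjOp A k := LinearMap.ext fun x => by
  rw [U.conjOp_apply, LinearMap.smul_apply, map_smul]
  rfl

lemma opW_add_smul (r w : Fin n₁ → F) (ρ : F) :
    U.opW r (w + ρ • r) = U.opW r w + (ρ - ρ ^ q) • U.opP r := LinearMap.ext fun x => by
  simp only [U.opW_apply, U.opP_apply, LinearMap.add_apply, LinearMap.smul_apply,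
    U.H₁.add_right U.hF, U.H₁.smul_right]
  module

/-- `M` contains the tensors of special isometries. -/
def KrMem (M : Subgroup (GL (Fin n) F)) : Prop :=
  ∀ A B, Iso U.h₁ A → Iso U.h₂ B → A ∈ Cfsg.Geo.specialLinear (Fin n₁) F →
    B ∈ Cfsg.Geo.specialLinear (Fin n₂) F → U.D.kr A B ∈ M

variable {M : Subgroup (GL (Fin n) F)} (hHM : U.KrMem M) (hMK : M ≤ suGL n F q)

lemma rt_mul {b : Fin n₂ → F} (hb : U.h₂ b b = 0) (k k' : (Fin n₁ → F) →ₗ[F] (Fin n₁ → F)) :
    U.D.rt k b (fl U.H₂ b) * U.D.rt k' b (fl U.H₂ b) = U.D.rt (k + k') b (fl U.H₂ b) := by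
  have hb' : (fl U.H₂ b) b = 0 := hb
  refine gl_ext fun x => ?_
  rw [map_mul, LinearEquiv.mul_apply, U.D.rt_apply hb', U.D.rt_apply hb', U.D.rt_apply hb',
    map_add, U.D.ct_T, hb']
  simp [map_add, add_comm, add_left_comm]

/-- The long root operators in `M` at `b`. -/
def kSet (M : Subgroup (GL (Fin n) F)) {b : Fin n₂ → F} (hb : U.h₂ b b = 0) :
    AddSubgroup ((Fin n₁ → F) →ₗ[F] (Fin n₁ → F)) where
  carrier := {k | U.D.rt k b (fl U.H₂ b) ∈ M}
  add_mem' {k k'} h h' := by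
    show U.D.rt (k + k') b (fl U.H₂ b) ∈ M
    rw [← U.rt_mul hb]; exact mul_mem h h'
  zero_mem' := by
    show U.D.rt 0 b (fl U.H₂ b) ∈ M
    have : U.D.rt 0 b (fl U.H₂ b) = 1 := gl_ext fun x => by
      rw [U.D.rt_apply (show (fl U.H₂ b) b = 0 from hb)]; simp
    rw [this]; exact one_mem M
  neg_mem' {k} h := by
    show U.D.rt (-k) b (fl U.H₂ b) ∈ M
    have e : U.D.rt k b (fl U.H₂ b) * U.D.rt (-k) b (fl U.H₂ b) = 1 := by
      rw [U.rt_mul hb, add_neg_cancel]
      exact gl_ext fun x => by rw [U.D.rt_apply (show (fl U.H₂ b) b = 0 from hb)]; simp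
    rw [← inv_eq_of_mul_eq_one_right e]; exact inv_mem h

lemma mem_kSet {b : Fin n₂ → F} {hb : U.h₂ b b = 0} {k : (Fin n₁ → F) →ₗ[F] (Fin n₁ → F)} :
    k ∈ U.kSet M hb ↔ U.D.rt k b (fl U.H₂ b) ∈ M := Iff.rfl

include hHM

lemma kSet_scalar {b : Fin n₂ → F} (hb : U.h₂ b b = 0) {s : F} (hs : s + s ^ q = 0) :
    s • LinearMap.id ∈ U.kSet M hb := by
  rw [U.mem_kSet, ← U.R_eq_rt hb]
  exact hHM _ _ (U.iso_one _) (tu_iso U.hF U.H₂ hb hs) (one_mem _) (tu_mem_sl U.H₂ b s)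

lemma kSet_conj {b : Fin n₂ → F} {hb : U.h₂ b b = 0} {k : (Fin n₁ → F) →ₗ[F] (Fin n₁ → F)}
    (hk : k ∈ U.kSet M hb) {A : GL (Fin n₁) F} (hA : U.D.kr A 1 ∈ M) :
    conjOp A k ∈ U.kSet M hb := by
  have hb' : (fl U.H₂ b) b = 0 := hb
  have e : U.D.rt (conjOp A k) b (fl U.H₂ b) * U.D.kr A 1 =
      U.D.kr A 1 * U.D.rt k b (fl U.H₂ b) := U.D.gl_ext_T fun a w => by
    rw [map_mul, map_mul, LinearEquiv.mul_apply, LinearEquiv.mul_apply, U.D.app_kr,
      U.D.rt_apply hb', U.D.rt_apply hb', map_add, U.D.app_kr, U.D.ct_T, U.D.ct_T, U.D.app_kr,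
      U.conjOp_apply]
    simp only [map_smul, LinearMap.smul_apply, map_one, LinearEquiv.coe_one, id_eq, app_inv_app]
  rw [U.mem_kSet, eq_mul_inv_of_mul_eq e]
  exact mul_mem (mul_mem hA hk) (inv_mem hA)

lemma kr_eichA_mem {r v : Fin n₁ → F} (hr : U.h₁ r r = 0) (hvr : U.h₁ v r = 0) {c : F}
    (hc : c + c ^ q = -(U.h₁ v v)) : U.D.kr (eich U.H₁ r v c) 1 ∈ M :=
  hHM _ _ (eich_iso U.hF U.H₁ hr hvr hc) (U.iso_one _) (eich_mem_sl U.H₁ r v c) (one_mem _)

lemma Lt_mem_M {r : Fin n₁ → F} (hr : U.h₁ r r = 0) {s : F} (hs : s + s ^ q = 0) : U.Lt r s ∈ M :=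
  hHM _ _ (tu_iso U.hF U.H₁ hr hs) (U.iso_one _) (tu_mem_sl U.H₁ r s) (one_mem _)

/-- A rank one operator from a rank two one. -/
lemma P_of_W {b : Fin n₂ → F} {hb : U.h₂ b b = 0} {r : Fin n₁ → F} (hr0 : r ≠ 0)
    (hr : U.h₁ r r = 0) {w : Fin n₁ → F} {γ : F} (hwr : U.h₁ w r = 0) (hw : w ∉ F ∙ r)
    (hk : U.opW r w + γ • U.opP r ∈ U.kSet M hb) :
    ∃ c : F, c ≠ 0 ∧ c • U.opP r ∈ U.kSet M hb := by
  obtain ⟨r', hr', hr'r, hrr', -⟩ := exists_partner U.hF U.H₁ U.nd₁ hr0 hr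
  set w' := w - U.h₁ w r' • r with hw'
  obtain ⟨x, hx⟩ := exists_pair U.hF U.H₁ U.nd₁ (v := w') fun h => hw
    (Submodule.mem_span_singleton.2 ⟨_, (sub_eq_zero.1 h).symm⟩)
  set v0 := x - U.h₁ x r • r'
  have hv0r : U.h₁ v0 r = 0 := by rw [U.H₁.sub_left, U.H₁.smul_left, hr'r, mul_one, sub_self]
  have hv0w : U.h₁ w v0 = 1 := by
    rw [U.H₁.conj_symm v0 w, U.H₁.sub_left, U.H₁.smul_left, U.H₁.conj_symm w r']
    rw [hw', U.H₁.sub_right U.hF, U.H₁.smul_right] at hx
    rw [show U.h₁ x w - U.h₁ x r * U.h₁ w r' ^ q = 1 by linear_combination hx, one_pow]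
  obtain ⟨ν, hν⟩ := U.exists_nu
  set v := ν • v0
  have hvr : U.h₁ v r = 0 := by rw [U.H₁.smul_left, hv0r, mul_zero]
  have hrv := (U.H₁.eq_zero_symm U.hF).1 hvr
  obtain ⟨c, hc⟩ := exists_trace_eq U.hF (c := -(U.h₁ v v))
    (by rw [neg_pow_q U.hF, U.H₁.self_fixed])
  set E := eich U.H₁ r v c
  have hEr : app E r = r := by rw [eich_apply U.H₁ hr hrv hvr, hr, hrv]; simp
  have hEw : app E w = w + (-(ν ^ q)) • r := by
    rw [eich_apply U.H₁ hr hrv hvr, hwr, U.H₁.smul_right, hv0w, mul_one]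
    simp [sub_eq_add_neg]
  have h1 := U.kSet_conj hHM hk (U.kr_eichA_mem hHM hr hvr hc)
  have h2 := sub_mem h1 hk
  have hEi : Iso U.h₁ E := eich_iso U.hF U.H₁ hr hvr hc
  have e : conjOp E (U.opW r w + γ • U.opP r) - (U.opW r w + γ • U.opP r) =
      (-(ν ^ q) - (-(ν ^ q)) ^ q) • U.opP r := by
    have ha : conjOp E (U.opW r w + γ • U.opP r) =
        conjOp E (U.opW r w) + γ • conjOp E (U.opP r) :=
      U.conjOp_add_smul _ _ _ _
    rw [ha, U.conjOp_W hEi, U.conjOp_P hEi, hEr, hEw, U.opW_add_smul]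
    module
  rw [e] at h2
  refine ⟨_, ?_, h2⟩
  rw [neg_pow_q U.hF, pow_q_pow_q U.hF]
  intro h0
  exact hν (by linear_combination h0)

include hMK

lemma skew_of_mem {b : Fin n₂ → F} (hb0 : b ≠ 0) {hb : U.h₂ b b = 0}
    {k : (Fin n₁ → F) →ₗ[F] (Fin n₁ → F)} (hk : k ∈ U.kSet M hb) (a a' : Fin n₁ → F) :
    U.h₁ (k a) a' + U.h₁ a (k a') = 0 := by
  obtain ⟨b', hb', h1, h2, -⟩ := exists_partner U.hF U.H₂ U.nd₂ hb0 hb
  have hb'' : (fl U.H₂ b) b = 0 := hb
  have e : ∀ a, app (U.D.rt k b (fl U.H₂ b)) (U.D.T a b') = U.D.T a b' + U.D.T (k a) b := fun a => by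
    rw [U.D.rt_apply hb'', U.D.ct_T, fl_apply, h1, one_smul]
  have h3 : hh (app (U.D.rt k b (fl U.H₂ b)) (U.D.T a b')) (app (U.D.rt k b (fl U.H₂ b)) (U.D.T a' b')) =
      hh (U.D.T a b') (U.D.T a' b') := (hMK hk).1 _ _
  rw [e, e, U.hermV.add_left, U.hermV.add_right U.hF, U.hermV.add_right U.hF, U.tensor, U.tensor,
    U.tensor, U.tensor, hb, h1, h2] at h3
  linear_combination h3

/-- A nonscalar operator gives a rank one one. -/
lemma exists_P {b : Fin n₂ → F} (hb0 : b ≠ 0) {hb : U.h₂ b b = 0}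
    {k : (Fin n₁ → F) →ₗ[F] (Fin n₁ → F)} (hk : k ∈ U.kSet M hb)
    (hns : ¬ ∃ c : F, ∀ a, k a = c • a) :
    ∃ r, r ≠ 0 ∧ U.h₁ r r = 0 ∧ ∃ c : F, c ≠ 0 ∧ c • U.opP r ∈ U.kSet M hb := by
  obtain ⟨r, hr, hkr⟩ : ∃ r, U.h₁ r r = 0 ∧ ∀ d : F, k r ≠ d • r := by
    by_contra! h
    exact hns (scalar_of_iso_eigen U.hF U.H₁ U.nd₁ U.two_le h)
  have hr0 : r ≠ 0 := fun h => hkr 0 (by simp [h])
  refine ⟨r, hr0, hr, ?_⟩
  have hskew := U.skew_of_mem hHM hMK hb0 hk
  set e := U.h₁ (k r) r with he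
  have heq : e ^ q = -e := by
    rw [← U.H₁.conj_symm]; linear_combination hskew r r
  have hD : ∀ s, s + s ^ q = 0 → U.opW r (s • k r) + (s ^ 2 * e) • U.opP r ∈ U.kSet M hb := by
    intro s hs
    have hs' : -s + (-s) ^ q = 0 := by rw [neg_pow_q U.hF, skew_pow hs]; ring
    have ht : U.D.kr (tu U.H₁ r s) 1 ∈ M := U.Lt_mem_M hHM hr hs
    have h1 := sub_mem hk (U.kSet_conj hHM hk ht)
    convert h1 using 1
    refine LinearMap.ext fun x => ?_
    have hinv : app (tu U.H₁ r s)⁻¹ x = x + (-s * U.h₁ x r) • r := by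
      apply (app (tu U.H₁ r s)).injective
      rw [app_app_inv, tu_apply U.H₁ hr, U.H₁.add_left, U.H₁.smul_left, hr]
      module
    have hxr : U.h₁ x (k r) = -U.h₁ (k x) r := eq_neg_of_add_eq_zero_right (hskew x r)
    rw [LinearMap.sub_apply, U.conjOp_apply, hinv, tu_apply U.H₁ hr, LinearMap.add_apply,
      LinearMap.smul_apply, U.opW_apply, U.opP_apply, map_add, map_smul, U.H₁.add_left,
      U.H₁.smul_left, U.H₁.smul_right, hxr, skew_pow hs, ← he]
    module
  obtain ⟨s, hs0, hsq⟩ := exists_skew U.hF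
  have hs : s + s ^ q = 0 := by rw [hsq, add_neg_cancel]
  have hD1 := hD s hs
  have hwnot : s • k r ∉ F ∙ r := fun h => by
    obtain ⟨d, hd⟩ := Submodule.mem_span_singleton.1 h
    exact hkr (s⁻¹ * d) (by rw [mul_smul, hd, inv_smul_smul₀ hs0])
  by_cases he0 : e = 0
  · exact U.P_of_W hHM hr0 hr (by rw [U.H₁.smul_left, ← he, he0, mul_zero]) hwnot hD1
  by_cases h3 : 3 ≤ n₁
  · obtain ⟨v, hv, hvr'⟩ : ∃ v, U.h₁ v r = 0 ∧ v ∉ F ∙ r := by
      by_contra! h
      have hle : LinearMap.ker (fl U.H₁ r) ≤ F ∙ r := fun v hv => h v hv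
      have h1 := LinearMap.finrank_range_add_finrank_ker (fl U.H₁ r)
      have h2 := Submodule.finrank_mono hle
      have h4 := Submodule.finrank_le (LinearMap.range (fl U.H₁ r))
      rw [finrank_fin_fun] at h1
      rw [finrank_span_singleton hr0] at h2
      rw [finrank_self] at h4
      omega
    have hrv := (U.H₁.eq_zero_symm U.hF).1 hv
    obtain ⟨c, hc⟩ := exists_trace_eq U.hF (c := -(U.h₁ v v))
      (by rw [neg_pow_q U.hF, U.H₁.self_fixed])
    set E := eich U.H₁ r v c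
    set w := s • k r with hw
    have hEr : app E r = r := by rw [eich_apply U.H₁ hr hrv hv, hr, hrv]; simp
    have hwr : U.h₁ w r = s * e := by rw [hw, U.H₁.smul_left]
    have hEi : Iso U.h₁ E := eich_iso U.hF U.H₁ hr hv hc
    have hEw : app E w = w + (s * e) • v + (c * (s * e) - U.h₁ w v) • r := by
      rw [eich_apply U.H₁ hr hrv hv, hwr]; module
    have h1 := sub_mem (U.kSet_conj hHM hD1 (U.kr_eichA_mem hHM hr hv hc)) hD1
    set ρ := c * (s * e) - U.h₁ w v
    refine U.P_of_W hHM hr0 hr (w := (s * e) • v) (γ := ρ - ρ ^ q)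
      (by rw [U.H₁.smul_left, hv, mul_zero])
      (fun h => hvr' ((Submodule.smul_mem_iff _ (mul_ne_zero hs0 he0)).1 h)) ?_
    convert h1 using 1
    have ha : conjOp E (U.opW r w + (s ^ 2 * e) • U.opP r) =
        conjOp E (U.opW r w) + (s ^ 2 * e) • conjOp E (U.opP r) :=
      U.conjOp_add_smul _ _ _ _
    rw [ha, U.conjOp_W hEi, U.conjOp_P hEi, hEr, hEw, U.opW_add_smul]
    refine LinearMap.ext fun x => ?_
    simp only [LinearMap.add_apply, LinearMap.sub_apply, LinearMap.smul_apply, U.opW_apply,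
      U.opP_apply, U.H₁.add_right U.hF]
    module
  -- `n₁ = 2`
  have hn2 : n₁ = 2 := by have := U.two_le; omega
  by_cases h2 : (2 : F) = 0
  swap
  · set c := s
    set w := s • k r with hw
    have hA : U.D.kr (tu U.H₁ r c) 1 ∈ M := U.Lt_mem_M hHM hr hs
    have h1 := sub_mem (U.kSet_conj hHM hD1 hA) hD1
    have hEi : Iso U.h₁ (tu U.H₁ r c) := tu_iso U.hF U.H₁ hr hs
    refine ⟨2 * (c * (s * e)), mul_ne_zero h2 (mul_ne_zero hs0 (mul_ne_zero hs0 he0)), ?_⟩
    convert h1 using 1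
    have ha : conjOp (tu U.H₁ r c) (U.opW r w + (s ^ 2 * e) • U.opP r) =
        conjOp (tu U.H₁ r c) (U.opW r w) + (s ^ 2 * e) • conjOp (tu U.H₁ r c) (U.opP r) :=
      U.conjOp_add_smul _ _ _ _
    have hEr : app (tu U.H₁ r c) r = r := by rw [tu_apply U.H₁ hr, hr]; simp
    have hEw : app (tu U.H₁ r c) w = w + (c * (s * e)) • r := by
      rw [tu_apply U.H₁ hr, hw, U.H₁.smul_left]
    rw [ha, U.conjOp_W hEi, U.conjOp_P hEi, hEr, hEw, U.opW_add_smul,
      show (c * (s * e)) ^ q = -(c * (s * e)) by rw [mul_pow, mul_pow, hsq, heq]; ring]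
    module
  -- characteristic two
  obtain ⟨r', hr', hr'r, hrr', -⟩ := exists_partner U.hF U.H₁ U.nd₁ hr0 hr
  have hneg : ∀ z : F, -z = z := fun z => by linear_combination -(z * h2)
  set α := U.h₁ (k r) r'
  have hdec : ∀ x : Fin n₁ → F, x = U.h₁ x r' • r + U.h₁ x r • r' := by
    intro x
    let φ : (Fin n₁ → F) →ₗ[F] (Fin 2 → F) := LinearMap.pi ![fl U.H₁ r', fl U.H₁ r]
    have hφ : Function.Surjective φ := fun y => ⟨y 0 • r + y 1 • r', funext fun i => by
      fin_cases i <;> simp [φ, U.H₁.add_left, U.H₁.smul_left, hr, hr', hr'r, hrr']⟩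
    have hφi : Function.Injective φ :=
      (LinearMap.injective_iff_surjective_of_finrank_eq_finrank (by simp [hn2])).2 hφ
    refine hφi (funext fun i => ?_)
    fin_cases i <;> simp [φ, U.H₁.add_left, U.H₁.smul_left, hr, hr', hr'r, hrr']
  have hcoef : ∀ t, t + t ^ q = 0 → (t * (α + α ^ q) + t ^ 2 * e) • U.opP r ∈ U.kSet M hb := by
    intro t ht
    have hte : t * e + (t * e) ^ q = 0 := by
      rw [mul_pow, skew_pow ht, heq]; linear_combination (t * e) * h2
    have h1 := sub_mem (hD t ht) (U.kSet_scalar hHM hb hte)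
    convert h1 using 1
    refine LinearMap.ext fun x => ?_
    rw [LinearMap.smul_apply, LinearMap.sub_apply, LinearMap.add_apply, LinearMap.smul_apply,
      LinearMap.smul_apply, LinearMap.id_apply, U.opW_apply, U.opP_apply]
    conv_rhs => rw [hdec (k r), ← he, hdec x]
    simp only [smul_add, smul_smul, U.H₁.add_left, U.H₁.smul_left, U.H₁.add_right U.hF,
      U.H₁.smul_right, hr, hr', hr'r, hrr', mul_zero, mul_one, zero_add, add_zero, skew_pow ht,
      mul_pow, heq]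
    match_scalars
    · linear_combination (t * e * U.h₁ x r') * h2
    · ring
  have hq3 : 3 ≤ q := by
    have := U.exc
    have := two_le_q U.hF
    omega
  obtain ⟨f, hf, hf0, hf1⟩ := U.exists_fixed_ne hq3 1
  have hfs : f * s + (f * s) ^ q = 0 := by rw [mul_pow, hf, hsq]; ring
  by_cases hc : s * (α + α ^ q) + s ^ 2 * e = 0
  · refine ⟨_, fun h0 => ?_, hcoef (f * s) hfs⟩
    have h4 : (f * (f - 1)) * (s ^ 2 * e) = 0 := by linear_combination h0 - f * hc
    exact mul_ne_zero (mul_ne_zero hf0 (sub_ne_zero.2 hf1)) (mul_ne_zero (pow_ne_zero 2 hs0) he0) h4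
  · exact ⟨_, hc, hcoef s hs⟩

omit hMK

/-- All skew multiples of a rank one operator. -/
lemma P_scale {b : Fin n₂ → F} {hb : U.h₂ b b = 0} {r : Fin n₁ → F} (hr0 : r ≠ 0)
    (hr : U.h₁ r r = 0) {c : F} (hc0 : c ≠ 0) (hc : c + c ^ q = 0)
    (hk : c • U.opP r ∈ U.kSet M hb) {d : F} (hd : d + d ^ q = 0) :
    d • U.opP r ∈ U.kSet M hb := by
  have hsq : ∀ f : F, f ^ q = f → (f ^ 2 * c) • U.opP r ∈ U.kSet M hb := by
    intro f hf
    by_cases hf0 : f = 0
    · simp [hf0]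
    obtain ⟨s, hs0, hs⟩ := exists_skew U.hF
    have hs' : s + s ^ q = 0 := by rw [hs, add_neg_cancel]
    have hfs : f * s + (f * s) ^ q = 0 := by rw [mul_pow, hf, hs]; ring
    obtain ⟨A, ⟨hA, hAi, hAs⟩, hAr⟩ := exists_scale U.hF U.H₁ U.nd₁
      (K :=      (M.comap U.krL) ⊓ ({ carrier := {A | Iso U.h₁ A}
                                      mul_mem' := fun {A B} ha hb x y => by
                                        rw [map_mul, LinearEquiv.mul_apply, LinearEquiv.mul_apply, ha, hb]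
                                      one_mem' := U.iso_one _
                                      inv_mem' := fun {A} ha x y => by
                                        rw [← ha, app_app_inv, app_app_inv] } ⊓ ⊤))
      (fun v e hv he => ⟨U.Lt_mem_M hHM hv he, tu_iso U.hF U.H₁ hv he, trivial⟩) hr0 hr hs' hfs hs0
      (mul_ne_zero hf0 hs0)
    have h1 := U.kSet_conj hHM hk hA
    convert h1 using 1
    have ha : conjOp A (c • U.opP r) = c • conjOp A (U.opP r) :=
      U.conjOp_smul _ _ _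
    rw [ha, U.conjOp_P hAi, hAr, show f * s / s = f by field_simp]
    refine LinearMap.ext fun x => ?_
    simp only [LinearMap.smul_apply, U.opP_apply, U.H₁.smul_right, neg_pow_q U.hF, hf, smul_smul]
    congr 1
    ring
  have hdc : (d / c) ^ q = d / c := by
    rw [div_pow, skew_pow hd, skew_pow hc, neg_div_neg_eq]
  by_cases h2 : (2 : F) = 0
  · obtain ⟨p, hchar⟩ := CharP.exists F
    have hp : Fact p.Prime := ⟨(CharP.char_is_prime_or_zero F p).resolve_right
      (CharP.char_ne_zero_of_finite F p)⟩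
    have hp2 : p = 2 := (Nat.prime_dvd_prime_iff_eq hp.out Nat.prime_two).1
      ((CharP.cast_eq_zero_iff F p 2).1 (by exact_mod_cast h2))
    subst hp2
    obtain ⟨y, hy⟩ := (bijective_frobenius F 2).2 (d / c)
    rw [frobenius_def] at hy
    have hyq : y ^ q = y := frobenius_inj F 2 (by
      rw [frobenius_def, frobenius_def, ← pow_mul, mul_comm, pow_mul, hy, hdc])
    have := hsq y hyq
    rwa [hy, div_mul_cancel₀ _ hc0] at this
  · have h4 : (4 : F) ≠ 0 := by
      rw [show (4 : F) = 2 * 2 by norm_num]; exact mul_ne_zero h2 h2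
    set x := d / c / 4
    have hx : x ^ q = x := by
      rw [div_pow, hdc, show (4 : F) ^ q = 4 from by
        have := map_ofNat (Cfsg.Agent.Unitary.conjHom U.hF) 4
        simpa using this]
    have a1 := hsq (x + 1) (by rw [add_pow_q U.hF, hx, one_pow])
    have a2 := hsq (x - 1) (by rw [sub_pow_q U.hF, hx, one_pow])
    have a3 := sub_mem a1 a2
    have e : ((x + 1) ^ 2 * c) • U.opP r - ((x - 1) ^ 2 * c) • U.opP r = (4 * x * c) • U.opP r := by
      module
    rw [e] at a3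
    rwa [show 4 * x * c = d by simp only [x]; field_simp] at a3

/-! ### Centres -/

/-- The isotropic transvection at a vector. -/
noncomputable def tuV (v : Fin n → F) (c : F) : GL (Fin n) F := tu U.hermV v c

omit hHM in
lemma mem_centres_iff {v : Fin n → F} (hv : hh v v = 0) :
    v ∈ centres q M ↔ ∀ c : F, c + c ^ q = 0 → U.tuV v c ∈ M := by
  constructor
  · intro h c hc
    refine h.2 _ c hc (Matrix.ext_of_mulVec_single fun i => ?_)
    rw [← app_apply, tuV, tu_apply U.hermV hv, transvection_mulVec]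
  · refine fun h => ⟨hv, fun g c hc hg => ?_⟩
    have : g = U.tuV v c := gl_ext fun x => by
      rw [app_apply, hg, transvection_mulVec, tuV, tu_apply U.hermV hv]
    rw [this]; exact h c hc

omit hHM in
lemma herm_pure_self {r : Fin n₁ → F} {w : Fin n₂ → F} (h : U.h₁ r r = 0 ∨ U.h₂ w w = 0) :
    hh (U.D.T r w) (U.D.T r w) = 0 := by
  rw [U.tensor]; rcases h with h | h <;> simp [h]

omit hHM in
lemma tuV_eq {r : Fin n₁ → F} {b : Fin n₂ → F} (hb : U.h₂ b b = 0) (c : F) :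
    U.tuV (U.D.T r b) c = U.D.rt (c • U.opP r) b (fl U.H₂ b) := gl_ext fun x => by
  rw [tuV, tu_apply U.hermV (U.herm_pure_self (Or.inr hb)), U.D.rt_apply (show (fl U.H₂ b) b = 0 from hb),
    U.herm_right, LinearMap.smul_apply, U.opP_apply]
  simp only [map_smul, LinearMap.smul_apply, smul_smul]
  rfl

omit hHM in
lemma pure_centres_iff {r : Fin n₁ → F} {b : Fin n₂ → F} (hb : U.h₂ b b = 0) :
    U.D.T r b ∈ centres q M ↔ ∀ c : F, c + c ^ q = 0 → c • U.opP r ∈ U.kSet M hb := by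
  rw [U.mem_centres_iff (U.herm_pure_self (Or.inr hb))]
  simp only [U.tuV_eq hb, U.mem_kSet]

include hMK

omit hHM in
lemma centres_app {g : GL (Fin n) F} (hg : g ∈ M) {v : Fin n → F} (hv : v ∈ centres q M) :
    app g v ∈ centres q M := by
  rw [app_apply]; exact centres_conj hg (hMK hg) hv

omit hHM in
/-- Centres are closed under adding suitable multiples. -/
lemma centres_add {u v : Fin n → F} (hu : u ∈ centres q M) (hv : v ∈ centres q M) {c : F}
    (hc : c + c ^ q = 0) : v + (c * hh v u) • u ∈ centres q M := centres_step U.hF hu hv hc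

/-- All doubly isotropic tensors are centres. -/
lemma pure_iso_centres {b : Fin n₂ → F} (hb0 : b ≠ 0) (hb : U.h₂ b b = 0)
    {k : (Fin n₁ → F) →ₗ[F] (Fin n₁ → F)} (hk : k ∈ U.kSet M hb)
    (hns : ¬ ∃ c : F, ∀ a, k a = c • a) (r' : Fin n₁ → F) (b' : Fin n₂ → F)
    (hr' : U.h₁ r' r' = 0) (hb' : U.h₂ b' b' = 0) : U.D.T r' b' ∈ centres q M := by
  obtain ⟨r, hr0, hr, c, hc0, hcP⟩ := U.exists_P hHM hMK hb0 hk hns
  have hc : c + c ^ q = 0 := by
    obtain ⟨x, hx⟩ := exists_pair U.hF U.H₁ U.nd₁ hr0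
    have := U.skew_of_mem hHM hMK hb0 hcP x x
    simp only [LinearMap.smul_apply, U.opP_apply, U.H₁.smul_left, U.H₁.smul_right, hx,
      U.H₁.conj_symm x r, one_pow, mul_one] at this
    exact this
  have h0 : U.D.T r b ∈ centres q M :=
    (U.pure_centres_iff hb).2 fun d hd => U.P_scale hHM hr0 hr hc0 hc hcP hd
  have hzero : (0 : Fin n → F) ∈ centres q M := by
    have := centres_smul U.hF h0 0
    simpa using this
  by_cases hr'0 : r' = 0
  · simpa [hr'0] using hzero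
  by_cases hb'0 : b' = 0
  · simpa [hb'0] using hzero
  obtain ⟨A, hA, ρ, hρ, hAr⟩ := exists_move U.hF U.H₁ U.nd₁ (K := M.comap U.krL)
    (fun v e hv he => U.Lt_mem_M hHM hv he) hr0 hr hr'0 hr'
  obtain ⟨B, hB, ρ', hρ', hBb⟩ := exists_move U.hF U.H₂ U.nd₂ (K := M.comap U.krR)
    (fun v e hv he => hHM _ _ (U.iso_one _) (tu_iso U.hF U.H₂ hv he) (one_mem _) (tu_mem_sl U.H₂ v e)) hb0 hb hb'0 hb'
  have h1 := U.centres_app hMK hA h0
  have h2 := U.centres_app hMK hB h1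
  rw [show U.krL A = U.D.kr A 1 from rfl, show U.krR B = U.D.kr 1 B from rfl, U.D.app_kr,
    U.D.app_kr] at h2
  simp only [map_one, LinearEquiv.coe_one, id_eq, hAr, hBb, map_smul, LinearMap.smul_apply,
    smul_smul] at h2
  have h3 := centres_smul U.hF h2 (ρ' * ρ)⁻¹
  rwa [smul_smul, inv_mul_cancel₀ (mul_ne_zero hρ' hρ), one_smul] at h3

omit hMK hHM in
lemma exists_norm_perp {m : ℕ} {h : (Fin m → F) → (Fin m → F) → F} (H : IsHerm q h)
    (hnd : Unitary.Nondeg h) {a a' : Fin m → F} (ha : h a a = 0) (ha' : h a' a' = 0)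
    (haa : h a' a = 1) (haa' : h a a' = 1) (hm : 3 ≤ m) {ν : F} (hν : ν ^ q = ν) :
    ∃ w, h w a = 0 ∧ h w a' = 0 ∧ h w w = ν := by
  let P := perpF H ![a, a']
  obtain ⟨y, hy, hyy⟩ : ∃ y ∈ P, h y y ≠ 0 := by
    by_contra! hc
    have h0 : ∀ y : P, (y : Fin m → F) = 0 := fun y => hnd _ fun z => by
      set z1 := z - h z a' • a - h z a • a' with hz1
      have hz : z1 ∈ P := (mem_perpF H).2 fun i => by
        fin_cases i <;> simp [hz1, H.sub_left, H.smul_left, ha, ha', haa, haa']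
      have e := (H.comap P.subtype).eq_zero_of_isotropic U.hF (fun y => hc _ y.2) y ⟨_, hz⟩
      simp only [Submodule.subtype_apply] at e
      obtain ⟨hya, hya'⟩ : h (y : Fin m → F) a = 0 ∧ h (y : Fin m → F) a' = 0 :=
        ⟨(mem_perpF H).1 y.2 0, (mem_perpF H).1 y.2 1⟩
      simpa [hz1, H.sub_right U.hF, H.smul_right, hya, hya'] using e
    have hbot : P = ⊥ := (Submodule.eq_bot_iff _).2 fun y hy => h0 ⟨y, hy⟩
    have h3 : m ≤ finrank F P + 2 := le_finrank_perpF H ![a, a']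
    rw [hbot, finrank_bot] at h3
    omega
  obtain ⟨t, ht⟩ := exists_norm_eq U.hF (c := ν / h y y) (by rw [div_pow, hν, H.self_fixed])
  exact ⟨t • y, by rw [H.smul_left, show h y a = 0 from (mem_perpF H).1 hy 0, mul_zero],
    by rw [H.smul_left, show h y a' = 0 from (mem_perpF H).1 hy 1, mul_zero],
    by rw [H.smul_left, H.smul_right, ← mul_assoc, ← pow_succ', ht, div_mul_cancel₀ _ hyy]⟩

omit hHM

variable (hiso : ∀ r b, U.h₁ r r = 0 → U.h₂ b b = 0 → U.D.T r b ∈ centres q M)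
include hiso

/-- An operator taking `a` to a multiple, for `n₁ ≥ 3`. -/
lemma exists_eigen_op (h3 : 3 ≤ n₁) {b : Fin n₂ → F} (hb : U.h₂ b b = 0) {a : Fin n₁ → F}
    (ha0 : a ≠ 0) (ha : U.h₁ a a = 0) (γ : F) :
    ∃ k ∈ U.kSet M hb, k a = γ • a := by
  obtain ⟨a', ha', haa, haa', -⟩ := exists_partner U.hF U.H₁ U.nd₁ ha0 ha
  obtain ⟨c, hc0, hcq⟩ := exists_skew U.hF
  have hc : c + c ^ q = 0 := by rw [hcq, add_neg_cancel]
  have hP : ∀ z, U.h₁ z z = 0 → c • U.opP z ∈ U.kSet M hb := fun z hz =>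
    (U.pure_centres_iff hb).1 (hiso z b hz hb) c hc
  have hν : (-(γ - γ ^ q) / c) ^ q = -(γ - γ ^ q) / c := by
    rw [div_pow, neg_pow_q U.hF, sub_pow_q U.hF, pow_q_pow_q U.hF, hcq]
    field_simp
    ring
  obtain ⟨w, hwa, hwa', hww⟩ := U.exists_norm_perp U.H₁ U.nd₁ ha ha' haa haa' h3 hν
  have haw := (U.H₁.eq_zero_symm U.hF).1 hwa
  have ha'w := (U.H₁.eq_zero_symm U.hF).1 hwa'
  obtain ⟨η, hη, hη1⟩ : ∃ η : F, η ^ (q + 1) = 1 ∧ η ≠ 1 := by
    by_contra! hz
    have h1 : Nat.card {x : F // x ^ (q + 1) = 1} ≤ 1 :=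
      Finite.card_le_one_iff_subsingleton.2
        ⟨fun a b => Subtype.ext ((hz _ a.2).trans (hz _ b.2).symm)⟩
    rw [card_norm_one U.hF] at h1
    have := two_le_q U.hF
    omega
  have hz : ∀ (μ τ : F), τ + τ ^ q = -(μ ^ (q + 1) * U.h₁ w w) →
      U.h₁ (a' + μ • w + τ • a) (a' + μ • w + τ • a) = 0 ∧ U.h₁ a (a' + μ • w + τ • a) = 1 := by
    intro μ τ ht
    constructor
    · simp only [U.H₁.add_left, U.H₁.add_right U.hF, U.H₁.smul_left, U.H₁.smul_right, ha, ha', hwa,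
        hwa', haw, ha'w, haa, haa']
      linear_combination ht
    · simp only [U.H₁.add_right U.hF, U.H₁.smul_right, ha, haw, haa']
      ring
  set τ := γ / c
  have hτ : τ + τ ^ q = -((1 : F) ^ (q + 1) * U.h₁ w w) := by
    simp only [τ, div_pow, hcq, hww, one_pow, one_mul]
    field_simp
    ring
  have hη0 : (1 - η) ≠ 0 := sub_ne_zero.2 (Ne.symm hη1)
  set l := (1 - η)⁻¹
  obtain ⟨t1, ht1⟩ := exists_trace_eq U.hF (c := -(l ^ (q + 1) * U.h₁ w w))
    (by rw [neg_pow_q U.hF, mul_pow, pow_q_succ_fixed U.hF, U.H₁.self_fixed])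
  have e0 := hz 1 τ hτ
  have e1 := hz l t1 ht1
  have e2 := hz (η * l) t1 (by rw [mul_pow, hη, one_mul]; exact ht1)
  refine ⟨(c • U.opP (a' + (1 : F) • w + τ • a) - c • U.opP a') -
    (c • U.opP (a' + l • w + t1 • a) - c • U.opP (a' + (η * l) • w + t1 • a)),
    sub_mem (sub_mem (hP _ e0.1) (hP _ ha')) (sub_mem (hP _ e1.1) (hP _ e2.1)), ?_⟩
  simp only [LinearMap.sub_apply, LinearMap.smul_apply, U.opP_apply, e0.2, e1.2, e2.2, haa']
  simp only [one_smul]
  match_scalars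
  · ring
  · have : (1 - η) * l = 1 := mul_inv_cancel₀ hη0
    linear_combination -c * this
  · simp only [τ]
    field_simp
    ring

/-- All tensors with isotropic first factor are centres. -/
lemma pure_centres {a : Fin n₁ → F} (ha : U.h₁ a a = 0) (δ : Fin n₂ → F) :
    U.D.T a δ ∈ centres q M := by
  by_cases hδ : U.h₂ δ δ = 0
  · exact hiso a δ ha hδ
  by_cases ha0 : a = 0
  · subst ha0
    have := hiso (0 : Fin n₁ → F) 0 ha (U.H₂.zero_left 0)
    simpa using this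
  obtain ⟨γ, hγ, hγq⟩ := U.exists_not_fixed_trace (U.H₂.self_fixed δ) hδ
  obtain ⟨d0, hd0, hd0δ⟩ : ∃ d, U.h₂ d d = 0 ∧ U.h₂ δ d ≠ 0 := by
    by_contra! hall
    refine hδ ?_
    have key : ∀ y, U.h₂ δ y = 0 := fun y => by
      have hy := mem_span_iso U.hF U.H₂ U.nd₂ (by have := U.three_le; omega) y
      induction hy using Submodule.span_induction with
      | mem v hv => exact hall v hv
      | zero => exact U.H₂.zero_right U.hF _
      | add a b _ _ ha hb => rw [U.H₂.add_right U.hF, ha, hb, add_zero]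
      | smul c v _ hv => rw [U.H₂.smul_right, hv, mul_zero]
    exact key δ
  have hγ0 : γ ≠ 0 := fun h => hγq (by rw [h, zero_pow_q U.hF])
  set d := (γ / U.h₂ δ d0) ^ q • d0 with hd
  have hδd : U.h₂ δ d = γ := by
    rw [hd, U.H₂.smul_right, pow_q_pow_q U.hF, div_mul_cancel₀ _ hd0δ]
  have hdd : U.h₂ d d = 0 := by rw [hd, U.H₂.smul_left, U.H₂.smul_right, hd0, mul_zero, mul_zero]
  have hdδ : U.h₂ d δ = γ ^ q := by rw [U.H₂.conj_symm δ d, hδd]
  have hd2 : U.h₂ (δ - d) (δ - d) = 0 := by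
    rw [U.H₂.sub_left, U.H₂.sub_right U.hF, U.H₂.sub_right U.hF, hdd, hδd, hdδ]
    linear_combination -hγ
  by_cases h3 : 3 ≤ n₁
  · set b := γ⁻¹ • (δ - d) with hb
    have hbb : U.h₂ b b = 0 := by rw [hb, U.H₂.smul_left, U.H₂.smul_right, hd2, mul_zero, mul_zero]
    have hdb : U.h₂ d b = 1 := by
      rw [hb, U.H₂.smul_right, U.H₂.sub_right U.hF, hdd, hdδ, sub_zero, inv_pow,
        inv_mul_cancel₀ (pow_ne_zero q hγ0)]
    obtain ⟨k, hk, hka⟩ := U.exists_eigen_op hMK hiso h3 hbb ha0 ha γ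
    have h1 := U.centres_app hMK hk (hiso a d ha hdd)
    rw [U.D.rt_apply (show (fl U.H₂ b) b = 0 from hbb), U.D.ct_T, fl_apply, hdb, one_smul, hka] at h1
    convert h1 using 1
    simp only [hb, map_smul, LinearMap.smul_apply, smul_smul, inv_mul_cancel₀ hγ0, mul_inv_cancel₀ hγ0,
      one_smul, map_sub]
    match_scalars <;> field_simp <;> ring
  · have hq3 : 3 ≤ q := by
      have := U.exc
      have := U.two_le
      have := two_le_q U.hF
      omega
    obtain ⟨a', ha', haa, haa', -⟩ := exists_partner U.hF U.H₁ U.nd₁ ha0 ha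
    set d2 := δ - d with hd2def
    set h := U.h₂ d d2 with hhdef
    have hh0 : h = γ ^ q := by rw [hhdef, hd2def, U.H₂.sub_right U.hF, hdd, hdδ, sub_zero]
    have hne : h ≠ 0 := by rw [hh0]; exact pow_ne_zero q hγ0
    have hd2d : U.h₂ d2 d = h ^ q := U.H₂.conj_symm d d2
    obtain ⟨f, hf, hf0, hf1⟩ := U.exists_fixed_ne hq3 (-(h ^ (q + 1)))
    set β := (f / h ^ 2) ^ q
    have hβ : β ^ q = f / h ^ 2 := pow_q_pow_q U.hF _
    have hsum : f / h + h ^ q ≠ 0 := fun h0 => hf1 (by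
      have := congrArg (· * h) h0
      simp only [add_mul, div_mul_cancel₀ _ hne, zero_mul] at this
      linear_combination this)
    obtain ⟨z, hzd, hzd2, hzz⟩ : ∃ z, U.h₂ z d = 0 ∧ U.h₂ z d2 = 0 ∧
        U.h₂ z z = -(f / h + f / h ^ q) := by
      have hd2' : U.h₂ ((h ^ q)⁻¹ • d2) ((h ^ q)⁻¹ • d2) = 0 := by
        rw [U.H₂.smul_left, U.H₂.smul_right, hd2, mul_zero, mul_zero]
      obtain ⟨z, h1, h2, h3'⟩ := U.exists_norm_perp U.H₂ U.nd₂ hdd hd2'
        (by rw [U.H₂.smul_left, hd2d, inv_mul_cancel₀ (pow_ne_zero q hne)])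
        (by rw [U.H₂.smul_right, ← hhdef, inv_pow, pow_q_pow_q U.hF, inv_mul_cancel₀ hne])
        (by have := U.three_le; omega) (ν := -(f / h + f / h ^ q))
        (by rw [neg_pow_q U.hF, add_pow_q U.hF, div_pow, div_pow, hf, pow_q_pow_q U.hF]; ring)
      refine ⟨z, h1, ?_, h3'⟩
      rw [U.H₂.smul_right] at h2
      exact (mul_eq_zero.1 h2).resolve_left (pow_ne_zero q (inv_ne_zero (pow_ne_zero q hne)))
    have hdz := (U.H₂.eq_zero_symm U.hF).1 hzd
    have hd2z := (U.H₂.eq_zero_symm U.hF).1 hzd2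
    set e := d + β • d2 + z
    have hee : U.h₂ e e = 0 := by
      simp only [e, U.H₂.add_left, U.H₂.add_right U.hF, U.H₂.smul_left, U.H₂.smul_right, hdd, hd2,
        hzd, hzd2, hdz, hd2z, hzz, ← hhdef, hd2d, hβ]
      simp only [β, div_pow, hf, ← pow_mul, mul_comm 2 q]
      rw [pow_mul]
      field_simp
      ring
    have hX : U.h₂ d e = f / h := by
      simp only [e, U.H₂.add_right U.hF, U.H₂.smul_right, hdd, hdz, ← hhdef, hβ]
      field_simp
      ring
    have hY : U.h₂ e d2 = h := by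
      simp only [e, U.H₂.add_left, U.H₂.smul_left, hd2, hzd2, ← hhdef]
      ring
    have hZ : U.h₂ δ e = f / h + h ^ q := by
      rw [show δ = d + d2 by rw [hd2def]; abel, U.H₂.add_left, hX, U.H₂.conj_symm e d2, hY]
    obtain ⟨c, hc0, hcq⟩ := exists_skew U.hF
    have hc : c + c ^ q = 0 := by rw [hcq, add_neg_cancel]
    have hc' : (c * f)⁻¹ + ((c * f)⁻¹) ^ q = 0 := by rw [inv_pow, mul_pow, hcq, hf, neg_mul, inv_neg]; ring
    have hu := hiso a' e ha' hee
    have h1 := U.centres_add hMK hu (hiso a d ha hdd) hc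
    rw [U.tensor, haa', one_mul, hX] at h1
    have h2 := U.centres_add hMK (hiso a d2 ha hd2) h1 hc'
    rw [U.hermV.add_left, U.hermV.smul_left, U.tensor, U.tensor, ha, haa, hY, zero_mul, zero_add,
      one_mul] at h2
    have hcoef : (c * f)⁻¹ * (c * (f / h) * h) = 1 := by field_simp
    rw [hcoef, one_smul] at h2
    have e3 : U.D.T a d + (c * (f / h)) • U.D.T a' e + U.D.T a d2 =
        U.D.T a δ + (c * (f / h)) • U.D.T a' e := by
      rw [hd2def, map_sub]; abel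
    rw [e3] at h2
    set cc := -(c * (f / h)) / (f / h + h ^ q)
    have hcc : cc + cc ^ q = 0 := by
      have hden : f / h + h ^ q = (f + h ^ (q + 1)) / h := by rw [pow_succ]; field_simp
      have hden0 : f + h ^ (q + 1) ≠ 0 := fun h0 => hsum (by rw [hden, h0, zero_div])
      simp only [cc, hden, neg_pow_q U.hF, div_pow, mul_pow, hcq, hf, add_pow_q U.hF,
        pow_q_succ_fixed U.hF]
      field_simp
      ring
    have h4 := U.centres_add hMK hu h2 hcc
    rw [U.hermV.add_left, U.hermV.smul_left, U.tensor, U.tensor, haa', hee, mul_zero, mul_zero,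
      add_zero, one_mul, hZ, show cc * (f / h + h ^ q) = -(c * (f / h)) from
        div_mul_cancel₀ _ hsum] at h4
    simpa [neg_smul] using h4

/-- Adding a tensor with the same isotropic first factor. -/
lemma centres_shift {y : Fin n → F} (hy : y ∈ centres q M) {a : Fin n₁ → F} (ha : U.h₁ a a = 0)
    (hβ : U.lc a y ≠ 0) {δ : Fin n₂ → F}
    (hre : U.h₂ δ (U.lc a y) + U.h₂ δ (U.lc a y) ^ q = 0) : y + U.D.T a δ ∈ centres q M := by
  have one : ∀ y, y ∈ centres q M → ∀ δ, U.h₂ (U.lc a y) δ ≠ 0 →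
      U.h₂ δ (U.lc a y) + U.h₂ δ (U.lc a y) ^ q = 0 → y + U.D.T a δ ∈ centres q M := by
    intro y hy δ hne hre
    have := U.centres_add hMK (U.pure_centres hMK hiso ha δ) hy (c := (U.h₂ (U.lc a y) δ)⁻¹) (by
      rw [inv_pow, ← U.H₂.conj_symm (U.lc a y) δ, U.H₂.conj_symm δ (U.lc a y),
        eq_neg_of_add_eq_zero_right hre, inv_neg, neg_add_cancel])
    rwa [U.herm_lc, inv_mul_cancel₀ hne, one_smul] at this
  by_cases hne : U.h₂ (U.lc a y) δ = 0
  swap
  · exact one y hy δ hne hre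
  obtain ⟨e, he0, he⟩ := exists_skew U.hF
  obtain ⟨x, hx⟩ := exists_pair U.hF U.H₂ U.nd₂ hβ
  set δ2 := e • x
  have e1 : U.h₂ δ2 (U.lc a y) = e := by rw [U.H₂.smul_left, hx, mul_one]
  have e2 : U.h₂ (δ - δ2) (U.lc a y) = -e := by
    rw [U.H₂.sub_left, (U.H₂.eq_zero_symm U.hF).1 hne, e1, zero_sub]
  have h1 := one y hy δ2 (fun h0 => he0 (by rw [← e1, (U.H₂.eq_zero_symm U.hF).1 h0]))
    (by rw [e1, he, add_neg_cancel])
  have hl : U.lc a (y + U.D.T a δ2) = U.lc a y := by rw [map_add, U.lc_T, ha, zero_smul, add_zero]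
  have h2 := one _ h1 (δ - δ2) (fun h0 => he0 (neg_eq_zero.1 (by
      rw [← e2, (U.H₂.eq_zero_symm U.hF).1 (hl ▸ h0)]))) (by
    rw [hl, e2, neg_pow_q U.hF, he]; ring)
  rwa [add_assoc, ← map_add, add_sub_cancel] at h2

omit hiso hMK

lemma herm_add_pure {a : Fin n₁ → F} (ha : U.h₁ a a = 0) (y : Fin n → F) (δ : Fin n₂ → F) :
    hh (y + U.D.T a δ) (y + U.D.T a δ) =
      hh y y + (U.h₂ δ (U.lc a y) + U.h₂ δ (U.lc a y) ^ q) := by
  rw [U.hermV.add_left, U.hermV.add_right U.hF, U.hermV.add_right U.hF,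
    show hh (U.D.T a δ) (U.D.T a δ) = 0 by rw [U.tensor, ha, zero_mul],
    U.hermV.conj_symm y (U.D.T a δ), U.herm_lc, U.H₂.conj_symm δ, pow_q_pow_q U.hF]
  ring

lemma exists_perp_outside (v : Fin n₂ → F) (u : Fin n₂ → F) :
    ∃ δ, U.h₂ δ v = 0 ∧ δ ∉ F ∙ u ∧ δ ≠ 0 := by
  by_contra! h
  have hle : LinearMap.ker (fl U.H₂ v) ≤ F ∙ u := fun δ hδ => by
    by_contra hn
    exact hn (by rw [h δ hδ hn]; exact zero_mem _)
  have h1 := LinearMap.finrank_range_add_finrank_ker (fl U.H₂ v)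
  have h2 := Submodule.finrank_mono hle
  have h4 := Submodule.finrank_le (LinearMap.range (fl U.H₂ v))
  have h5 := finrank_span_le_card (R := F) ({u} : Set (Fin n₂ → F))
  rw [finrank_fin_fun] at h1
  rw [finrank_self] at h4
  simp at h5
  have := U.three_le
  omega

/-- A vector with two prescribed real parts, avoiding a point. -/
lemma exists_delta {v u : Fin n₂ → F} (hv : v ≠ 0) (hu : u = 0 ∨ ∀ f : F, f ^ q = f → v ≠ f • u)
    {ρ : F} (hρ : ρ ^ q = ρ) (hρu : u = 0 → ρ = 0) (β0 : Fin n₂ → F) :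
    ∃ δ, U.h₂ δ v + U.h₂ δ v ^ q = 0 ∧ U.h₂ δ u + U.h₂ δ u ^ q = ρ ∧ β0 + δ ≠ 0 := by
  obtain ⟨δ0, h0v, h0u⟩ : ∃ δ, U.h₂ δ v + U.h₂ δ v ^ q = 0 ∧ U.h₂ δ u + U.h₂ δ u ^ q = ρ := by
    by_cases hu0 : u = 0
    · exact ⟨0, by simp [U.H₂.zero_left, zero_pow_q U.hF],
        by simp [U.H₂.zero_left, zero_pow_q U.hF, hρu hu0]⟩
    replace hu := hu.resolve_left hu0
    obtain ⟨p, hpv, hpu⟩ : ∃ p, U.h₂ p v + U.h₂ p v ^ q = 0 ∧ U.h₂ p u + U.h₂ p u ^ q ≠ 0 := by
      by_cases hvu : v ∈ F ∙ u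
      · obtain ⟨g, hg⟩ := Submodule.mem_span_singleton.1 hvu
        have hg0 : g ≠ 0 := fun h => hv (by rw [← hg, h, zero_smul])
        have hgq : g ^ q ≠ g := fun h => hu g h hg.symm
        obtain ⟨x, hx⟩ := exists_pair U.hF U.H₂ U.nd₂ hu0
        obtain ⟨e, he0, he⟩ := exists_skew U.hF
        refine ⟨(e / g ^ q) • x, ?_, ?_⟩
        · rw [← hg, U.H₂.smul_right, U.H₂.smul_left, hx, mul_one,
            mul_div_cancel₀ _ (pow_ne_zero q hg0), he, add_neg_cancel]
        · rw [U.H₂.smul_left, hx, mul_one, div_pow, he, pow_q_pow_q U.hF, neg_div, ← sub_eq_add_neg,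
            div_sub_div _ _ (pow_ne_zero q hg0) hg0]
          refine div_ne_zero (fun h => ?_) (mul_ne_zero (pow_ne_zero q hg0) hg0)
          exact mul_ne_zero he0 (sub_ne_zero.2 (Ne.symm hgq)) (by linear_combination h)
      · obtain ⟨x, hxv, hxu⟩ : ∃ x, U.h₂ x v = 0 ∧ U.h₂ x u ≠ 0 := by
          by_contra! hall
          have hle : LinearMap.ker (fl U.H₂ v) ≤ LinearMap.ker (fl U.H₂ u) := fun x hx => hall x hx
          obtain ⟨x1, hx1⟩ := exists_pair U.hF U.H₂ U.nd₂ hv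
          set μ := U.h₂ x1 u
          refine hvu ?_
          have he : μ ^ q • v = u := sub_eq_zero.1 (U.nd₂ _ fun y => by
            have h0 : U.h₂ (y - U.h₂ y v • x1) u = 0 := hall _ (by
              rw [U.H₂.sub_left, U.H₂.smul_left, hx1, mul_one, sub_self])
            rw [U.H₂.sub_left, U.H₂.smul_left, sub_eq_zero] at h0
            have h1 : μ * U.h₂ y v = U.h₂ y u := by rw [h0, mul_comm]
            rw [U.H₂.eq_zero_symm U.hF, U.H₂.sub_right U.hF, U.H₂.smul_right, pow_q_pow_q U.hF, h1,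
              sub_self])
          have hμ0 : μ ^ q ≠ 0 := fun h => hu0 (by rw [← he, h, zero_smul])
          exact Submodule.mem_span_singleton.2 ⟨(μ ^ q)⁻¹, by rw [← he, inv_smul_smul₀ hμ0]⟩
        obtain ⟨t, ht⟩ := exists_trace_eq U.hF (one_pow q : (1 : F) ^ q = 1)
        refine ⟨(t / U.h₂ x u) • x, by rw [U.H₂.smul_left, hxv]; simp [zero_pow_q U.hF], ?_⟩
        rw [U.H₂.smul_left, div_mul_cancel₀ _ hxu, ht]
        exact one_ne_zero
    set T := U.h₂ p u + U.h₂ p u ^ q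
    have hT : (ρ / T) ^ q = ρ / T := by rw [div_pow, hρ, trace_fixed U.hF]
    refine ⟨(ρ / T) • p, ?_, ?_⟩
    · rw [U.H₂.smul_left, mul_pow, hT]; linear_combination (ρ / T) * hpv
    · rw [U.H₂.smul_left, mul_pow, hT, ← mul_add, div_mul_cancel₀ _ hpu]
  by_cases h0 : β0 + δ0 = 0
  swap
  · exact ⟨δ0, h0v, h0u, h0⟩
  obtain ⟨p, hp, hp0⟩ := Submodule.exists_mem_ne_zero_of_ne_bot (p := perpF U.H₂ ![v, u]) (fun h => by
    have h2 : n₂ ≤ finrank F (perpF U.H₂ ![v, u]) + 2 := le_finrank_perpF U.H₂ ![v, u]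
    rw [h, finrank_bot] at h2
    have := U.three_le
    omega)
  refine ⟨δ0 + p, ?_, ?_, by rwa [← add_assoc, h0, zero_add]⟩
  · rw [U.H₂.add_left, show U.h₂ p v = 0 from (mem_perpF U.H₂).1 hp 0, add_zero, h0v]
  · rw [U.H₂.add_left, show U.h₂ p u = 0 from (mem_perpF U.H₂).1 hp 1, add_zero, h0u]

include hMK hiso

/-- All isotropic vectors are centres. -/
lemma all_centres {x : Fin n → F} (hx : hh x x = 0) : x ∈ centres q M := by
  have htr : ∀ {a : Fin n₁ → F} {y : Fin n → F} {δ : Fin n₂ → F}, U.h₁ a a = 0 →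
      hh y y = 0 → hh (y + U.D.T a δ) (y + U.D.T a δ) = 0 →
      U.h₂ δ (U.lc a y) + U.h₂ δ (U.lc a y) ^ q = 0 := by
    intro a y δ ha hy h
    rwa [U.herm_add_pure ha, hy, zero_add] at h
  -- isotropic vectors differing by a tensor with isotropic first factor
  have back : ∀ {a : Fin n₁ → F} {y : Fin n → F} {δ : Fin n₂ → F}, U.h₁ a a = 0 →
      hh y y = 0 → hh (y + U.D.T a δ) (y + U.D.T a δ) = 0 → U.lc a y ≠ 0 →
      y + U.D.T a δ ∈ centres q M → y ∈ centres q M := by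
    intro a y δ ha hy hy' hne hm
    have hl : U.lc a (y + U.D.T a δ) = U.lc a y := by rw [map_add, U.lc_T, ha, zero_smul, add_zero]
    have h1 := U.centres_shift hMK hiso hm ha (δ := -δ) (by rwa [hl]) (by
      rw [hl, U.H₂.neg_left, neg_pow_q U.hF, ← neg_add, htr ha hy hy', neg_zero])
    rwa [map_neg, add_neg_cancel_right] at h1
  by_cases hx0 : x = 0
  · rw [hx0]
    have := hiso (0 : Fin n₁ → F) 0 (U.H₁.zero_left 0) (U.H₂.zero_left 0)
    simpa using this
  obtain ⟨a', ha', hxa⟩ : ∃ a, U.h₁ a a = 0 ∧ U.lc a x ≠ 0 := by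
    by_contra! hall
    refine hx0 ?_
    refine hermForm_nondeg U.hF n x fun y => ?_
    have key : ∀ a w, hh x (U.D.T a w) = 0 := fun a w => by
      have ha := mem_span_iso U.hF U.H₁ U.nd₁ U.two_le a
      induction ha using Submodule.span_induction with
      | mem v hv => rw [U.herm_lc, hall v hv, U.H₂.zero_left]
      | zero => simp [U.hermV.zero_right U.hF]
      | add a b _ _ ha hb => rw [map_add, LinearMap.add_apply, U.hermV.add_right U.hF, ha, hb, add_zero]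
      | smul c v _ hv => rw [map_smul, LinearMap.smul_apply, U.hermV.smul_right, hv, mul_zero]
    rw [← U.D.sum_T_row y, U.hermV.sum_right U.hF]
    exact Finset.sum_eq_zero fun i _ => key _ _
  have ha'0 : a' ≠ 0 := fun h => hxa (by
    rw [h]; simp [lc, U.H₁.zero_right U.hF])
  obtain ⟨a, ha, haa', ha'a, -⟩ := exists_partner U.hF U.H₁ U.nd₁ ha'0 ha'
  let Good : Set (Fin n → F) := {x0 | U.lc a x0 = 0 ∧ U.lc a' x0 = 0 ∧ ∀ v v', (v ≠ 0 ∨ v' ≠ 0) →
    hh (U.D.T a v + U.D.T a' v' + x0) (U.D.T a v + U.D.T a' v' + x0) = 0 →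
    U.D.T a v + U.D.T a' v' + x0 ∈ centres q M}
  have lcA : ∀ v v' x0, U.lc a x0 = 0 → U.lc a (U.D.T a v + U.D.T a' v' + x0) = v' := by
    intro v v' x0 h
    rw [map_add, map_add, U.lc_T, U.lc_T, ha, ha'a, h]; simp
  have lcA' : ∀ v v' x0, U.lc a' x0 = 0 → U.lc a' (U.D.T a v + U.D.T a' v' + x0) = v := by
    intro v v' x0 h
    rw [map_add, map_add, U.lc_T, U.lc_T, ha', haa', h]; simp
  -- shifts of the plane component
  have shA : ∀ {v v' δ x0}, U.lc a x0 = 0 → v' ≠ 0 →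
      hh (U.D.T a v + U.D.T a' v' + x0) (U.D.T a v + U.D.T a' v' + x0) = 0 →
      U.h₂ δ v' + U.h₂ δ v' ^ q = 0 →
      hh (U.D.T a (v + δ) + U.D.T a' v' + x0) (U.D.T a (v + δ) + U.D.T a' v' + x0) = 0 ∧
      (U.D.T a (v + δ) + U.D.T a' v' + x0 ∈ centres q M →
        U.D.T a v + U.D.T a' v' + x0 ∈ centres q M) := by
    intro v v' δ x0 h0 hv' hy hre
    set y := U.D.T a v + U.D.T a' v' + x0
    have e : U.D.T a (v + δ) + U.D.T a' v' + x0 = y + U.D.T a δ := by simp only [y, map_add]; abel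
    have hl : U.lc a y = v' := lcA _ _ _ h0
    have hy' : hh (y + U.D.T a δ) (y + U.D.T a δ) = 0 := by
      rw [U.herm_add_pure ha, hy, zero_add, hl]
      exact hre
    rw [e]
    exact ⟨hy', back ha hy hy' (by rwa [hl])⟩
  have shA' : ∀ {v v' δ x0}, U.lc a' x0 = 0 → v ≠ 0 →
      hh (U.D.T a v + U.D.T a' v' + x0) (U.D.T a v + U.D.T a' v' + x0) = 0 →
      U.h₂ δ v + U.h₂ δ v ^ q = 0 →
      hh (U.D.T a v + U.D.T a' (v' + δ) + x0) (U.D.T a v + U.D.T a' (v' + δ) + x0) = 0 ∧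
      (U.D.T a v + U.D.T a' (v' + δ) + x0 ∈ centres q M →
        U.D.T a v + U.D.T a' v' + x0 ∈ centres q M) := by
    intro v v' δ x0 h0 hv hy hre
    set y := U.D.T a v + U.D.T a' v' + x0
    have e : U.D.T a v + U.D.T a' (v' + δ) + x0 = y + U.D.T a' δ := by simp only [y, map_add]; abel
    have hl : U.lc a' y = v := lcA' _ _ _ h0
    have hy' : hh (y + U.D.T a' δ) (y + U.D.T a' δ) = 0 := by
      rw [U.herm_add_pure ha', hy, zero_add, hl]
      exact hre
    rw [e]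
    exact ⟨hy', back ha' hy hy' (by rwa [hl])⟩
  have zeroGood : (0 : Fin n → F) ∈ Good := by
    refine ⟨map_zero _, map_zero _, fun v v' _ hy => ?_⟩
    by_cases hv : v = 0
    · rw [hv, map_zero, zero_add, add_zero]; exact U.pure_centres hMK hiso ha' v'
    have h1 : U.h₂ (-v') v + U.h₂ (-v') v ^ q = 0 := by
      rw [add_zero, U.herm_add_pure ha', show hh (U.D.T a v) (U.D.T a v) = 0 by
          rw [U.tensor, ha, zero_mul], U.lc_T, haa', one_smul, zero_add] at hy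
      rw [U.H₂.neg_left, neg_pow_q U.hF]
      linear_combination -hy
    refine (shA' (map_zero _) hv hy h1).2 ?_
    rw [add_neg_cancel, map_zero, add_zero, add_zero]
    exact U.pure_centres hMK hiso ha v
  have stepGood : ∀ x0 ∈ Good, ∀ w u, U.h₁ w a = 0 → U.h₁ w a' = 0 → x0 + U.D.T w u ∈ Good := by
    rintro x0 ⟨l1, l2, IH⟩ w u hwa hwa'
    have haw := (U.H₁.eq_zero_symm U.hF).1 hwa
    have ha'w := (U.H₁.eq_zero_symm U.hF).1 hwa'
    have k1 : U.lc a (x0 + U.D.T w u) = 0 := by rw [map_add, l1, U.lc_T, hwa]; simp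
    have k2 : U.lc a' (x0 + U.D.T w u) = 0 := by rw [map_add, l2, U.lc_T, hwa']; simp
    refine ⟨k1, k2, ?_⟩
    by_cases hu0 : u = 0
    · intro v v' h1 h2
      rw [hu0, map_zero, add_zero] at h2 ⊢
      exact IH v v' h1 h2
    -- the main step
    have main : ∀ v v', v ≠ 0 → (∀ f : F, f ^ q = f → v ≠ f • u) →
        hh (U.D.T a v + U.D.T a' v' + (x0 + U.D.T w u)) (U.D.T a v + U.D.T a' v' + (x0 + U.D.T w u)) = 0 →
        U.D.T a v + U.D.T a' v' + (x0 + U.D.T w u) ∈ centres q M := by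
      intro v v' hv hvu hy
      obtain ⟨τ, hτ⟩ := exists_trace_eq U.hF (c := -(U.h₁ w w))
        (by rw [neg_pow_q U.hF, U.H₁.self_fixed])
      set a2 := a + w + τ • a' with ha2
      have ha22 : U.h₁ a2 a2 = 0 := by
        simp only [ha2, U.H₁.add_left, U.H₁.add_right U.hF, U.H₁.smul_left, U.H₁.smul_right, ha, ha',
          hwa, hwa', haw, ha'w, haa', ha'a]
        linear_combination hτ
      have hlc : ∀ x, U.lc a2 x = U.lc a x + U.lc w x + τ ^ q • U.lc a' x := fun x => by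
        refine sub_eq_zero.1 (U.nd₂ _ fun z => ?_)
        rw [U.H₂.sub_left, U.H₂.add_left, U.H₂.add_left, U.H₂.smul_left, ← U.herm_lc, ← U.herm_lc,
          ← U.herm_lc, ← U.herm_lc, ha2]
        simp only [map_add, map_smul, LinearMap.add_apply, LinearMap.smul_apply,
          U.hermV.add_right U.hF, U.hermV.smul_right]
        ring
      set β0 := v' + U.lc w (x0 + U.D.T w u) + τ ^ q • v
      obtain ⟨δ, hδv, hδu, hne⟩ := U.exists_delta hv (Or.inr hvu)
        (ρ := -(U.h₂ β0 u + U.h₂ β0 u ^ q)) (by rw [neg_pow_q U.hF, trace_fixed U.hF])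
        (fun h => absurd h hu0) β0
      obtain ⟨hy1, back1⟩ := shA' k2 hv hy hδv
      refine back1 ?_
      set y1 := U.D.T a v + U.D.T a' (v' + δ) + (x0 + U.D.T w u)
      have hl : U.lc a2 y1 = β0 + δ := by
        rw [hlc, lcA _ _ _ k1, lcA' _ _ _ k2]
        simp only [y1, β0, map_add, U.lc_T, haw, ha'w, zero_smul, zero_add]
        abel
      have e : y1 + U.D.T a2 (-u) =
          U.D.T a (v - u) + U.D.T a' (v' + δ - τ • u) + x0 := by
        simp only [y1, ha2, map_add, map_sub, map_smul, map_neg, LinearMap.add_apply, LinearMap.smul_apply]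
        abel
      have hy2 : hh (y1 + U.D.T a2 (-u)) (y1 + U.D.T a2 (-u)) = 0 := by
        rw [U.herm_add_pure ha22, hy1, zero_add, hl, U.H₂.neg_left, neg_pow_q U.hF,
          U.H₂.conj_symm (β0 + δ) u, pow_q_pow_q U.hF, U.H₂.add_left, add_pow_q U.hF]
        linear_combination -hδu
      refine back ha22 hy1 hy2 (by rwa [hl]) ?_
      rw [e] at hy2 ⊢
      exact IH _ _ (Or.inl (sub_ne_zero.2 fun h => hvu 1 (one_pow q) (by rw [h, one_smul]))) hy2
    have both : ∀ v v', v ≠ 0 → v' ≠ 0 →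
        hh (U.D.T a v + U.D.T a' v' + (x0 + U.D.T w u)) (U.D.T a v + U.D.T a' v' + (x0 + U.D.T w u)) = 0 →
        U.D.T a v + U.D.T a' v' + (x0 + U.D.T w u) ∈ centres q M := by
      intro v v' hv hv' hy
      by_cases hgood : ∀ f : F, f ^ q = f → v ≠ f • u
      · exact main v v' hv hgood hy
      push Not at hgood
      obtain ⟨f, -, hf⟩ := hgood
      obtain ⟨δ, hδ, hδu, -⟩ := U.exists_perp_outside v' u
      obtain ⟨hy1, b1⟩ := shA k1 hv' hy (δ := δ) (by rw [hδ, zero_pow_q U.hF, add_zero])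
      refine b1 (main _ _ ?_ ?_ hy1)
      · intro h0
        exact hδu (Submodule.mem_span_singleton.2 ⟨-f, by rw [neg_smul, ← hf, eq_neg_of_add_eq_zero_right h0]⟩)
      · intro f' _ h0
        exact hδu (Submodule.mem_span_singleton.2 ⟨f' - f, by rw [sub_smul, ← h0, ← hf, add_sub_cancel_left]⟩)
    intro v v' h hy
    by_cases hv : v = 0
    · have hv' := h.resolve_left (fun h => h hv)
      obtain ⟨δ, hδ, -, hδ0⟩ := U.exists_perp_outside v' u
      obtain ⟨hy1, b1⟩ := shA k1 hv' hy (δ := δ) (by rw [hδ, zero_pow_q U.hF, add_zero])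
      exact b1 (both _ _ (by rw [hv, zero_add]; exact hδ0) hv' hy1)
    by_cases hv' : v' = 0
    · obtain ⟨δ, hδ, -, hδ0⟩ := U.exists_perp_outside v u
      obtain ⟨hy1, b1⟩ := shA' k2 hv hy (δ := δ) (by rw [hδ, zero_pow_q U.hF, add_zero])
      exact b1 (both _ _ hv (by rw [hv', zero_add]; exact hδ0) hy1)
    exact both v v' hv hv' hy
  -- decompose `x`
  set x0 := x - U.D.T a (U.lc a' x) - U.D.T a' (U.lc a x) with hx0def
  let p : (Fin n₁ → F) →ₗ[F] (Fin n₁ → F) :=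
    LinearMap.id - (fl U.H₁ a').smulRight a - (fl U.H₁ a).smulRight a'
  have hp : ∀ e, U.h₁ (p e) a = 0 ∧ U.h₁ (p e) a' = 0 := fun e => by
    simp [p, U.H₁.sub_left, U.H₁.smul_left, ha, ha', haa', ha'a]
  have hsum : x0 = ∑ i, U.D.T (p (Pi.single i 1)) (U.D.row x i) := by
    rw [hx0def]
    conv_lhs => arg 1; arg 1; rw [← U.D.sum_T_row x]
    simp only [p, lc, LinearMap.sum_apply, LinearMap.smul_apply, LinearMap.comp_apply,
      LinearMap.proj_apply, LinearMap.sub_apply, LinearMap.id_apply, LinearMap.smulRight_apply,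
      fl_apply, map_sub, map_smul, LinearMap.sub_apply, map_sum, Finset.sum_sub_distrib]
  have hfin : ∀ s : Finset (Fin n₁), ∑ i ∈ s, U.D.T (p (Pi.single i 1)) (U.D.row x i) ∈ Good := by
    classical
    intro s
    induction s using Finset.induction_on with
    | empty => simpa using zeroGood
    | insert i s hi ih =>
      rw [Finset.sum_insert hi, add_comm]
      exact stepGood _ ih _ _ (hp _).1 (hp _).2
  obtain ⟨-, -, hgood⟩ := hfin Finset.univ
  rw [← hsum] at hgood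
  have hxe : x = U.D.T a (U.lc a' x) + U.D.T a' (U.lc a x) + x0 := by rw [hx0def]; abel
  rw [hxe]
  exact hgood _ _ (Or.inl hxa) (by rwa [← hxe])

end UData0

namespace UData

variable {F : Type*} [Field F] [Fintype F] {q n n₁ n₂ : ℕ} (U : UData F q n n₁ n₂)

include U

/-- A nonscalar long root operator makes `M` the special unitary group. -/
theorem suGL_le_of_not_scal {M : Subgroup (GL (Fin n) F)} (hHM : U.stab ≤ M)
    (hMK : M ≤ suGL n F q) (h : ¬ U.Scal M) : suGL n F q ≤ M := by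
  simp only [UData0.Scal, not_forall, exists_prop] at h
  obtain ⟨b, hb0, hb, k, hk, hns⟩ := h
  refine le_of_centres U.hF (Or.inl (by have := U.six; omega)) fun v hv => ?_
  exact U.all_centres hMK (fun r b' hr hb' => U.pure_iso_centres (fun A B hA hB hA' hB' => hHM (U.kr_mem_stab hA hB hA' hB')) hMK hb0 hb hk hns r b' hr hb') hv

end UData

end Cfsg.Agent.C4
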