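import Cfsg.Agent.Lib.C4.Unitary.Herm
import Cfsg.Agent.Lib.Unitary.Commutator

/-!
# Hermitian spaces of dimension two and three

Expansions in dual families, perpendicular lines, and facts about isotropic transvections used for
the tensor decomposition `2 ⊗ 3`.
-/

set_option autoImplicit false
set_option linter.unusedSectionVars false

namespace Cfsg.Agent.C4.Herm

open Matrix Module Cfsg.Agent.Transvect Cfsg.Agent.Unitary
open scoped MatrixGroups

variable {F : Type*} [Field F] [Fintype F] {q m : ℕ} {h : (Fin m → F) → (Fin m → F) → F}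

local notation "V" => (Fin m → F)

variable (hF : Fintype.card F = q ^ 2) (H : IsHerm q h)

omit hF in
/-- Expansion in a family dual to `w`. -/
lemma expand (H : IsHerm q h) {d w : Fin m → V}
    (hd : ∀ i j, h (d i) (w j) = if i = j then 1 else 0) (x : V) :
    x = ∑ i, h x (w i) • d i := by
  classical
  let φ : V →ₗ[F] V := LinearMap.pi fun j => fl H (w j)
  have hφ : ∀ y : V, φ (∑ i, y i • d i) = y := fun y => funext fun j => by
    simp [φ, H.sum_left, H.smul_left, hd, Finset.sum_ite_eq', mul_ite]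
  have hinj : Function.Injective φ := LinearMap.injective_iff_surjective.2 fun y => ⟨_, hφ y⟩
  exact hinj (hφ (φ x)).symm

include hF H

lemma tu_conj {A : GL (Fin m) F} (hA : Iso h A) {v : V} (hv : h v v = 0) (s : F) (x : V) :
    app A (app (tu H v s) x) = app (tu H (app A v) s) (app A x) := by
  rw [tu_apply H hv, tu_apply H (by rw [hA, hv]), hA, map_add, map_smul]

/-- An anisotropic vector orthogonal to an anisotropic one. -/
lemma exists_orth_aniso (hnd : Unitary.Nondeg h) (hm : 2 ≤ m) {s : V} (hs : h s s ≠ 0) :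
    ∃ v, h v s = 0 ∧ h v v ≠ 0 := by
  by_contra! hc
  let P := perpF H fun _ : Fin 1 => s
  have hP : ∀ y : P, h (y : V) (y : V) = 0 := fun y => hc _ ((mem_perpF H).1 y.2 0)
  have h0 : ∀ y : P, (y : V) = 0 := fun y => hnd _ fun z => by
    have hz : z - (h z s / h s s) • s ∈ P := (mem_perpF H).2 fun _ => by
      rw [H.sub_left, H.smul_left, div_mul_cancel₀ _ hs, sub_self]
    have e := (H.comap P.subtype).eq_zero_of_isotropic hF hP y ⟨_, hz⟩
    simp only [Submodule.subtype_apply] at e
    rwa [H.sub_right hF, H.smul_right, (mem_perpF H).1 y.2 0, mul_zero, sub_zero] at e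
  have : P = ⊥ := (Submodule.eq_bot_iff _).2 fun y hy => h0 ⟨y, hy⟩
  have h2 : m ≤ finrank F P + 1 := le_finrank_perpF H fun _ : Fin 1 => s
  rw [this, finrank_bot] at h2
  omega

/-- In dimension three two orthogonal vectors determine a line perpendicular to both. -/
lemma eq_smul_of_perp (hnd : Unitary.Nondeg h) (hm : m = 3) {s v u u' : V} (hs : h s s ≠ 0)
    (hv0 : v ≠ 0) (hvs : h v s = 0) (hus : h u s = 0) (huv : h u v = 0) (hu's : h u' s = 0)
    (hu'v : h u' v = 0) (hu'0 : u' ≠ 0) : ∃ c : F, u = c • u' := by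
  let φ : V →ₗ[F] (Fin 2 → F) := LinearMap.pi ![fl H s, fl H v]
  have hφ : Function.Surjective φ := by
    intro y
    obtain ⟨x, hx⟩ := exists_pair hF H hnd hv0
    refine ⟨(y 0 / h s s) • s + y 1 • (x - (h x s / h s s) • s), funext fun i => ?_⟩
    have hsv := (H.eq_zero_symm hF).1 hvs
    fin_cases i <;>
      simp [φ, H.add_left, H.sub_left, H.smul_left, hsv, hx, div_mul_cancel₀ _ hs]
  have hk : finrank F (LinearMap.ker φ) = 1 := by
    have h1 := LinearMap.finrank_range_add_finrank_ker φ
    rw [LinearMap.range_eq_top.2 hφ, finrank_top, finrank_fin_fun, finrank_fin_fun] at h1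
    omega
  have mem : ∀ z, h z s = 0 → h z v = 0 → z ∈ LinearMap.ker φ := fun z h1 h2 => by
    rw [LinearMap.mem_ker]; funext i; fin_cases i <;> simp [φ, h1, h2]
  obtain ⟨c, hc⟩ := (finrank_eq_one_iff_of_nonzero' (⟨u', mem u' hu's hu'v⟩ : LinearMap.ker φ)
    (fun h0 => hu'0 (congrArg Subtype.val h0))).1 hk ⟨u, mem u hus huv⟩
  exact ⟨c, (congrArg Subtype.val hc).symm⟩

/-- An operator commuting, up to scalars, with all isotropic transvections is scalar. -/
lemma scalar_of_comm_tu (hnd : Unitary.Nondeg h) (hm : 2 ≤ m) (hq : 3 ≤ q) (G : V →ₗ[F] V)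
    (hG : ∀ r, h r r = 0 → ∀ s, s + s ^ q = 0 → s ≠ 0 →
      ∃ μ : F, ∀ x, G (app (tu H r s) x) - app (tu H r s) (G x) = μ • app (tu H r s) x) :
    ∃ c : F, ∀ x, G x = c • x := by
  refine scalar_of_iso_eigen hF H hnd hm fun r hr => ?_
  by_cases hr0 : r = 0
  · exact ⟨0, by simp [hr0]⟩
  obtain ⟨r', -, hr'r, -, -⟩ := exists_partner hF H hnd hr0 hr
  set e := h (G r) r with he
  have key : ∀ s : F, s + s ^ q = 0 → s ≠ 0 → G r = h (G r') r • r + (-e) • (r' + s • r) := by
    intro s hs hs0
    obtain ⟨μ, hμ⟩ := hG r hr s hs hs0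
    have h1 := hμ r
    have h2 := hμ r'
    simp only [tu_apply H hr, hr, hr'r, mul_zero, zero_smul, add_zero, mul_one] at h1 h2
    rw [sub_add_cancel_left, ← neg_smul, ← he] at h1
    rw [← smul_left_injective F hr0 h1, map_add, map_smul] at h2
    refine smul_right_injective V hs0 ?_
    linear_combination (norm := module) h2
  obtain ⟨d, hd0, hd⟩ := exists_skew hF
  obtain ⟨f, hf, hf0, hf1⟩ := exists_fixed_ne_zero_one hF hq
  have k1 := key d (by rw [hd, add_neg_cancel]) hd0
  have k2 := key (f * d) (by rw [mul_pow, hf, hd]; ring) (mul_ne_zero hf0 hd0)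
  have h3 : (e * ((f - 1) * d)) • r = 0 := by
    have h4 := sub_eq_zero.2 (k1.symm.trans k2)
    rw [← h4]; module
  have he0 : e = 0 := (mul_eq_zero.1 ((smul_eq_zero.1 h3).resolve_right hr0)).resolve_right
    (mul_ne_zero (sub_ne_zero.2 hf1) hd0)
  exact ⟨_, by rw [k1, he0, neg_zero, zero_smul, add_zero]⟩

omit H in
/-- A norm one element of large order. -/
lemma exists_norm_one_pow_ne {k : ℕ} (hk0 : 0 < k) (hk : k ≤ q) :
    ∃ μ : F, μ ^ (q + 1) = 1 ∧ μ ^ k ≠ 1 := by
  classical
  by_contra! hc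
  have h1 : Nat.card {x : F // x ^ (q + 1) = 1} ≤ (Polynomial.nthRootsFinset k (1 : F)).card := by
    rw [Nat.card_eq_fintype_card, Fintype.card_subtype]
    refine Finset.card_le_card fun x hx => ?_
    rw [Polynomial.mem_nthRootsFinset hk0]
    exact hc x (Finset.mem_filter.1 hx).2
  have h2 : (Polynomial.nthRootsFinset k (1 : F)).card ≤ k := by
    rw [Polynomial.nthRootsFinset_def]
    exact (Multiset.toFinset_card_le _).trans (Polynomial.card_nthRoots k 1)
  rw [card_norm_one hF] at h1
  omega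

end Cfsg.Agent.C4.Herm

namespace Cfsg.Agent.C4.Herm

open Matrix Module Cfsg.Agent.Transvect Cfsg.Agent.Unitary
open scoped MatrixGroups

variable {F : Type*} [Field F] [Fintype F] {q m : ℕ} {h : (Fin m → F) → (Fin m → F) → F}

local notation "V" => (Fin m → F)

variable (hF : Fintype.card F = q ^ 2) (H : IsHerm q h)

omit hF in
lemma tu_cancel (H : IsHerm q h) {v : V} (hv : h v v = 0) (s : F) (x : V) :
    app (tu H v s) (app (tu H v (-s)) x) = x := by
  rw [tu_apply H hv, tu_apply H hv, H.add_left, H.smul_left, hv]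
  module

omit hF in
lemma tu_cancel' (H : IsHerm q h) {v : V} (hv : h v v = 0) (s : F) (x : V) :
    app (tu H v (-s)) (app (tu H v s) x) = x := by
  have := tu_cancel H hv (-s) x
  rwa [neg_neg] at this

omit hF in
/-- Expansion in a hyperbolic pair of a plane. -/
lemma expand_hyp (H : IsHerm q h) (hm : m = 2) {r r' : V} (hr : h r r = 0) (hr' : h r' r' = 0)
    (h1 : h r' r = 1) (h2 : h r r' = 1) (x : V) : x = h x r' • r + h x r • r' := by
  subst hm
  have := expand H (d := ![r, r']) (w := ![r', r]) (fun i j => by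
    fin_cases i <;> fin_cases j <;> simp [hr, hr', h1, h2]) x
  simpa [Fin.sum_univ_two] using this

include hF H

/-- Expansion in two orthogonal anisotropic vectors of a plane. -/
lemma expand_orth (hm : m = 2) {a a' : V} (ha : h a a ≠ 0) (ha' : h a' a' ≠ 0) (h1 : h a' a = 0)
    (x : V) : x = (h x a / h a a) • a + (h x a' / h a' a') • a' := by
  subst hm
  have h2 := (H.eq_zero_symm hF).1 h1
  have := expand H (d := ![(h a a)⁻¹ • a, (h a' a')⁻¹ • a']) (w := ![a, a']) (fun i j => by
    fin_cases i <;> fin_cases j <;> simp [H.smul_left, h1, h2, ha, ha']) x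
  simpa [Fin.sum_univ_two, smul_smul, div_eq_mul_inv] using this

/-- Expansion in three orthogonal anisotropic vectors. -/
lemma expand_orth3 (hm : m = 3) {s v w : V} (hs : h s s ≠ 0) (hv : h v v ≠ 0) (hw : h w w ≠ 0)
    (hvs : h v s = 0) (hws : h w s = 0) (hwv : h w v = 0) (x : V) :
    x = (h x s / h s s) • s + (h x v / h v v) • v + (h x w / h w w) • w := by
  subst hm
  have e1 := (H.eq_zero_symm hF).1 hvs
  have e2 := (H.eq_zero_symm hF).1 hws
  have e3 := (H.eq_zero_symm hF).1 hwv
  have := expand H (d := ![(h s s)⁻¹ • s, (h v v)⁻¹ • v, (h w w)⁻¹ • w]) (w := ![s, v, w])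
    (fun i j => by
      fin_cases i <;> fin_cases j <;> simp [H.smul_left, hvs, hws, hwv, e1, e2, e3, hs, hv, hw]) x
  simpa [Fin.sum_univ_three, smul_smul, div_eq_mul_inv] using this

/-- Orthogonal isotropic vectors of a three dimensional space are dependent. -/
lemma eq_smul_of_iso_orth (hm : m = 3) {b b' z u : V} (hb : h b b = 0) (hb' : h b' b' = 0)
    (h1 : h b' b = 1) (h2 : h b b' = 1) (hzb : h z b = 0) (hzb' : h z b' = 0) (hz : h z z = 1)
    (hu : h u u = 0) (hub : h u b = 0) : u = h u b' • b := by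
  subst hm
  have e1 := (H.eq_zero_symm hF).1 hzb
  have e2 := (H.eq_zero_symm hF).1 hzb'
  have e := expand H (d := ![b, b', z]) (w := ![b', b, z]) (fun i j => by
      fin_cases i <;> fin_cases j <;> simp [hb, hb', h1, h2, hzb, hzb', hz, e1, e2]) u
  simp [Fin.sum_univ_three, hub] at e
  have e3 : h u z ^ (q + 1) = 0 := by
    have h4 := congrArg (fun y => h y y) e
    simp only [H.add_left, H.add_right hF, H.smul_left, H.smul_right, hu, hb, hzb, e1, hz] at h4
    linear_combination -h4
  rw [eq_zero_of_pow_eq_zero e3, zero_smul, add_zero] at e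
  exact e

end Cfsg.Agent.C4.Herm
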