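import Cfsg.Agent.Lib.C4.Unitary.TwoThree
import Cfsg.Agent.Lib.Unitary.PlaneSwap

/-!
# The decomposition `2 ⊗ 3`: all elements are tensors
-/

set_option autoImplicit false
set_option linter.unusedSectionVars false

namespace Cfsg.Agent.C4

open Matrix Module Cfsg.Agent.Transvect Cfsg.Agent.Unitary Cfsg.Agent.C4.Herm
open scoped MatrixGroups

namespace UData

variable {F : Type*} [Field F] [Fintype F] {q n n₁ n₂ : ℕ} (U : UData F q n n₁ n₂)

local notation "hh" => Cfsg.hermForm n F q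
local notation "W₁" => (Fin n₁ → F)
local notation "W₂" => (Fin n₂ → F)

include U

lemma R_T (v : W₂) (z : F) (c : W₁) (w : W₂) :
    app (U.R v z) (U.D.T c w) = U.D.T c (app (tu U.H₂ v z) w) := by
  simp only [UData0.R, U.D.app_kr, map_one]; rfl

lemma smul_cb_kr_pseudo {A : GL (Fin n₁) F} {B : GL (Fin n₂) F} {μ κ : F} {u : W₂}
    (hA : ∀ c, app A c = μ • c) (hB : ∀ w, app B w = w + (κ * U.h₂ w u) • u) (x : Fin n → F) :
    app (U.D.kr A B) x = μ • x + (μ * κ) • U.D.T (U.cb u x) u :=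
  LinearMap.congr_fun (U.D.lin_ext (f := (app (U.D.kr A B)).toLinearMap)
    (g := μ • LinearMap.id + (μ * κ) • (U.D.T.flip u ∘ₗ U.cb u)) fun c w => by
      simp only [LinearEquiv.coe_coe, U.D.app_kr, hA, hB, LinearMap.add_apply, LinearMap.smul_apply,
        LinearMap.id_apply, LinearMap.comp_apply, LinearMap.flip_apply, U.cb_T, map_add, map_smul,
        LinearMap.smul_apply, smul_smul]
      module) x

/-- A scalar operator on the first factor. -/
lemma exists_scalar_fst {μ : F} (hμ : μ ≠ 0) :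
    ∃ A : GL (Fin n₁) F, (∀ c, app A c = μ • c) ∧ (A : Matrix (Fin n₁) (Fin n₁) F).det = μ ^ n₁ := by
  have hd : (μ • (1 : Matrix (Fin n₁) (Fin n₁) F)).det = μ ^ n₁ := by simp
  refine ⟨Matrix.GeneralLinearGroup.mkOfDetNeZero _ (hd.symm ▸ pow_ne_zero _ hμ), fun c => ?_, hd⟩
  rw [app_apply]
  show (μ • (1 : Matrix (Fin n₁) (Fin n₁) F)) *ᵥ c = _
  rw [Matrix.smul_mulVec, Matrix.one_mulVec]

variable {M : Subgroup (GL (Fin n) F)} (hHM : U.stab ≤ M) (hMK : M ≤ suGL n F q) (hS : U.Scal M)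
  (h2 : n₁ = 2) (h6 : n = 6)

include hHM hMK hS h2 h6

/-- A conjugate of an element of the stabiliser, inside the stabiliser of an isotropic line. -/
lemma exists_conj_eq {s : W₂} (hs0 : s ≠ 0) {k : GL (Fin n) F} (hk : k ∈ M)
    (hfix : ∀ c, app k (U.D.T c s) = U.D.T c s) {b0 : W₂} (hb00 : b0 ≠ 0) (hb0 : U.h₂ b0 b0 = 0)
    {A0 : GL (Fin n₁) F} {B0 : GL (Fin n₂) F} (hA0 : Iso U.h₁ A0) (hh0 : U.D.kr A0 B0 ∈ M)
    (hB0s : app B0 s = s)
    (hst : ∀ d, ∃ d', app (U.D.kr A0 B0) (app k (U.D.T d b0)) = app k (U.D.T d' b0)) :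
    ∃ (β : W₂ →ₗ[F] W₂) (l : F), β b0 = l • b0 ∧ (∀ v w, U.h₂ (β v) (β w) = U.h₂ v w) ∧
      ∀ c w, app (U.D.kr A0 B0) (app k (U.D.T c w)) = app k (U.D.T (app A0 c) (β w)) := by
  set e := k⁻¹ * U.D.kr A0 B0 * k with he
  have heM : e ∈ M := mul_mem (mul_mem (inv_mem hk) hh0) hk
  have hap : ∀ x, app e x = app k⁻¹ (app (U.D.kr A0 B0) (app k x)) := fun x => by
    rw [he, map_mul, map_mul]; rfl
  obtain ⟨A, B, hAB⟩ := U.exists_tens (U.mem_tens_of_stab hHM hMK hS hb00 hb0 heM fun d => by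
    obtain ⟨d', hd'⟩ := hst d
    rw [hap, hd', app_inv_app]
    exact U.D.mem_line _)
  have hes : ∀ c, app e (U.D.T c s) = U.D.T (app A0 c) s := fun c => by
    rw [hap, hfix, U.D.app_kr, hB0s]
    conv_lhs => rw [← hfix (app A0 c), app_inv_app]
  obtain ⟨α, hα⟩ := TData.exists_dual hs0
  set ς := α (app B s) with hς
  have hA : ∀ c, ς • app A c = app A0 c := fun c => by
    have h := congrArg (U.D.ct α) ((hAB c s).symm.trans (hes c))
    rwa [U.D.ct_T, U.D.ct_T, hα, one_smul] at h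
  obtain ⟨c0, hc0⟩ := U.exists_ne_zero_left
  have hς0 : ς ≠ 0 := fun h0 => hc0 ((app A0).map_eq_zero_iff.1 (by rw [← hA, h0, zero_smul]))
  set β : W₂ →ₗ[F] W₂ := ς⁻¹ • (app B).toLinearMap with hβdef
  have hβ : ∀ c w, app e (U.D.T c w) = U.D.T (app A0 c) (β w) := fun c w => by
    rw [hAB, ← hA c, hβdef]
    simp only [map_smul, LinearMap.smul_apply, LinearEquiv.coe_coe, smul_smul]
    rw [inv_mul_cancel₀ hς0, one_smul]
  obtain ⟨c1, hc1⟩ := exists_pair U.hF U.H₁ U.nd₁ hc0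
  obtain ⟨d', hd'⟩ := hst c0
  obtain ⟨c2, hc2⟩ := exists_pair U.hF U.H₁ U.nd₁ ((app A0).map_ne_zero_iff.2 hc0)
  refine ⟨β, U.h₁ d' c2, ?_, fun v w => ?_, fun c w => ?_⟩
  · have h := congrArg (U.lc c2)
      ((hβ c0 b0).symm.trans (show app e (U.D.T c0 b0) = U.D.T d' b0 by rw [hap, hd', app_inv_app]))
    rwa [U.lc_T, U.lc_T, U.H₁.conj_symm c2, hc2, one_pow, one_smul] at h
  · have h := U.iso_of_mem hMK heM (U.D.T c1 v) (U.D.T c0 w)
    rwa [hβ, hβ, U.tensor, U.tensor, hA0, hc1, one_mul, one_mul] at h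
  · rw [← hβ, hap, app_app_inv]

/-- A root element conjugate commuting with an element of the first factor. -/
lemma conj_root_comm {k : GL (Fin n) F} {b0 : W₂} (hb0 : U.h₂ b0 b0 = 0) {A0 : GL (Fin n₁) F}
    {B0 : GL (Fin n₂) F} {β : W₂ →ₗ[F] W₂} {l : F} (hl : l ^ (q + 1) = 1) (hβb : β b0 = l • b0)
    (hβi : ∀ v w, U.h₂ (β v) (β w) = U.h₂ v w)
    (hc : ∀ c w, app (U.D.kr A0 B0) (app k (U.D.T c w)) = app k (U.D.T (app A0 c) (β w))) (z : F)
    (x : Fin n → F) :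
    app (U.D.kr A0 B0) (app (k * U.R b0 z * k⁻¹) x) =
      app (k * U.R b0 z * k⁻¹) (app (U.D.kr A0 B0) x) := by
  obtain ⟨y, rfl⟩ := (app k).surjective x
  let P := k * U.R b0 z * k⁻¹
  refine LinearMap.congr_fun (U.D.lin_ext
    (f := (app (U.D.kr A0 B0)).toLinearMap ∘ₗ (app P).toLinearMap ∘ₗ (app k).toLinearMap)
    (g := (app P).toLinearMap ∘ₗ (app (U.D.kr A0 B0)).toLinearMap ∘ₗ (app k).toLinearMap)
    fun c w => ?_) y
  simp only [P, LinearMap.comp_apply, LinearEquiv.coe_coe, map_mul, LinearEquiv.mul_apply,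
    app_inv_app, U.R_T, hc]
  rw [tu_apply U.H₂ hb0, tu_apply U.H₂ hb0, map_add β, map_smul β, hβb]
  have h : U.h₂ (β w) b0 = l * U.h₂ w b0 := by
    rw [← hβi w b0, hβb, U.H₂.smul_right, ← mul_assoc, ← pow_succ', hl, one_mul]
  rw [h]
  congr 2
  module

/-- An element of `M` trivial on `A ⊗ s` is a tensor. -/
theorem mem_tens_of_fix {s : W₂} (hs : U.h₂ s s ≠ 0) {k : GL (Fin n) F} (hk : k ∈ M)
    (hfix : ∀ c, app k (U.D.T c s) = U.D.T c s) : k ∈ U.tens := by
  have h3 := U.three_eq h2 h6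
  have hq := U.three_le_q h2
  have hs0 : s ≠ 0 := fun h => hs (by rw [h, U.H₂.zero_left])
  obtain ⟨b0, hb0P, hb00, hb0⟩ := exists_iso_in U.hF U.H₂ (W := perpF U.H₂ fun _ : Fin 1 => s) (by
    have h4 : n₂ ≤ finrank F (perpF U.H₂ fun _ : Fin 1 => s) + 1 :=
      le_finrank_perpF U.H₂ fun _ : Fin 1 => s
    omega)
  have hb0s : U.h₂ b0 s = 0 := (mem_perpF U.H₂).1 hb0P 0
  -- the image of the isotropic line
  have hlc : ∀ e d, U.h₂ (U.lc e (app k (U.D.T d b0))) s = 0 := fun e d => by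
    rw [← U.herm_lc, ← hfix e, U.iso_of_mem hMK hk, U.tensor, hb0s, mul_zero]
  have hTI : ∀ d d', hh (app k (U.D.T d b0)) (app k (U.D.T d' b0)) = 0 := fun d d' => by
    rw [U.iso_of_mem hMK hk, U.tensor, hb0, mul_zero]
  -- it contains a pure tensor
  obtain ⟨c0, a, v, hc0, ha0, hv0, hcav⟩ :
      ∃ c0 a v, c0 ≠ 0 ∧ a ≠ 0 ∧ v ≠ 0 ∧ app k (U.D.T c0 b0) = U.D.T a v := by
    obtain ⟨a, ha⟩ : ∃ a : W₁, U.h₁ a a ≠ 0 := by
      by_contra! hall
      obtain ⟨x, hx⟩ := U.exists_ne_zero_left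
      exact hx (U.nd₁ _ fun y => U.H₁.eq_zero_of_isotropic U.hF hall x y)
    obtain ⟨a', h1, ha'⟩ := exists_orth_aniso U.hF U.H₁ U.nd₁ U.two_le ha
    have hne : ∀ d, d ≠ 0 → app k (U.D.T d b0) ≠ 0 := fun d hd h0 => by
      rw [(app k).map_eq_zero_iff] at h0
      exact hd ((U.D.T_eq_zero h0).resolve_right hb00)
    have ha'0 : a' ≠ 0 := fun h => ha' (by rw [h, U.H₁.zero_left])
    by_cases hex : ∃ d, d ≠ 0 ∧ U.lc a (app k (U.D.T d b0)) = 0
    · obtain ⟨d, hd, hd'⟩ := hex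
      have h := U.dec_orth h2 ha ha' h1 (app k (U.D.T d b0))
      rw [hd', map_zero, smul_zero, zero_add, ← map_smul] at h
      exact ⟨d, a', _, hd, ha'0, fun h0 => hne d hd (by rw [h, h0, map_zero]), h⟩
    push Not at hex
    obtain ⟨v1, hv1s, hv1⟩ := exists_orth_aniso U.hF U.H₂ U.nd₂ (by omega) hs
    obtain ⟨v2, hv2m, hv20⟩ := Submodule.exists_mem_ne_zero_of_ne_bot (p := perpF U.H₂ ![s, v1])
      (fun h => by
        have h4 : n₂ ≤ finrank F (perpF U.H₂ ![s, v1]) + 2 := le_finrank_perpF U.H₂ ![s, v1]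
        rw [h, finrank_bot] at h4
        omega)
    have hv2s : U.h₂ v2 s = 0 := (mem_perpF U.H₂).1 hv2m 0
    have hv2v1 : U.h₂ v2 v1 = 0 := (mem_perpF U.H₂).1 hv2m 1
    have hsv2 := (U.H₂.eq_zero_symm U.hF).1 hv2s
    have hv1v2 := (U.H₂.eq_zero_symm U.hF).1 hv2v1
    have hv2 : U.h₂ v2 v2 ≠ 0 := by
      intro h0
      obtain ⟨x, hx⟩ := exists_pair U.hF U.H₂ U.nd₂ hv20
      set w := x - (U.h₂ x s / U.h₂ s s) • s - (U.h₂ x v1 / U.h₂ v1 v1) • v1 with hw
      have hsv1 := (U.H₂.eq_zero_symm U.hF).1 hv1s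
      obtain ⟨c, hc⟩ := eq_smul_of_perp U.hF U.H₂ U.nd₂ h3 hs (v := v1)
        (fun h => hv1 (by rw [h, U.H₂.zero_left])) hv1s (u := w)
        (by simp [hw, U.H₂.sub_left, U.H₂.smul_left, hv1s, div_mul_cancel₀ _ hs])
        (by simp [hw, U.H₂.sub_left, U.H₂.smul_left, hsv1, div_mul_cancel₀ _ hv1]) hv2s hv2v1 hv20
      have h := congrArg (fun z => U.h₂ z v2) hc
      simp [hw, U.H₂.sub_left, U.H₂.smul_left, hsv2, hv1v2, hx, h0] at h
    have exp : ∀ w, U.h₂ w s = 0 →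
        w = (U.h₂ w v1 / U.h₂ v1 v1) • v1 + (U.h₂ w v2 / U.h₂ v2 v2) • v2 := fun w hw => by
      conv_lhs => rw [expand_orth3 U.hF U.H₂ h3 hs hv1 hv2 hv1s hv2s hv2v1 w]
      rw [hw, zero_div, zero_smul, zero_add]
    let φ : W₁ →ₗ[F] W₂ := U.lc a ∘ₗ (app k).toLinearMap ∘ₗ U.D.T.flip b0
    let L : W₁ →ₗ[F] (Fin 2 → F) :=
      LinearMap.pi ![(U.h₂ v1 v1)⁻¹ • (fl U.H₂ v1 ∘ₗ φ), (U.h₂ v2 v2)⁻¹ • (fl U.H₂ v2 ∘ₗ φ)]
    have hLi : Function.Injective L := (injective_iff_map_eq_zero L).2 fun d hd => by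
      by_contra hd0
      have e1 := congrFun hd 0
      have e2 := congrFun hd 1
      simp only [L, φ, LinearMap.pi_apply, Matrix.cons_val_zero, Matrix.cons_val_one, LinearMap.smul_apply, LinearMap.comp_apply, fl_apply, smul_eq_mul, LinearEquiv.coe_coe, LinearMap.flip_apply, Pi.zero_apply, mul_eq_zero, inv_eq_zero, hv1, hv2, false_or] at e1 e2
      refine hex d hd0 ?_
      rw [exp _ (hlc a d), e1, e2]
      simp
    have hLs := (LinearMap.injective_iff_surjective_of_finrank_eq_finrank (by simp [h2])).1 hLi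
    have mk : ∀ y : Fin 2 → F, ∃ d, U.lc a (app k (U.D.T d b0)) = y 0 • v1 + y 1 • v2 := fun y => by
      obtain ⟨d, hd⟩ := hLs y
      refine ⟨d, ?_⟩
      rw [exp _ (hlc a d), ← hd]
      simp only [L, φ, LinearMap.pi_apply, Matrix.cons_val_zero, Matrix.cons_val_one, LinearMap.smul_apply, LinearMap.comp_apply, fl_apply, smul_eq_mul, LinearEquiv.coe_coe, LinearMap.flip_apply, div_eq_inv_mul]
    obtain ⟨d1, hd1⟩ := mk ![1, 0]
    obtain ⟨d2, hd2⟩ := mk ![0, 1]
    simp only [Matrix.cons_val_zero, Matrix.cons_val_one, one_smul, zero_smul, add_zero,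
      zero_add] at hd1 hd2
    set z1 := U.lc a' (app k (U.D.T d1 b0)) with hz1
    set z2 := U.lc a' (app k (U.D.T d2 b0)) with hz2
    have hTI' : ∀ d d', (U.h₁ a a)⁻¹ * U.h₂ (U.lc a (app k (U.D.T d b0))) (U.lc a (app k (U.D.T d' b0))) +
        (U.h₁ a' a')⁻¹ * U.h₂ (U.lc a' (app k (U.D.T d b0))) (U.lc a' (app k (U.D.T d' b0))) = 0 := by
      intro d d'
      have h := hTI d d'
      rw [U.dec_orth h2 ha ha' h1 (app k (U.D.T d' b0))] at h
      rwa [U.hermV.add_right U.hF, U.hermV.smul_right, U.hermV.smul_right, U.herm_lc, U.herm_lc,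
        inv_pow, inv_pow, U.H₁.self_fixed, U.H₁.self_fixed] at h
    obtain ⟨ε, hε⟩ := exists_norm_eq U.hF (c := -(U.h₁ a a / U.h₁ a' a'))
      (by rw [neg_pow_q U.hF, div_pow, U.H₁.self_fixed, U.H₁.self_fixed])
    have hε0 : ε ≠ 0 := fun h0 => by
      rw [h0, zero_pow (Nat.succ_ne_zero q), eq_comm, neg_eq_zero] at hε
      exact div_ne_zero ha ha' hε
    set p := U.h₂ z1 v1 / U.h₂ v1 v1
    set r := U.h₂ z1 v2 / U.h₂ v2 v2
    set s' := U.h₂ z2 v1 / U.h₂ v1 v1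
    set t := U.h₂ z2 v2 / U.h₂ v2 v2
    have ez1 : z1 = p • v1 + r • v2 := exp _ (hlc a' d1)
    have ez2 : z2 = s' • v1 + t • v2 := exp _ (hlc a' d2)
    have inner : ∀ x y x' y' : F, U.h₂ (x • v1 + y • v2) (x' • v1 + y' • v2) =
        x * x' ^ q * U.h₂ v1 v1 + y * y' ^ q * U.h₂ v2 v2 := fun x y x' y' => by
      simp only [U.H₂.add_left, U.H₂.add_right U.hF, U.H₂.smul_left, U.H₂.smul_right, hv2v1, hv1v2]
      ring
    have scaled : ∀ x y x' y' c : F, (U.h₁ a a)⁻¹ * c +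
        (U.h₁ a' a')⁻¹ * U.h₂ (x • v1 + y • v2) (x' • v1 + y' • v2) = 0 →
        (ε * x) * (ε * x') ^ q * U.h₂ v1 v1 + (ε * y) * (ε * y') ^ q * U.h₂ v2 v2 = c := by
      intro x y x' y' c h
      rw [inner] at h
      rw [mul_pow, mul_pow,
        show ε * x * (ε ^ q * x' ^ q) * U.h₂ v1 v1 + ε * y * (ε ^ q * y' ^ q) * U.h₂ v2 v2 =
          ε ^ (q + 1) * (x * x' ^ q * U.h₂ v1 v1 + y * y' ^ q * U.h₂ v2 v2) by ring, hε]
      field_simp at h ⊢
      linear_combination -h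
    have t11 := hTI' d1 d1
    have t12 := hTI' d1 d2
    have t21 := hTI' d2 d1
    have t22 := hTI' d2 d2
    simp only [hd1, hd2, ← hz1, ← hz2, ez1, ez2, hv1v2, hv2v1] at t11 t12 t21 t22
    obtain ⟨x, y, lam, hxy, e1, e2⟩ := exists_plane_eigen U.hF (p := ε * p) (r := ε * r)
      (s := ε * s') (t := ε * t) hv1 hv2 (scaled _ _ _ _ _ t11) (scaled _ _ _ _ _ t22)
      (scaled _ _ _ _ _ t12) (scaled _ _ _ _ _ t21)
    set u := x • v1 + y • v2 with hu
    have hu0 : u ≠ 0 := fun h0 => by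
      have f1 := congrArg (fun z => U.h₂ z v1) h0
      have f2 := congrArg (fun z => U.h₂ z v2) h0
      simp [hu, U.H₂.add_left, U.H₂.smul_left, hv2v1, hv1v2, hv1, hv2, U.H₂.zero_left] at f1 f2
      exact hxy.elim (fun h => h f1) fun h => h f2
    set c0 := x • d1 + y • d2
    have la : U.lc a (app k (U.D.T c0 b0)) = u := by
      simp only [c0, map_add, map_smul, LinearMap.add_apply, LinearMap.smul_apply, hd1, hd2, hu]
    have la' : U.lc a' (app k (U.D.T c0 b0)) = (lam / ε) • u := by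
      simp only [c0, map_add, map_smul, LinearMap.add_apply, LinearMap.smul_apply, ← hz1, ← hz2,
        ez1, ez2, hu]
      match_scalars
      · field_simp
        linear_combination e1
      · field_simp
        linear_combination e2
    refine ⟨c0, (U.h₁ a a)⁻¹ • a + ((U.h₁ a' a')⁻¹ * (lam / ε)) • a', u, fun h0 => hu0 ?_,
      fun h0 => ?_, hu0, ?_⟩
    · rw [← la, h0]; simp
    · have h := congrArg (fun z => U.h₁ z a) h0
      simp [U.H₁.add_left, U.H₁.smul_left, h1, ha, U.H₁.zero_left] at h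
    · rw [U.dec_orth h2 ha ha' h1 (app k (U.D.T c0 b0)), la, la']
      simp only [map_add, map_smul, LinearMap.add_apply, LinearMap.smul_apply, smul_smul]
  have hTIa : ∀ d, U.h₂ (U.lc a (app k (U.D.T d b0))) v = 0 := fun d => by
    rw [← U.herm_lc, ← hcav]; exact hTI d c0
  have hvs : U.h₂ v s = 0 := by
    obtain ⟨a2, ha2⟩ := exists_pair U.hF U.H₁ U.nd₁ ha0
    have h := hlc a2 c0
    rw [hcav, U.lc_T, U.H₁.conj_symm a2, ha2, one_pow, one_smul] at h
    exact h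
  obtain ⟨σ, hσ0, hσ⟩ := exists_skew U.hF
  have hσ' : σ + σ ^ q = 0 := by rw [hσ, add_neg_cancel]
  have hkrB : ∀ A : GL (Fin n₁) F, app (1 : GL (Fin n₂) F) s = s := fun _ => by simp
  -- reduction to the conjugate root element
  have finish : (k * U.R b0 σ * k⁻¹) ∈ U.tens → k ∈ U.tens := fun h => by
    have h1 : k⁻¹ ∈ U.tens := U.mem_tens_of_root hHM hMK hS hb00 hb0 hσ' hσ0 (inv_mem hk)
      (by rwa [inv_inv])
    simpa using inv_mem h1
  have hk'M : k * U.R b0 σ * k⁻¹ ∈ M := mul_mem (mul_mem hk (hHM (U.R_mem hb0 hσ'))) (inv_mem hk)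
  have hlcv : U.h₂ v v = 0 → ∀ d, ∃ c : F, U.lc a (app k (U.D.T d b0)) = c • v := fun hv d =>
    eq_smul_of_perp U.hF U.H₂ U.nd₂ h3 hs hv0 hvs (hlc a d) (hTIa d) hvs hv hv0
  by_cases ha : U.h₁ a a = 0
  · -- the transvection at `a` stabilises the image
    by_cases hstab : ∀ d, ∃ c : F, U.lc a (app k (U.D.T d b0)) = c • v
    · set A0 := tu U.H₁ a σ
      have hh0 : U.D.kr A0 1 ∈ M := hHM (U.Lt_mem ha hσ')
      have hLt : ∀ x, app (U.D.kr A0 1) x = x + σ • U.D.T a (U.lc a x) := U.Lt_apply ha σ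
      obtain ⟨β, l, hβb, hβi, hc⟩ := U.exists_conj_eq hHM hMK hS h2 h6 hs0 hk hfix hb00 hb0
        (tu_iso U.hF U.H₁ ha hσ') hh0 (hkrB 1) fun d => by
          obtain ⟨c, hcd⟩ := hstab d
          refine ⟨d + (σ * c) • c0, ?_⟩
          rw [hLt, hcd]
          simp only [map_smul, map_add, LinearMap.add_apply, LinearMap.smul_apply, hcav, smul_smul]
      have hl : l = 1 := by
        have h := hc c0 b0
        rw [hβb, hcav, hLt, U.lc_T, ha, zero_smul, map_zero, smul_zero, add_zero, ← hcav, map_smul,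
          ← LinearMap.smul_apply, ← map_smul] at h
        have h' := U.D.T_inj_left hb00 ((app k).injective h)
        rw [tu_apply U.H₁ ha] at h'
        have h'' := congrArg (fun z => U.h₁ z a) h'
        simp only [U.H₁.smul_left, U.H₁.add_left, ha, mul_zero, add_zero] at h''
        by_cases h0 : U.h₁ c0 a = 0
        · rw [h0, mul_zero, zero_smul, add_zero] at h'
          exact (smul_left_injective F hc0 (show (1 : F) • c0 = l • c0 by rw [one_smul]; exact h')).symm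
        · exact (mul_eq_right₀ h0).1 h''.symm
      refine finish ?_
      refine U.mem_tens_of_ruling hHM hMK hS h2 h6 ha0 ha hk'M fun w => ?_
      obtain ⟨a'', -, -, haa'', -⟩ := exists_partner U.hF U.H₁ U.nd₁ ha0 ha
      have ha''a : U.h₁ a'' a = 1 := by rw [U.H₁.conj_symm a a'', haa'', one_pow]
      refine ⟨U.lc a (app (k * U.R b0 σ * k⁻¹) (U.D.T a'' w)), ?_⟩
      have h := U.conj_root_comm hHM hMK hS h2 h6 (k := k) hb0
        (by rw [hl, one_pow]) hβb hβi hc σ (U.D.T a'' w)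
      rw [hLt, hLt, map_add, map_smul, U.lc_T, ha''a, one_smul, add_right_inj] at h
      exact ((IsUnit.mk0 _ hσ0).smul_left_cancel.1 h).symm
    · -- two pure tensors with anisotropic second factors
      exfalso
      push Not at hstab
      obtain ⟨d0, hd0⟩ := hstab
      have hv : U.h₂ v v ≠ 0 := fun h => by
        obtain ⟨c, hc⟩ := hlcv h d0
        exact hd0 c hc
      set v' := U.lc a (app k (U.D.T d0 b0)) with hv'def
      have hv'0 : v' ≠ 0 := fun h => hd0 0 (by rw [h, zero_smul])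
      have hv's : U.h₂ v' s = 0 := hlc a d0
      have hv'v : U.h₂ v' v = 0 := hTIa d0
      have hvv' := (U.H₂.eq_zero_symm U.hF).1 hv'v
      have hsv' := (U.H₂.eq_zero_symm U.hF).1 hv's
      have hsv := (U.H₂.eq_zero_symm U.hF).1 hvs
      have hv' : U.h₂ v' v' ≠ 0 := by
        intro h0
        obtain ⟨x, hx⟩ := exists_pair U.hF U.H₂ U.nd₂ hv'0
        set w := x - (U.h₂ x s / U.h₂ s s) • s - (U.h₂ x v / U.h₂ v v) • v with hw
        obtain ⟨c, hc⟩ := eq_smul_of_perp U.hF U.H₂ U.nd₂ h3 hs hv0 hvs (u := w)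
          (by simp [hw, U.H₂.sub_left, U.H₂.smul_left, hvs, div_mul_cancel₀ _ hs])
          (by simp [hw, U.H₂.sub_left, U.H₂.smul_left, hsv, div_mul_cancel₀ _ hv]) hv's hv'v hv'0
        have h := congrArg (fun z => U.h₂ z v') hc
        simp [hw, U.H₂.sub_left, U.H₂.smul_left, hsv', hvv', hx, h0] at h
      obtain ⟨a'', ha''0, ha''a, haa'', -⟩ := exists_partner U.hF U.H₁ U.nd₁ ha0 ha
      set x0 := U.h₂ (U.lc a'' (app k (U.D.T d0 b0))) v / U.h₂ v v
      set z0 := U.h₂ (U.lc a'' (app k (U.D.T d0 b0))) v' / U.h₂ v' v'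
      set c1 := d0 - x0 • c0
      set a2 := a'' + z0 • a with ha2
      have hy1 : app k (U.D.T c1 b0) = U.D.T a2 v' := by
        have hd := U.dec_hyp h2 ha ha''0 ha''a haa'' (app k (U.D.T d0 b0))
        rw [expand_orth3 U.hF U.H₂ h3 hs hv hv' hvs hv's hv'v (U.lc a'' _), hlc, zero_div,
          zero_smul, zero_add, ← hv'def] at hd
        simp only [c1, map_sub, map_smul, LinearMap.sub_apply, LinearMap.smul_apply, hcav]
        rw [hd]
        simp only [ha2, map_add, map_smul, LinearMap.add_apply, LinearMap.smul_apply]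
        module
      obtain ⟨μ, hμ, hμ2⟩ := exists_norm_one_pow_ne U.hF two_pos (by omega : 2 ≤ q)
      have hμ0 : μ ≠ 0 := fun h => by simp [h] at hμ
      obtain ⟨P1, hP1, hP1i, hP1d⟩ := U.pseudo_iso U.H₂ hv hμ
      obtain ⟨P2, hP2, hP2i, hP2d⟩ := U.pseudo_iso U.H₂ hv' (μ := μ⁻¹) (by rw [inv_pow, hμ, inv_one])
      have hBs : app (P1 * P2) s = s := by
        rw [map_mul, LinearEquiv.mul_apply, hP2, hsv', mul_zero, zero_smul, add_zero, hP1, hsv,
          mul_zero, zero_smul, add_zero]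
      have hBv : app (P1 * P2) v = μ • v := by
        rw [map_mul, LinearEquiv.mul_apply, hP2, hvv', mul_zero, zero_smul, add_zero, hP1,
          div_mul_cancel₀ _ hv]
        module
      have hBv' : app (P1 * P2) v' = μ⁻¹ • v' := by
        rw [map_mul, LinearEquiv.mul_apply, hP2, div_mul_cancel₀ _ hv',
          show v' + (μ⁻¹ - 1) • v' = μ⁻¹ • v' by module, hP1, U.H₂.smul_left, hv'v]
        simp
      have hh0 : U.D.kr 1 (P1 * P2) ∈ M := hHM (U.kr_mem_stab (U.iso_one _)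
        (fun x y => by
          rw [map_mul, LinearEquiv.mul_apply, LinearEquiv.mul_apply, hP1i, hP2i]) (one_mem _)
        (mem_sl_iff.2 (by rw [Units.val_mul, Matrix.det_mul, hP1d, hP2d, mul_inv_cancel₀ hμ0])))
      have happ : ∀ c w, app (U.D.kr 1 (P1 * P2)) (U.D.T c w) = U.D.T c (app (P1 * P2) w) :=
        fun c w => by rw [U.D.app_kr, map_one]; rfl
      have hhv : app (U.D.kr 1 (P1 * P2)) (U.D.T a v) = μ • U.D.T a v := by
        rw [happ, hBv, map_smul]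
      have hhv' : app (U.D.kr 1 (P1 * P2)) (U.D.T a2 v') = μ⁻¹ • U.D.T a2 v' := by
        rw [happ, hBv', map_smul]
      have ha2a : U.h₁ a2 a = 1 := by
        rw [ha2, U.H₁.add_left, U.H₁.smul_left, ha''a, ha, mul_zero, add_zero]
      obtain ⟨β, l, hβb, -, hc⟩ := U.exists_conj_eq hHM hMK hS h2 h6 hs0 hk hfix hb00 hb0
        (U.iso_one _) hh0 hBs fun d => by
          obtain ⟨c, hc⟩ := eq_smul_of_perp U.hF U.H₂ U.nd₂ h3 hs hv0 hvs (hlc a d) (hTIa d) hv's hv'v hv'0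
          set d' := d - c • c1 with hd'
          have e1 : U.lc a (app k (U.D.T d' b0)) = 0 := by
            simp only [hd', map_sub, map_smul, LinearMap.sub_apply, LinearMap.smul_apply, hy1, hc,
              U.lc_T, ha2a, one_smul, sub_self]
          have e2 := U.dec_hyp h2 ha ha''0 ha''a haa'' (app k (U.D.T d' b0))
          rw [e1, map_zero, add_zero, expand_orth3 U.hF U.H₂ h3 hs hv hv' hvs hv's hv'v (U.lc a'' _),
            hlc, zero_div, zero_smul, zero_add] at e2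
          set X := U.h₂ (U.lc a'' (app k (U.D.T d' b0))) v / U.h₂ v v
          set Z := U.h₂ (U.lc a'' (app k (U.D.T d' b0))) v' / U.h₂ v' v'
          have haa2 : U.h₁ a a2 = 1 := by rw [U.H₁.conj_symm a2 a, ha2a, one_pow]
          have hZ : Z = 0 := by
            have h := hTI d' c1
            rw [hy1, e2, U.tensor, haa2, one_mul, U.H₂.add_left, U.H₂.smul_left, U.H₂.smul_left,
              hvv', mul_zero, zero_add] at h
            exact (mul_eq_zero.1 h).resolve_right hv'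
          rw [hZ, zero_smul, add_zero, map_smul, ← hcav] at e2
          refine ⟨(μ * X) • c0 + (μ⁻¹ * c) • c1, ?_⟩
          have e3 : app k (U.D.T d b0) = X • U.D.T a v + c • U.D.T a2 v' := by
            rw [show d = d' + c • c1 by rw [hd', sub_add_cancel]]
            simp only [map_add, map_smul, LinearMap.add_apply, LinearMap.smul_apply, e2, hy1, hcav]
          rw [e3]
          simp only [map_add, map_smul, hhv, hhv', LinearMap.add_apply, LinearMap.smul_apply, hcav,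
            hy1, smul_smul, mul_comm]
      have hscal : ∀ c ν, c ≠ 0 →
          app (U.D.kr 1 (P1 * P2)) (app k (U.D.T c b0)) = ν • app k (U.D.T c b0) → l = ν := by
        intro c ν hc0' h
        rw [hc, hβb, map_one, LinearEquiv.coe_one, id_eq, map_smul (U.D.T c), map_smul (app k)] at h
        refine smul_left_injective F ?_ h
        rw [Ne, (app k).map_eq_zero_iff]
        exact fun h => hc0' ((U.D.T_eq_zero h).resolve_right hb00)
      have hc1 : c1 ≠ 0 := fun h => by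
        rw [h, map_zero, LinearMap.zero_apply, map_zero] at hy1
        rcases U.D.T_eq_zero hy1.symm with h' | h'
        · rw [h', U.H₁.zero_left] at ha2a; exact zero_ne_one ha2a
        · exact hv'0 h'
      have hl1 := hscal c0 μ hc0 (by rw [hcav, hhv])
      have hl2 := hscal c1 μ⁻¹ hc1 (by rw [hy1, hhv'])
      exact hμ2 (by rw [pow_two]; exact (mul_eq_one_iff_eq_inv₀ hμ0).2 (hl1.symm.trans hl2))
  -- anisotropic first factor
  have hv : U.h₂ v v = 0 := by
    have h := hTI c0 c0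
    rw [hcav, U.tensor] at h
    exact (mul_eq_zero.1 h).resolve_left ha
  obtain ⟨a', h1, ha'⟩ := exists_orth_aniso U.hF U.H₁ U.nd₁ U.two_le ha
  have h1' := (U.H₁.eq_zero_symm U.hF).1 h1
  obtain ⟨ζ, hζ, hζ2⟩ := exists_norm_one_pow_ne U.hF two_pos (by omega : 2 ≤ q)
  have hζ0 : ζ ≠ 0 := fun h => by simp [h] at hζ
  obtain ⟨P1, hP1, hP1i, hP1d⟩ := U.pseudo_iso U.H₁ ha hζ
  obtain ⟨P2, hP2, hP2i, hP2d⟩ := U.pseudo_iso U.H₁ ha' (μ := ζ⁻¹) (by rw [inv_pow, hζ, inv_one])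
  set κ1 := (ζ - 1) / U.h₁ a a with hκ1
  set κ2 := (ζ⁻¹ - 1) / U.h₁ a' a' with hκ2
  set A0 := P1 * P2
  have hA0 : ∀ c, app A0 c = c + (κ1 * U.h₁ c a) • a + (κ2 * U.h₁ c a') • a' := fun c => by
    simp only [A0, map_mul, LinearEquiv.mul_apply, hP1, hP2, ← hκ1, ← hκ2, U.H₁.add_left,
      U.H₁.smul_left, h1, mul_zero, add_zero]
    module
  have hA0i : Iso U.h₁ A0 := fun x y => by
    rw [map_mul, LinearEquiv.mul_apply, LinearEquiv.mul_apply, hP1i, hP2i]
  have hh0 : U.D.kr A0 1 ∈ M := hHM (U.kr_mem_stab hA0i (U.iso_one _)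
    (mem_sl_iff.2 (by rw [Units.val_mul, Matrix.det_mul, hP1d, hP2d, mul_inv_cancel₀ hζ0]))
    (one_mem _))
  have happ : ∀ x, app (U.D.kr A0 1) x =
      x + κ1 • U.D.T a (U.lc a x) + κ2 • U.D.T a' (U.lc a' x) := fun x =>
    LinearMap.congr_fun (U.D.lin_ext (f := (app (U.D.kr A0 1)).toLinearMap)
      (g := LinearMap.id + κ1 • (U.D.T a ∘ₗ U.lc a) + κ2 • (U.D.T a' ∘ₗ U.lc a')) fun c w => by
        simp only [LinearEquiv.coe_coe, U.D.app_kr, hA0, LinearMap.add_apply, LinearMap.id_apply,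
          LinearMap.smul_apply, LinearMap.comp_apply, U.lc_T, map_add, map_smul, map_one,
          LinearEquiv.coe_one, id_eq, smul_smul]) x
  obtain ⟨β, l, hβb, hβi, hc⟩ := U.exists_conj_eq hHM hMK hS h2 h6 hs0 hk hfix hb00 hb0
    hA0i hh0 (hkrB A0) fun d => by
      obtain ⟨c, hcd⟩ := hlcv hv d
      -- the image is stable under the diagonal element
      refine ⟨d + (κ1 * c) • c0 + κ2 • (U.h₁ a' a' • (d - ((U.h₁ a a)⁻¹ * c) • c0)), ?_⟩
      have hdec := U.dec_orth h2 ha ha' h1 (app k (U.D.T d b0))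
      rw [hcd, map_smul, smul_smul] at hdec
      have e : U.h₁ a' a' • (app k (U.D.T d b0) - ((U.h₁ a a)⁻¹ * c) • U.D.T a v) =
          U.D.T a' (U.lc a' (app k (U.D.T d b0))) := by
        nth_rewrite 1 [hdec]
        rw [add_sub_cancel_left, smul_inv_smul₀ ha']
      simp only [happ, map_add, map_smul, map_sub, LinearMap.add_apply, LinearMap.smul_apply,
        LinearMap.sub_apply, hcav, hcd, smul_smul]
      rw [mul_smul κ2, e]
  have hl : l ^ (q + 1) = 1 := by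
    have hζa : app (U.D.kr A0 1) (U.D.T a v) = ζ • U.D.T a v := by
      rw [U.D.app_kr, map_one, hA0, h1', mul_zero, zero_smul, add_zero, hκ1, div_mul_cancel₀ _ ha,
        map_add, map_smul, LinearMap.add_apply, LinearMap.smul_apply]
      show U.D.T a v + (ζ - 1) • U.D.T a v = ζ • U.D.T a v
      module
    have h := hc c0 b0
    rw [hβb, hcav, hζa, ← hcav] at h
    have h' : ζ • c0 = l • app A0 c0 := U.D.T_inj_left hb00 ((app k).injective (by
      simp only [map_smul, LinearMap.smul_apply] at h ⊢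
      exact h))
    have g1 := congrArg (fun z => U.h₁ z a) h'
    have g2 := congrArg (fun z => U.h₁ z a') h'
    simp only [hA0, U.H₁.smul_left, U.H₁.add_left, h1, h1', mul_zero, add_zero] at g1 g2
    rw [hκ1] at g1
    rw [hκ2] at g2
    by_cases f1 : U.h₁ c0 a = 0
    · have f2 : U.h₁ c0 a' ≠ 0 := fun f2 => hc0 (by
        rw [expand_orth U.hF U.H₁ h2 ha ha' h1 c0, f1, f2]; simp)
      have : l * ζ⁻¹ = ζ := mul_right_cancel₀ f2 (by
        rw [mul_right_comm ((ζ⁻¹ - 1) / U.h₁ a' a'), div_mul_cancel₀ _ ha'] at g2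
        linear_combination -g2)
      rw [show l = ζ * ζ by rw [mul_inv_eq_iff_eq_mul₀ hζ0] at this; exact this, mul_pow, hζ, one_mul]
    · have : l * ζ = ζ := mul_right_cancel₀ f1 (by
        rw [mul_right_comm ((ζ - 1) / U.h₁ a a), div_mul_cancel₀ _ ha] at g1
        linear_combination -g1)
      rw [(mul_eq_right₀ hζ0).1 this, one_pow]
  refine finish (U.mem_tens_of_aniso_ruling hHM hMK hS h2 h6 ha hk'M fun w =>
    ⟨(U.h₁ a a)⁻¹ • U.lc a (app (k * U.R b0 σ * k⁻¹) (U.D.T a w)), ?_⟩)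
  have hw : app (U.D.kr A0 1) (U.D.T a w) = ζ • U.D.T a w := by
    rw [U.D.app_kr, map_one, hA0, h1', mul_zero, zero_smul, add_zero, hκ1, div_mul_cancel₀ _ ha,
      map_add, map_smul, LinearMap.add_apply, LinearMap.smul_apply]
    show U.D.T a w + (ζ - 1) • U.D.T a w = ζ • U.D.T a w
    module
  have h := U.conj_root_comm hHM hMK hS h2 h6 (k := k) hb0 hl hβb hβi hc σ (U.D.T a w)
  rw [hw, map_smul] at h
  set x := app (k * U.R b0 σ * k⁻¹) (U.D.T a w)
  rw [happ] at h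
  have hdec := U.dec_orth h2 ha ha' h1 x
  have e : (ζ⁻¹ - ζ) • ((U.h₁ a' a')⁻¹ • U.D.T a' (U.lc a' x)) = 0 := by
    simp only [hκ1, hκ2, div_eq_mul_inv, mul_smul] at h
    linear_combination (norm := module) h + (ζ - 1) • hdec
  rw [map_smul]
  have hne : ζ⁻¹ - ζ ≠ 0 := fun h0 => hζ2 (by
    rw [sub_eq_zero] at h0
    rw [pow_two]
    nth_rewrite 1 [← h0]
    exact inv_mul_cancel₀ hζ0)
  rw [(smul_eq_zero.1 e).resolve_left hne, add_zero] at hdec
  exact hdec

/-- An element of `M` mapping `A ⊗ s'` onto `A ⊗ s` with `s` anisotropic is a tensor. -/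
theorem mem_tens_of_aniso_line {s s' : W₂} (hs : U.h₂ s s ≠ 0) (hs' : s' ≠ 0) {g : GL (Fin n) F}
    (hg : g ∈ M) (hmap : ∀ c, ∃ d, app g (U.D.T c s') = U.D.T d s) : g ∈ U.tens := by
  have h3 := U.three_eq h2 h6
  obtain ⟨b, hbP, hb0, hb⟩ := exists_iso_in U.hF U.H₂ (W := perpF U.H₂ fun _ : Fin 1 => s') (by
    have h4 : n₂ ≤ finrank F (perpF U.H₂ fun _ : Fin 1 => s') + 1 :=
      le_finrank_perpF U.H₂ fun _ : Fin 1 => s'
    omega)
  have hs'b : U.h₂ s' b = 0 := (U.H₂.eq_zero_symm U.hF).1 ((mem_perpF U.H₂).1 hbP 0)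
  obtain ⟨σ, hσ0, hσ⟩ := exists_skew U.hF
  have hσ' : σ + σ ^ q = 0 := by rw [hσ, add_neg_cancel]
  let D : W₁ →ₗ[F] W₁ := (U.h₂ s s)⁻¹ • (U.cb s ∘ₗ (app g).toLinearMap ∘ₗ U.D.T.flip s')
  have hD : ∀ c, app g (U.D.T c s') = U.D.T (D c) s := fun c => by
    obtain ⟨d, hd⟩ := hmap c
    simp [D, hd, U.cb_T, smul_smul, hs]
  have hDi : Function.Injective D := fun c c' h => U.D.T_inj_left hs' ((app g).injective (by
    rw [hD, hD, h]))
  have ht : g * U.R b σ * g⁻¹ ∈ U.tens := by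
    refine U.mem_tens_of_fix hHM hMK hS h2 h6 hs
      (mul_mem (mul_mem hg (hHM (U.R_mem hb hσ'))) (inv_mem hg)) fun c => ?_
    obtain ⟨c', rfl⟩ := LinearMap.surjective_of_injective hDi c
    rw [map_mul, map_mul, LinearEquiv.mul_apply, LinearEquiv.mul_apply]
    conv_lhs => rw [← hD, app_inv_app, U.R_T, tu_apply U.H₂ hb, hs'b, mul_zero, zero_smul, add_zero]
    exact hD c'
  have h1 : g⁻¹ ∈ U.tens := U.mem_tens_of_root hHM hMK hS hb0 hb hσ' hσ0 (inv_mem hg)
    (by rwa [inv_inv])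
  simpa using inv_mem h1

/-- An element of `M` mapping a nonzero vector of an isotropic ruling to a pure tensor with
isotropic first factor is a tensor. -/
theorem mem_tens_of_pure {r0 r : W₁} (hr00 : r0 ≠ 0) (hr0 : U.h₁ r0 r0 = 0) (hr0' : r ≠ 0)
    (hr : U.h₁ r r = 0) {w0 u : W₂} (hu0 : u ≠ 0) {g : GL (Fin n) F} (hg : g ∈ M)
    (hmap : app g (U.D.T r0 w0) = U.D.T r u) : g ∈ U.tens := by
  have hq := U.three_le_q h2
  have h3 := U.three_eq h2 h6
  obtain ⟨r', hr', hr'r, hrr', -⟩ := exists_partner U.hF U.H₁ U.nd₁ hr0' hr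
  have hcb : ∀ w, ∃ ρ : F, U.cb u (app g (U.D.T r0 w)) = ρ • r := fun w => by
    have h : U.h₁ (U.cb u (app g (U.D.T r0 w))) r = 0 := by
      rw [← U.herm_right, ← hmap, U.iso_of_mem hMK hg, U.tensor, hr0, zero_mul]
    refine ⟨U.h₁ (U.cb u (app g (U.D.T r0 w))) r', ?_⟩
    conv_lhs => rw [expand_hyp U.H₁ h2 hr hr' hr'r hrr' (U.cb u _), h, zero_smul, add_zero]
  have hback : ∀ ρ : F, app g⁻¹ (U.D.T (ρ • r) u) = ρ • U.D.T r0 w0 := fun ρ => by
    rw [map_smul, LinearMap.smul_apply, map_smul, ← hmap, app_inv_app]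
  by_cases hu : U.h₂ u u = 0
  · obtain ⟨σ, hσ0, hσ⟩ := exists_skew U.hF
    have hσ' : σ + σ ^ q = 0 := by rw [hσ, add_neg_cancel]
    refine U.mem_tens_of_root hHM hMK hS hu0 hu hσ' hσ0 hg
      (U.mem_tens_of_ruling hHM hMK hS h2 h6 hr00 hr0
        (mul_mem (mul_mem (inv_mem hg) (hHM (U.R_mem hu hσ'))) hg) fun w => ?_)
    obtain ⟨ρ, hρ⟩ := hcb w
    refine ⟨w + (σ * ρ) • w0, ?_⟩
    rw [map_mul, map_mul, LinearEquiv.mul_apply, LinearEquiv.mul_apply, U.R_apply hu, map_add,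
      app_inv_app, hρ, map_smul, hback]
    simp only [map_add, map_smul, smul_smul]
  obtain ⟨μ, hμ, hμ3⟩ := exists_norm_one_pow_ne U.hF three_pos hq
  have hμ0 : μ ≠ 0 := fun h => by simp [h] at hμ
  obtain ⟨A, hA, hAd⟩ := U.exists_scalar_fst hμ0
  set ν := (μ ^ 3)⁻¹ with hν
  have hνn : ν ^ (q + 1) = 1 := by rw [hν, inv_pow, ← pow_mul, mul_comm, pow_mul, hμ, one_pow, inv_one]
  obtain ⟨P, hP, hPi, hPd⟩ := U.pseudo_iso U.H₂ hu hνn
  set κ := (ν - 1) / U.h₂ u u with hκ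
  have hκ0 : κ ≠ 0 := div_ne_zero (sub_ne_zero.2 fun h0 => hμ3 (inv_eq_one.1 h0)) hu
  set h := U.D.kr A P
  have hAi : Iso U.h₁ A := fun x y => by
    rw [hA, hA, U.H₁.smul_left, U.H₁.smul_right, ← mul_assoc, ← pow_succ', hμ, one_mul]
  have hhM : h ∈ M := hHM ⟨U.D.kr_mem _ _, U.mem_suGL_of_iso (U.kr_iso hAi hPi) (mem_sl_iff.2 (by
    rw [U.D.det_kr, hAd, hPd, h2, h3, hν]
    field_simp))⟩
  have hap : ∀ x, app h x = μ • x + (μ * κ) • U.D.T (U.cb u x) u := U.smul_cb_kr_pseudo hA hP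
  set e := g⁻¹ * h * g with he
  have heM : e ∈ M := mul_mem (mul_mem (inv_mem hg) hhM) hg
  have heap : ∀ x, app e x = μ • x + (μ * κ) • app g⁻¹ (U.D.T (U.cb u (app g x)) u) := fun x => by
    rw [he, map_mul, map_mul, LinearEquiv.mul_apply, LinearEquiv.mul_apply, hap, map_add,
      map_smul, map_smul, app_inv_app]
  obtain ⟨A', B', hAB⟩ := U.exists_tens (U.mem_tens_of_ruling hHM hMK hS h2 h6 hr00 hr0 heM
    fun w => by
      obtain ⟨ρ, hρ⟩ := hcb w
      refine ⟨μ • w + (μ * κ * ρ) • w0, ?_⟩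
      rw [heap, hρ, hback]
      simp only [map_add, map_smul, smul_smul])
  set W := (U.D.line u).map (app g⁻¹).toLinearMap
  have hW : ∀ x, app e x - μ • x ∈ W := fun x => by
    rw [heap, add_sub_cancel_left]
    exact Submodule.smul_mem _ _ ⟨_, U.D.mem_line _, rfl⟩
  have hWdim : finrank F W = n₁ :=
    (LinearEquiv.finrank_map_eq (app g⁻¹) _).trans (U.D.finrank_line hu0)
  obtain ⟨c, hc⟩ : ∃ c : F, ∀ a, app A' a = c • a := by
    refine scalar_of_iso_eigen U.hF U.H₁ U.nd₁ U.two_le (k := (app A').toLinearMap) fun a _ => ?_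
    by_contra! hne
    let L : W₂ →ₗ[F] W := LinearMap.codRestrict W
      (((app e).toLinearMap - μ • LinearMap.id) ∘ₗ U.D.T a) fun w => hW _
    have hL : Function.Injective L := (injective_iff_map_eq_zero L).2 fun w hw => by
      have h1 := congrArg Subtype.val hw
      simp only [L, LinearMap.codRestrict_apply, LinearMap.comp_apply, LinearMap.sub_apply,
        LinearMap.smul_apply, LinearEquiv.coe_coe, LinearMap.id_apply, hAB, ZeroMemClass.coe_zero,
        sub_eq_zero] at h1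
      by_contra hw0
      obtain ⟨α, hα⟩ := TData.exists_dual ((app B').map_ne_zero_iff.2 hw0)
      have h2 := congrArg (U.D.ct α) h1
      rw [map_smul, U.D.ct_T, U.D.ct_T, hα, one_smul, smul_smul] at h2
      exact hne _ h2
    have := LinearMap.finrank_le_finrank_of_injective hL
    rw [hWdim, finrank_fin_fun] at this
    omega
  obtain ⟨w1, hw1⟩ : ∃ w, c • app B' w - μ • w ≠ 0 := by
    by_contra! h0
    have hall : ∀ x, app e x = μ • x := fun x =>
      LinearMap.congr_fun (U.D.lin_ext (f := (app e).toLinearMap) (g := μ • LinearMap.id)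
        fun a w => by
          simp only [LinearEquiv.coe_coe, hAB, hc, LinearMap.smul_apply, LinearMap.id_apply,
            map_smul]
          rw [← map_smul, sub_eq_zero.1 (h0 w), map_smul]) x
    have h1 := hall (app g⁻¹ (U.D.T r u))
    rw [heap, add_eq_left, app_app_inv, U.cb_T, smul_eq_zero, (app g⁻¹).map_eq_zero_iff] at h1
    rcases U.D.T_eq_zero (h1.resolve_left (mul_ne_zero hμ0 hκ0)) with h' | h'
    · exact hr0' ((smul_eq_zero.1 h').resolve_left hu)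
    · exact hu0 h'
  refine U.mem_tens_of_aniso_line hHM hMK hS h2 h6 (s' := c • app B' w1 - μ • w1) hu hw1 hg fun a => ?_
  have h1 := hW (U.D.T a w1)
  rw [hAB, hc, map_smul, LinearMap.smul_apply] at h1
  obtain ⟨_, ⟨d, rfl⟩, hd⟩ := h1
  refine ⟨d, ?_⟩
  rw [map_sub (U.D.T a), map_smul, map_smul, ← hd]
  exact app_app_inv g _

/-- All elements of `M` are tensors for `2 ⊗ 3`. -/
theorem le_tens_six : M ≤ U.tens := by
  intro g hg
  have hq := U.three_le_q h2
  have h3 := U.three_eq h2 h6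
  obtain ⟨r0, -, hr00, hr0⟩ := exists_iso_in U.hF U.H₁ (W := (⊤ : Submodule F W₁))
    (by rw [finrank_top, finrank_fin_fun]; omega)
  obtain ⟨r0', -, -, hr0r0', -⟩ := exists_partner U.hF U.H₁ U.nd₁ hr00 hr0
  obtain ⟨w, hw⟩ : ∃ w : W₂, w ≠ 0 := by
    have : Nonempty (Fin n₂) := ⟨⟨0, by omega⟩⟩
    exact exists_ne 0
  set y := app g (U.D.T r0 w) with hy
  obtain ⟨m, hm, hmy⟩ : ∃ m, U.h₂ m m ≠ 0 ∧ U.cb m y ≠ 0 := by
    by_contra! hall
    have hy0 : y ≠ 0 := fun h0 => by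
      rw [hy, (app g).map_eq_zero_iff] at h0
      exact hw ((U.D.T_eq_zero h0).resolve_left hr00)
    refine hy0 (hermForm_nondeg U.hF n y fun x => ?_)
    have key : ∀ a v, hh y (U.D.T a v) = 0 := fun a v => by
      by_cases hv : U.h₂ v v = 0
      · by_cases hv0 : v = 0
        · simp [hv0, U.hermV.zero_right U.hF]
        obtain ⟨b', hb', hb'b, hbb', -⟩ := exists_partner U.hF U.H₂ U.nd₂ hv0 hv
        obtain ⟨z, hzv, -, hzz⟩ :=
          U.exists_norm_perp U.H₂ U.nd₂ hv hb' hb'b hbb' (by omega) (one_pow q : (1 : F) ^ q = 1)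
        have e1 : U.cb (v + z) y = 0 := hall _ (by
          rw [U.H₂.add_left, U.H₂.add_right U.hF, U.H₂.add_right U.hF, hv, hzv,
            (U.H₂.eq_zero_symm U.hF).1 hzv, hzz]
          simp)
        have e2 : U.cb z y = 0 := hall _ (by rw [hzz]; exact one_ne_zero)
        rw [show v = (v + z) - z by rw [add_sub_cancel_right], map_sub, U.hermV.sub_right U.hF,
          U.cb_eq_zero_iff.1 e1, U.cb_eq_zero_iff.1 e2, sub_zero]
      · exact U.cb_eq_zero_iff.1 (hall v hv) a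
    rw [← U.D.sum_T_row x, U.hermV.sum_right U.hF]
    exact Finset.sum_eq_zero fun i _ => key _ _
  -- a vector fixed up to a scalar
  obtain ⟨w0, hw0, hw00⟩ := Submodule.exists_mem_ne_zero_of_ne_bot
    (LinearMap.ker_ne_bot_of_finrank_lt (f := U.cb m ∘ₗ (app g).toLinearMap ∘ₗ U.D.T r0)
      (by rw [finrank_fin_fun, finrank_fin_fun]; omega))
  rw [LinearMap.mem_ker, LinearMap.comp_apply, LinearMap.comp_apply, LinearEquiv.coe_coe] at hw0
  obtain ⟨μ, hμ, hμ3⟩ := exists_norm_one_pow_ne U.hF three_pos hq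
  have hμ0 : μ ≠ 0 := fun h => by simp [h] at hμ
  obtain ⟨A, hA, hAd⟩ := U.exists_scalar_fst hμ0
  set ν := (μ ^ 3)⁻¹ with hν
  have hνn : ν ^ (q + 1) = 1 := by rw [hν, inv_pow, ← pow_mul, mul_comm, pow_mul, hμ, one_pow, inv_one]
  obtain ⟨P, hP, hPi, hPd⟩ := U.pseudo_iso U.H₂ hm hνn
  set κ := (ν - 1) / U.h₂ m m with hκ
  have hκ0 : κ ≠ 0 := div_ne_zero (sub_ne_zero.2 fun h0 => hμ3 (inv_eq_one.1 h0)) hm
  set h := U.D.kr A P
  have hAi : Iso U.h₁ A := fun x y => by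
    rw [hA, hA, U.H₁.smul_left, U.H₁.smul_right, ← mul_assoc, ← pow_succ', hμ, one_mul]
  have hhM : h ∈ M := hHM ⟨U.D.kr_mem _ _, U.mem_suGL_of_iso (U.kr_iso hAi hPi) (mem_sl_iff.2 (by
    rw [U.D.det_kr, hAd, hPd, h2, h3, hν]
    field_simp))⟩
  have hap : ∀ x, app h x = μ • x + (μ * κ) • U.D.T (U.cb m x) m := U.smul_cb_kr_pseudo hA hP
  have hkM : g⁻¹ * h * g ∈ M := mul_mem (mul_mem (inv_mem hg) hhM) hg
  have hk0 : app (g⁻¹ * h * g) (U.D.T r0 w0) = U.D.T r0 (μ • w0) := by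
    rw [map_mul, map_mul, LinearEquiv.mul_apply, LinearEquiv.mul_apply, hap, hw0, map_zero,
      LinearMap.zero_apply, smul_zero, add_zero, map_smul, app_inv_app, map_smul]
  obtain ⟨A', B', hAB⟩ := U.exists_tens (U.mem_tens_of_pure hHM hMK hS h2 h6 hr00 hr0 hr00 hr0
    (smul_ne_zero hμ0 hw00) hkM hk0)
  have hAr : U.h₁ (app A' r0) r0 = 0 := by
    have h1 := congrArg (U.lc r0) ((hAB r0 w0).symm.trans hk0)
    rw [U.lc_T, U.lc_T, hr0, zero_smul, smul_eq_zero] at h1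
    exact h1.resolve_right ((app B').map_ne_zero_iff.2 hw00)
  obtain ⟨r0'', hr0'', hr0''r0, hr0r0'', -⟩ := exists_partner U.hF U.H₁ U.nd₁ hr00 hr0
  set ρ := U.h₁ (app A' r0) r0''
  have hAr0 : app A' r0 = ρ • r0 := by
    conv_lhs => rw [expand_hyp U.H₁ h2 hr0 hr0'' hr0''r0 hr0r0'' (app A' r0), hAr, zero_smul, add_zero]
  have hmem : app g (U.D.T r0 (ρ • app B' w)) = μ • y + (μ * κ) • U.D.T (U.cb m y) m := by
    rw [map_smul (U.D.T r0), ← LinearMap.smul_apply, ← map_smul U.D.T, ← hAr0, ← hAB, map_mul,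
      map_mul, LinearEquiv.mul_apply, LinearEquiv.mul_apply, app_app_inv, ← hy, hap]
  have hpure : app g (U.D.T r0 ((μ * κ)⁻¹ • (ρ • app B' w - μ • w))) = U.D.T (U.cb m y) m := by
    rw [map_smul, map_sub, map_smul (U.D.T r0) μ, map_smul (app g), map_sub (app g), hmem,
      map_smul (app g) μ, ← hy, add_sub_cancel_left, inv_smul_smul₀ (mul_ne_zero hμ0 hκ0)]
  have hiso : U.h₁ (U.cb m y) (U.cb m y) = 0 := by
    have h1 := U.iso_of_mem hMK hg (U.D.T r0 ((μ * κ)⁻¹ • (ρ • app B' w - μ • w)))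
      (U.D.T r0 ((μ * κ)⁻¹ • (ρ • app B' w - μ • w)))
    rw [hpure, U.tensor, U.tensor, hr0, zero_mul] at h1
    exact (mul_eq_zero.1 h1).resolve_right hm
  exact U.mem_tens_of_pure hHM hMK hS h2 h6 hr00 hr0 hmy hiso
    (fun h0 => hm (by rw [h0, U.H₂.zero_left])) hg hpure

end UData

end Cfsg.Agent.C4
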