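import Cfsg.Agent.Lib.C4.Unitary.First
import Cfsg.Agent.Lib.C4.Unitary.Gen
import Cfsg.Agent.Lib.C4.Unitary.TwoThreeMain

/-!
# The stabiliser of a tensor product of two hermitian spaces is maximal in `SU_n(q)`
-/

set_option autoImplicit false
set_option linter.unusedSectionVars false

namespace Cfsg.Agent.C4

open Matrix Module Cfsg.Agent.Transvect Cfsg.Agent.Unitary Cfsg.Agent.C4.Herm
open scoped MatrixGroups

variable {F : Type*} [Field F] [Fintype F] {q n n₁ n₂ : ℕ}

/-- A hermitian form is given by its Gram matrix. -/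
lemma formOfGram_gram (hF : Fintype.card F = q ^ 2) {k : ℕ} {f : (Fin k → F) → (Fin k → F) → F}
    (H : Unitary.IsHerm q f) (x y : Fin k → F) :
    Cfsg.Geo.formOfGram (fun a : F => a ^ q) (Cfsg.Geo.gramMatrix f) x y = f x y := by
  conv_rhs => rw [pi_eq_sum_univ' x, pi_eq_sum_univ' y]
  rw [H.sum_left]
  simp only [H.sum_right hF, H.smul_left, H.smul_right, Cfsg.Geo.formOfGram, Cfsg.Geo.gramMatrix,
    Finset.mul_sum]
  refine Finset.sum_congr rfl fun a _ => Finset.sum_congr rfl fun b _ => ?_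
  ring

namespace UData

variable (U : UData F q n n₁ n₂)

include U

lemma not_suGL_le_tens : ¬ suGL n F q ≤ U.tens := by
  intro hle
  obtain ⟨b, -, hb0, hb⟩ := exists_iso_in U.hF U.H₂ (W := (⊤ : Submodule F (Fin n₂ → F)))
    (by rw [finrank_top, finrank_fin_fun]; have := U.three_le; omega)
  obtain ⟨r, -, hr0, hr⟩ := exists_iso_in U.hF U.H₁ (W := (⊤ : Submodule F (Fin n₁ → F)))
    (by rw [finrank_top, finrank_fin_fun]; exact U.two_le)
  obtain ⟨c, hc0, hc⟩ := exists_skew U.hF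
  have hv := U.herm_pure_self (r := r) (w := b) (Or.inr hb)
  have hg : U.tuV (U.D.T r b) c ∈ suGL n F q :=
    U.mem_suGL_of_iso (tu_iso U.hF U.hermV hv (by rw [hc, add_neg_cancel])) (tu_mem_sl U.hermV _ _)
  obtain ⟨A, B, hAB⟩ := U.exists_tens (hle hg)
  have hap : ∀ a w, U.D.T (app A a) (app B w) =
      U.D.T a w + (c * (U.h₁ a r * U.h₂ w b)) • U.D.T r b := fun a w => by
    rw [← hAB, UData0.tuV, tu_apply U.hermV hv, U.tensor]
  obtain ⟨b', -, h1, -, -⟩ := exists_partner U.hF U.H₂ U.nd₂ hb0 hb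
  obtain ⟨r', -, h2, -, -⟩ := exists_partner U.hF U.H₁ U.nd₁ hr0 hr
  obtain ⟨α, hα⟩ := TData.exists_dual ((app B).map_ne_zero_iff.2 hb0)
  obtain ⟨β, hβ⟩ := TData.exists_dual ((app A).map_ne_zero_iff.2 hr0)
  have hA : ∀ a, app A a = α b • a := fun a => by
    have := congrArg (U.D.ct α) (hap a b)
    rwa [hb, mul_zero, mul_zero, zero_smul, add_zero, U.D.ct_T, U.D.ct_T, hα, one_smul] at this
  have hs : ∀ w, U.D.T r (α b • app B w - w) = 0 := fun w => by
    rw [map_sub, map_smul, ← LinearMap.smul_apply, ← map_smul, ← hA, hap, hr, zero_mul, mul_zero,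
      zero_smul, add_zero, sub_self]
  have hBw : ∀ w, α b • app B w = w := fun w =>
    sub_eq_zero.1 ((U.D.T_eq_zero (hs w)).resolve_left hr0)
  have h3 := hap r' b'
  rw [hA, map_smul, LinearMap.smul_apply, ← map_smul, hBw, h1, h2, left_eq_add, mul_one, mul_one,
    smul_eq_zero] at h3
  rcases U.D.T_eq_zero (h3.resolve_left hc0) with h | h
  · exact hr0 h
  · exact hb0 h

theorem isMaximal : Cfsg.Geo.IsMaximalIn (suGL n F q) U.stab := by
  refine ⟨lt_of_le_of_ne inf_le_right fun h => U.not_suGL_le_tens (h ▸ inf_le_left),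
    fun M hHM hMK => ?_⟩
  by_cases hS : U.Scal M
  · refine Or.inl (le_antisymm (le_inf ?_ hMK) hHM)
    by_cases h7 : 7 ≤ n
    · haveI : Fact (7 ≤ n) := ⟨h7⟩
      exact U.le_tens hHM hMK hS
    · have h6 : n = 6 := by have := U.six; omega
      refine U.le_tens_six hHM hMK hS ?_ h6
      by_contra hne
      have h1 := U.card_eq
      have h2 := U.two_le
      have h3 := U.lt
      have h4 : 3 * 4 ≤ n₁ * n₂ := Nat.mul_le_mul (by omega) (by omega)
      omega
  · exact Or.inr (le_antisymm hMK (U.suGL_le_of_not_scal hHM hMK hS))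

end UData

/-- The maximality of a unitary tensor product stabiliser. -/
theorem unitary_tensor_maximal (hF : Fintype.card F = q ^ 2) (hn : 6 ≤ n) (h1 : 2 ≤ n₁)
    (h12 : n₁ < n₂) (hex : ¬ (n₁ = 2 ∧ q = 2)) (e : Fin n ≃ Fin n₁ × Fin n₂) (P : GL (Fin n) F)
    {f₁ : (Fin n₁ → F) → (Fin n₁ → F) → F} {f₂ : (Fin n₂ → F) → (Fin n₂ → F) → F}
    (hf₁ : Cfsg.Geo.IsUnitaryFormPow q f₁) (hf₂ : Cfsg.Geo.IsUnitaryFormPow q f₂)
    (hT : Cfsg.Geo.IsTensorFormStructure (fun x : F => x ^ q) (Cfsg.hermForm n F q) f₁ f₂ e P) :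
    Cfsg.Geo.IsMaximalIn (suGL n F q)
      (Cfsg.Geo.tensorProductSubgroup n₁ n₂ e P ⊓ suGL n F q) := by
  have H1 : Unitary.IsHerm q f₁ := ⟨hf₁.add_left, hf₁.smul_left, fun x y => hf₁.herm y x⟩
  have H2 : Unitary.IsHerm q f₂ := ⟨hf₂.add_left, hf₂.smul_left, fun x y => hf₂.herm y x⟩
  have nd : ∀ {k : ℕ} {f : (Fin k → F) → (Fin k → F) → F}, Cfsg.Geo.IsNondegenerateForm f →
      Unitary.Nondeg f := fun hnd x hx => by
    by_contra h
    obtain ⟨-, y, hy⟩ := hnd x h
    exact hy (hx y)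
  obtain ⟨c, hc, htp⟩ := form_tp (fun x y => mul_pow x y q) (formOfGram_gram hF H1)
    (formOfGram_gram hF H2) hT
  let D : TData (Fin n) F n₁ n₂ := ⟨e, P⟩
  have hcq : c ^ q = c := by
    have ne : ∀ {k : ℕ}, 0 < k → ∃ a : Fin k → F, a ≠ 0 := fun {k} hk => by
      have : Nonempty (Fin k) := ⟨⟨0, hk⟩⟩
      exact exists_ne 0
    obtain ⟨a, ha⟩ := ne (k := n₁) (by omega)
    obtain ⟨a', ha'⟩ := exists_pair hF H1 (nd hf₁.nondegenerate) ha
    obtain ⟨w, hw⟩ := ne (k := n₂) (by omega)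
    obtain ⟨w', hw'⟩ := exists_pair hF H2 (nd hf₂.nondegenerate) hw
    have e1 := (hermForm_isHerm hF n).conj_symm (D.T a w) (D.T a' w')
    change Cfsg.hermForm n F q (tp e P a' w') (tp e P a w) =
      Cfsg.hermForm n F q (tp e P a w) (tp e P a' w') ^ q at e1
    rw [htp, htp, ha', hw', H1.conj_symm a' a, ha', one_pow, H2.conj_symm w' w, hw', one_pow,
      mul_one, mul_one] at e1
    exact e1.symm
  let h₁ : (Fin n₁ → F) → (Fin n₁ → F) → F := fun a a' => c * f₁ a a'
  have Hc : Unitary.IsHerm q h₁ :=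
    ⟨fun x y z => by simp only [h₁, H1.add_left, mul_add],
      fun k x z => by simp only [h₁, H1.smul_left]; ring,
      fun x y => by simp only [h₁, mul_pow, hcq, ← H1.conj_symm]⟩
  let U : UData F q n n₁ n₂ :=
    { D := D
      h₁ := h₁
      h₂ := f₂
      hF := hF
      H₁ := Hc
      nd₁ := fun x hx => nd hf₁.nondegenerate x fun y => (mul_eq_zero.1 (hx y)).resolve_left hc
      H₂ := H2
      nd₂ := nd hf₂.nondegenerate
      tensor := fun a w a' w' => (htp a w a' w').trans (mul_assoc _ _ _).symm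
      two_le := h1
      three_le := by omega
      lt := h12
      six := hn
      exc := hex }
  exact U.isMaximal

end Cfsg.Agent.C4
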