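import Cfsg.Agent.Lib.C4.Unitary.Gen
import Cfsg.Agent.Lib.C4.Unitary.HermSmall
import Cfsg.Agent.Lib.C4.Unitary.First

/-!
# Operators on the second factor

The elements of `M` trivial on `r ⊗ W` with residual space in `r ⊗ W`, for isotropic `r`, are given by
scalar operators on `W` as soon as all long root operators of `M` are scalar.
-/

set_option autoImplicit false
set_option linter.unusedSectionVars false

namespace Cfsg.Agent.C4

open Matrix Module Cfsg.Agent.Transvect Cfsg.Agent.Unitary Cfsg.Agent.C4.Herm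
open scoped MatrixGroups

namespace UData

variable {F : Type*} [Field F] [Fintype F] {q n n₁ n₂ : ℕ} (U : UData F q n n₁ n₂)

local notation "hh" => Cfsg.hermForm n F q
local notation "W₂" => (Fin n₂ → F)

include U

lemma lc_kr_one (r : Fin n₁ → F) (B : GL (Fin n₂) F) (x : Fin n → F) :
    U.lc r (app (U.D.kr 1 B) x) = app B (U.lc r x) :=
  LinearMap.congr_fun (U.D.lin_ext (f := U.lc r ∘ₗ (app (U.D.kr 1 B)).toLinearMap)
    (g := (app B).toLinearMap ∘ₗ U.lc r) fun a w => by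
      simp only [LinearMap.comp_apply, LinearEquiv.coe_coe, U.D.app_kr, U.lc_T, map_smul, map_one,
        LinearEquiv.coe_one, id_eq]) x

/-- `x ↦ x + r ⊗ K (lc_r x)` lies in `M`. -/
def InK (M : Subgroup (GL (Fin n) F)) (r : Fin n₁ → F) (K : W₂ →ₗ[F] W₂) : Prop :=
  ∃ g ∈ M, ∀ x, app g x = x + U.D.T r (K (U.lc r x))

variable {M : Subgroup (GL (Fin n) F)} (hHM : U.stab ≤ M) (hMK : M ≤ suGL n F q) (hS : U.Scal M)
variable {r : Fin n₁ → F}

lemma inK_sub (hr : U.h₁ r r = 0) {K K' : W₂ →ₗ[F] W₂} (h : U.InK M r K) (h' : U.InK M r K') :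
    U.InK M r (K - K') := by
  obtain ⟨g, hg, he⟩ := h
  obtain ⟨g', hg', he'⟩ := h'
  have hl : ∀ (w : W₂) (x : Fin n → F), U.lc r (x + U.D.T r w) = U.lc r x := fun w x => by
    rw [map_add, U.lc_T, hr, zero_smul, add_zero]
  refine ⟨g * g'⁻¹, mul_mem hg (inv_mem hg'), fun x => ?_⟩
  rw [map_mul, LinearEquiv.mul_apply]
  obtain ⟨y, rfl⟩ := (app g').surjective x
  rw [app_inv_app, he, he', hl, LinearMap.sub_apply, map_sub]
  abel

include hHM

lemma inK_conj {K : W₂ →ₗ[F] W₂} (h : U.InK M r K) {B : GL (Fin n₂) F} (hB : Iso U.h₂ B)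
    (hB' : B ∈ Cfsg.Geo.specialLinear (Fin n₂) F) :
    U.InK M r ((app B).toLinearMap ∘ₗ K ∘ₗ (app B⁻¹).toLinearMap) := by
  obtain ⟨g, hg, he⟩ := h
  have hm : U.D.kr 1 B ∈ M := hHM (U.kr_mem_stab (U.iso_one _) hB (one_mem _) hB')
  refine ⟨U.D.kr 1 B * g * (U.D.kr 1 B)⁻¹, mul_mem (mul_mem hm hg) (inv_mem hm), fun x => ?_⟩
  rw [map_mul, map_mul, LinearEquiv.mul_apply, LinearEquiv.mul_apply]
  obtain ⟨y, rfl⟩ := (app (U.D.kr 1 B)).surjective x
  rw [app_inv_app, he, map_add, U.D.app_kr, U.lc_kr_one, LinearMap.comp_apply,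
    LinearMap.comp_apply, LinearEquiv.coe_coe, LinearEquiv.coe_coe, app_inv_app, map_one]
  rfl

/-- `x ↦ h(x,b) b`. -/
def opQ (b : W₂) : W₂ →ₗ[F] W₂ := (fl U.H₂ b).smulRight b

/-- `x ↦ h(x,b) w - h(x,w) b`. -/
def opV (b w : W₂) : W₂ →ₗ[F] W₂ := (fl U.H₂ b).smulRight w - (fl U.H₂ w).smulRight b

omit hHM

lemma opQ_apply (b x : W₂) : U.opQ b x = U.h₂ x b • b := rfl

lemma opV_apply (b w x : W₂) : U.opV b w x = U.h₂ x b • w - U.h₂ x w • b := rfl

lemma opV_add_smul (b w : W₂) (ρ : F) :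
    U.opV b (w + ρ • b) = U.opV b w + (ρ - ρ ^ q) • U.opQ b := LinearMap.ext fun x => by
  simp only [U.opV_apply, U.opQ_apply, LinearMap.add_apply, LinearMap.smul_apply,
    U.H₂.add_right U.hF, U.H₂.smul_right]
  module

lemma conj_opVQ {B : GL (Fin n₂) F} (hB : Iso U.h₂ B) (b w : W₂) (γ : F) :
    (app B).toLinearMap ∘ₗ (U.opV b w + γ • U.opQ b) ∘ₗ (app B⁻¹).toLinearMap =
      U.opV (app B b) (app B w) + γ • U.opQ (app B b) := by
  have hi : ∀ x z : W₂, U.h₂ (app B⁻¹ x) z = U.h₂ x (app B z) := fun x z => by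
    rw [← hB, app_app_inv]
  refine LinearMap.ext fun x => ?_
  simp only [LinearMap.comp_apply, LinearEquiv.coe_coe, LinearMap.add_apply, LinearMap.smul_apply,
    U.opV_apply, U.opQ_apply, map_add, map_sub, map_smul, hi]

include hHM

/-- A rank one operator from a rank two one. -/
lemma inK_opQ_of_opV (hr : U.h₁ r r = 0) {b : W₂} (hb0 : b ≠ 0) (hb : U.h₂ b b = 0) {w : W₂} {γ : F}
    (hwb : U.h₂ w b = 0) (hw : w ∉ F ∙ b) (hk : U.InK M r (U.opV b w + γ • U.opQ b)) :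
    ∃ c : F, c ≠ 0 ∧ U.InK M r (c • U.opQ b) := by
  obtain ⟨b', hb', hb'b, hbb', -⟩ := exists_partner U.hF U.H₂ U.nd₂ hb0 hb
  set w' := w - U.h₂ w b' • b with hw'
  obtain ⟨x, hx⟩ := exists_pair U.hF U.H₂ U.nd₂ (v := w') fun h => hw
    (Submodule.mem_span_singleton.2 ⟨_, (sub_eq_zero.1 h).symm⟩)
  set v0 := x - U.h₂ x b • b'
  have hv0b : U.h₂ v0 b = 0 := by rw [U.H₂.sub_left, U.H₂.smul_left, hb'b, mul_one, sub_self]
  have hv0w : U.h₂ w v0 = 1 := by
    rw [U.H₂.conj_symm v0 w, U.H₂.sub_left, U.H₂.smul_left, U.H₂.conj_symm w b']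
    rw [hw', U.H₂.sub_right U.hF, U.H₂.smul_right] at hx
    rw [show U.h₂ x w - U.h₂ x b * U.h₂ w b' ^ q = 1 by linear_combination hx, one_pow]
  obtain ⟨ν, hν⟩ := U.exists_nu
  set v := ν • v0
  have hvb : U.h₂ v b = 0 := by rw [U.H₂.smul_left, hv0b, mul_zero]
  have hbv := (U.H₂.eq_zero_symm U.hF).1 hvb
  obtain ⟨c, hc⟩ := exists_trace_eq U.hF (c := -(U.h₂ v v))
    (by rw [neg_pow_q U.hF, U.H₂.self_fixed])
  set E := eich U.H₂ b v c
  have hEb : app E b = b := by rw [eich_apply U.H₂ hb hbv hvb, hb, hbv]; simp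
  have hEw : app E w = w + (-(ν ^ q)) • b := by
    rw [eich_apply U.H₂ hb hbv hvb, hwb, U.H₂.smul_right, hv0w, mul_one]
    simp [sub_eq_add_neg]
  have hEi : Iso U.h₂ E := eich_iso U.hF U.H₂ hb hvb hc
  have h2 := U.inK_sub hr (U.inK_conj hHM hk hEi (eich_mem_sl U.H₂ b v c)) hk
  rw [U.conj_opVQ hEi, hEb, hEw, U.opV_add_smul] at h2
  refine ⟨-(ν ^ q) - (-(ν ^ q)) ^ q, fun h0 => hν ?_, ?_⟩
  · rw [neg_pow_q U.hF, pow_q_pow_q U.hF] at h0
    linear_combination h0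
  · convert h2 using 1
    module

include hMK hS

/-- The operators on the second factor are scalar. -/
theorem inK_scalar (h3 : 3 ≤ n₂) (hr0 : r ≠ 0) (hr : U.h₁ r r = 0) {K : W₂ →ₗ[F] W₂}
    (hK : U.InK M r K) : ∃ c : F, ∀ w, K w = c • w := by
  by_contra hns
  -- no rank one operators
  have noQ : ∀ b, b ≠ 0 → U.h₂ b b = 0 → ∀ c : F, U.InK M r (c • U.opQ b) → c = 0 := by
    rintro b hb0 hb c ⟨g, hg, he⟩
    have hgr : g = U.D.rt (c • U.opP r) b (fl U.H₂ b) := gl_ext fun x => by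
      rw [he, U.D.rt_apply (show (fl U.H₂ b) b = 0 from hb), LinearMap.smul_apply,
        LinearMap.smul_apply, U.opQ_apply, U.opP_apply, map_smul, map_smul, map_smul,
        LinearMap.smul_apply, map_smul, LinearMap.smul_apply,
        show U.D.ct (fl U.H₂ b) x = U.cb b x from rfl, ← U.herm_lc, U.herm_right]
    obtain ⟨d, hd⟩ := hS b hb0 hb (c • U.opP r) (hgr ▸ hg)
    obtain ⟨r', -, hr'r, hrr', -⟩ := exists_partner U.hF U.H₁ U.nd₁ hr0 hr
    have h1 := congrArg (fun a => U.h₁ a r) (hd r')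
    simp only [LinearMap.smul_apply, U.opP_apply, U.H₁.smul_left, hr, hr'r, mul_zero, mul_one] at h1
    have h2 := congrArg (fun a => U.h₁ a r') (hd r')
    simp only [LinearMap.smul_apply, U.opP_apply, U.H₁.smul_left, hr'r, hrr', ← h1, zero_mul,
      mul_one] at h2
    exact h2
  obtain ⟨r', hr', hr'r, hrr', -⟩ := exists_partner U.hF U.H₁ U.nd₁ hr0 hr
  have hskew : ∀ w w', U.h₂ (K w) w' + U.h₂ w (K w') = 0 := fun w w' => by
    obtain ⟨g, hg, he⟩ := hK
    have h3 := U.iso_of_mem hMK hg (U.D.T r' w) (U.D.T r' w')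
    simp only [he, U.lc_T, hr'r, one_smul, U.hermV.add_left, U.hermV.add_right U.hF, U.tensor, hr,
      hr', hrr', zero_mul, one_mul, add_zero, zero_add] at h3
    linear_combination h3
  obtain ⟨b, hb, hkb⟩ : ∃ b, U.h₂ b b = 0 ∧ ∀ d : F, K b ≠ d • b := by
    by_contra! h
    exact hns (scalar_of_iso_eigen U.hF U.H₂ U.nd₂ (by omega) h)
  have hb0 : b ≠ 0 := fun h => hkb 0 (by simp [h])
  set e := U.h₂ (K b) b with he
  obtain ⟨s, hs0, hsq⟩ := exists_skew U.hF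
  have hs : s + s ^ q = 0 := by rw [hsq, add_neg_cancel]
  have hD1 : U.InK M r (U.opV b (s • K b) + (s ^ 2 * e) • U.opQ b) := by
    have ht : Iso U.h₂ (tu U.H₂ b s) := tu_iso U.hF U.H₂ hb hs
    have h1 := U.inK_sub hr hK (U.inK_conj hHM hK ht (tu_mem_sl U.H₂ b s))
    convert h1 using 1
    refine LinearMap.ext fun x => ?_
    have hinv : app (tu U.H₂ b s)⁻¹ x = x + (-s * U.h₂ x b) • b := by
      apply (app (tu U.H₂ b s)).injective
      rw [app_app_inv, tu_apply U.H₂ hb, U.H₂.add_left, U.H₂.smul_left, hb]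
      module
    have hxr : U.h₂ x (K b) = -U.h₂ (K x) b := eq_neg_of_add_eq_zero_right (hskew x b)
    rw [LinearMap.sub_apply, LinearMap.comp_apply, LinearMap.comp_apply, LinearEquiv.coe_coe,
      LinearEquiv.coe_coe, hinv, tu_apply U.H₂ hb, LinearMap.add_apply, LinearMap.smul_apply,
      U.opV_apply, U.opQ_apply, map_add, map_smul, U.H₂.add_left, U.H₂.smul_left, U.H₂.smul_right,
      hxr, skew_pow hs, ← he]
    module
  have hwnot : s • K b ∉ F ∙ b := fun h => by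
    obtain ⟨d, hd⟩ := Submodule.mem_span_singleton.1 h
    exact hkb (s⁻¹ * d) (by rw [mul_smul, hd, inv_smul_smul₀ hs0])
  by_cases he0 : e = 0
  · obtain ⟨c, hc, hcQ⟩ := U.inK_opQ_of_opV hHM hr hb0 hb
      (by rw [U.H₂.smul_left, ← he, he0, mul_zero]) hwnot hD1
    exact hc (noQ b hb0 hb c hcQ)
  obtain ⟨v, hv, hvb'⟩ : ∃ v, U.h₂ v b = 0 ∧ v ∉ F ∙ b := by
    by_contra! h
    have hle : LinearMap.ker (fl U.H₂ b) ≤ F ∙ b := fun v hv => h v hv
    have h1 := LinearMap.finrank_range_add_finrank_ker (fl U.H₂ b)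
    have h2 := Submodule.finrank_mono hle
    have h4 := Submodule.finrank_le (LinearMap.range (fl U.H₂ b))
    rw [finrank_fin_fun] at h1
    rw [finrank_span_singleton hb0] at h2
    rw [finrank_self] at h4
    omega
  have hbv := (U.H₂.eq_zero_symm U.hF).1 hv
  obtain ⟨c, hc⟩ := exists_trace_eq U.hF (c := -(U.h₂ v v))
    (by rw [neg_pow_q U.hF, U.H₂.self_fixed])
  set E := eich U.H₂ b v c
  set w := s • K b with hw
  have hEb : app E b = b := by rw [eich_apply U.H₂ hb hbv hv, hb, hbv]; simp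
  have hwb : U.h₂ w b = s * e := by rw [hw, U.H₂.smul_left]
  have hEi : Iso U.h₂ E := eich_iso U.hF U.H₂ hb hv hc
  have hEw : app E w = w + (s * e) • v + (c * (s * e) - U.h₂ w v) • b := by
    rw [eich_apply U.H₂ hb hbv hv, hwb]; module
  have h1 := U.inK_sub hr (U.inK_conj hHM hD1 hEi (eich_mem_sl U.H₂ b v c)) hD1
  set ρ := c * (s * e) - U.h₂ w v
  obtain ⟨c', hc', hcQ⟩ := U.inK_opQ_of_opV hHM hr hb0 hb (w := (s * e) • v) (γ := ρ - ρ ^ q)
    (by rw [U.H₂.smul_left, hv, mul_zero])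
    (fun h => hvb' ((Submodule.smul_mem_iff _ (mul_ne_zero hs0 he0)).1 h)) (by
      convert h1 using 1
      rw [U.conj_opVQ hEi, hEb, hEw, U.opV_add_smul]
      refine LinearMap.ext fun x => ?_
      simp only [LinearMap.add_apply, LinearMap.sub_apply, LinearMap.smul_apply, U.opV_apply,
        U.opQ_apply, U.H₂.add_right U.hF]
      module)
  exact hc' (noQ b hb0 hb c' hcQ)

end UData

end Cfsg.Agent.C4
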