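import Cfsg.Agent.Lib.C4.Unitary.Base

/-!
# The stabiliser of an isotropic line of tensors

An element of `M` stabilising `A ⊗ b` normalises the radical of its stabiliser, whose elements in
`M` are tensors when all long root operators of `M` are scalar. Hence it is itself a tensor.
-/

set_option autoImplicit false
set_option linter.unusedSectionVars false

namespace Cfsg.Agent.C4

open Matrix Module Cfsg.Agent.Transvect Cfsg.Agent.Unitary Cfsg.Agent.C4.Herm
open scoped MatrixGroups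

/-- An injective endomorphism as an invertible matrix. -/
lemma exists_app_eq {F : Type*} [Field F] {m : ℕ} (f : (Fin m → F) →ₗ[F] (Fin m → F))
    (hf : Function.Injective f) : ∃ A : GL (Fin m) F, ∀ x, app A x = f x := by
  let e := LinearEquiv.ofInjectiveEndo f hf
  refine ⟨⟨LinearMap.toMatrix' e.toLinearMap, LinearMap.toMatrix' e.symm.toLinearMap, ?_, ?_⟩,
    fun x => ?_⟩
  · rw [← LinearMap.toMatrix'_comp, LinearEquiv.comp_symm, LinearMap.toMatrix'_id]
  · rw [← LinearMap.toMatrix'_comp, LinearEquiv.symm_comp, LinearMap.toMatrix'_id]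
  · rw [app_apply]
    exact LinearMap.toMatrix'_mulVec _ _

namespace UData

variable {F : Type*} [Field F] [Fintype F] {q n n₁ n₂ : ℕ} (U : UData F q n n₁ n₂)

local notation "hh" => Cfsg.hermForm n F q

include U

lemma eq_T_of_line {b b' : Fin n₂ → F} (h : U.h₂ b b' = 1) {x : Fin n → F}
    (hx : x ∈ U.D.line b) : x = U.D.T (U.cb b' x) b := by
  obtain ⟨a, rfl⟩ := hx
  show U.D.T a b = U.D.T (U.cb b' (U.D.T a b)) b
  rw [U.cb_T, h, one_smul]

lemma eichV_apply {b v : Fin n₂ → F} (hb : U.h₂ b b = 0) (hbv : U.h₂ b v = 0) (hvb : U.h₂ v b = 0)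
    (c : F) (x : Fin n → F) :
    app (U.D.kr 1 (eich U.H₂ b v c)) x =
      x + U.D.T (U.cb b x) v - U.D.T (U.cb v x) b + c • U.D.T (U.cb b x) b :=
  LinearMap.congr_fun (U.D.lin_ext (f := (app (U.D.kr 1 (eich U.H₂ b v c))).toLinearMap)
    (g := LinearMap.id + U.D.T.flip v ∘ₗ U.cb b - U.D.T.flip b ∘ₗ U.cb v
      + c • (U.D.T.flip b ∘ₗ U.cb b)) fun a w => by
    simp only [LinearEquiv.coe_coe, U.D.app_kr, eich_apply U.H₂ hb hbv hvb, LinearMap.add_apply,
      LinearMap.sub_apply, LinearMap.id_apply, LinearMap.smul_apply, LinearMap.comp_apply,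
      LinearMap.flip_apply, U.cb_T, map_add, map_sub, map_smul, map_one, LinearEquiv.coe_one,
      id_eq, smul_smul]) x

lemma eichV_mem {b v : Fin n₂ → F} (hb : U.h₂ b b = 0) (hvb : U.h₂ v b = 0) {c : F}
    (hc : c + c ^ q = -(U.h₂ v v)) : U.D.kr 1 (eich U.H₂ b v c) ∈ U.stab :=
  U.kr_mem_stab (U.iso_one _) (eich_iso U.hF U.H₂ hb hvb hc) (one_mem _)
    (eich_mem_sl U.H₂ b v c)

variable {M : Subgroup (GL (Fin n) F)} (hHM : U.stab ≤ M) (hMK : M ≤ suGL n F q)
  (hS : U.Scal M)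

include hMK

lemma iso_of_mem {g : GL (Fin n) F} (hg : g ∈ M) (x y : Fin n → F) :
    hh (app g x) (app g y) = hh x y := (hMK hg).1 x y

include hHM hS

/-- The elements of `M` in the radical of a line stabiliser are tensors. -/
lemma radical_scalar {b b' : Fin n₂ → F} (hb0 : b ≠ 0) (hb : U.h₂ b b = 0)
    (hb'b : U.h₂ b' b = 1) (hbb' : U.h₂ b b' = 1) {e : GL (Fin n) F} (he : e ∈ M)
    (he1 : ∀ a, app e (U.D.T a b) = U.D.T a b)
    (he2 : ∀ x, U.cb b x = 0 → app e x - x ∈ U.D.line b) {v : Fin n₂ → F} (hv : U.h₂ v b = 0) :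
    ∃ μ : F, ∀ a, U.cb b' (app e (U.D.T a v) - U.D.T a v) = μ • a := by
  -- `N = e - 1`
  set N : (Fin n → F) →ₗ[F] (Fin n → F) := (app e).toLinearMap - LinearMap.id with hN
  have Nap : ∀ x, N x = app e x - x := fun x => rfl
  have Nperp : ∀ x, U.cb b (N x) = 0 := fun x => U.cb_eq_zero_iff.2 fun a => by
    rw [Nap, U.hermV.sub_left]
    conv_lhs => arg 1; rw [← he1 a]
    rw [U.iso_of_mem hMK he, sub_self]
  have main : ∀ v : Fin n₂ → F, U.h₂ v b = 0 → ∃ μ : F, ∀ a a',
      U.h₁ (U.cb b' (N (U.D.T a v))) a' - U.h₁ a (U.cb b' (N (U.D.T a' v))) = μ * U.h₁ a a' := by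
    intro v hv
    have hbv := (U.H₂.eq_zero_symm U.hF).1 hv
    obtain ⟨c, hc⟩ := exists_trace_eq U.hF (c := -(U.h₂ v v))
      (by rw [neg_pow_q U.hF, U.H₂.self_fixed])
    set E := U.D.kr 1 (eich U.H₂ b v c)
    set k : (Fin n₁ → F) →ₗ[F] (Fin n₁ → F) :=
      U.cb b' ∘ₗ N ∘ₗ U.D.T.flip v + U.cb v ∘ₗ N ∘ₗ U.D.T.flip b' with hk
    have hline : ∀ x, U.cb b x = 0 → app e x = x + U.D.T (U.cb b' (N x)) b := fun x hx => by
      rw [← U.eq_T_of_line hbb' (show N x ∈ U.D.line b from he2 x hx), Nap, add_sub_cancel]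
    have key : U.D.rt k b (fl U.H₂ b) * (E * e) = e * E := by
      refine gl_ext fun x => ?_
      set p := U.cb b x with hp
      have c1 : U.cb b (app e x) = p := by
        rw [← sub_eq_zero, ← map_sub, ← Nap, Nperp]
      have c2 : U.cb v (N x) = U.cb v (N (U.D.T p b')) := by
        have h0 : U.cb b (x - U.D.T p b') = 0 := by rw [map_sub, U.cb_T, hb'b, one_smul, sub_self]
        have h1 := U.cb_line hbv (show N (x - U.D.T p b') ∈ U.D.line b from he2 _ h0)
        rwa [map_sub, map_sub, sub_eq_zero] at h1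
      have c3 : U.cb v (app e x) = U.cb v x + U.cb v (N x) := by
        rw [← map_add, Nap, add_sub_cancel]
      have c4 : U.cb b (app E (app e x)) = p := by
        rw [U.eichV_apply hb hbv hv, map_add, map_sub, map_add, map_smul, U.cb_T, U.cb_T, U.cb_T,
          hv, hb, c1]
        simp
      have c5 : app e (U.D.T p v) = U.D.T p v + U.D.T (U.cb b' (N (U.D.T p v))) b :=
        hline _ (by rw [U.cb_T, hv, zero_smul])
      rw [map_mul, map_mul, map_mul, LinearEquiv.mul_apply, LinearEquiv.mul_apply,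
        LinearEquiv.mul_apply, U.D.rt_apply hb, show U.D.ct (fl U.H₂ b) = U.cb b from rfl, c4,
        U.eichV_apply hb hbv hv, U.eichV_apply hb hbv hv, c1, c3, ← hp]
      simp only [map_add, map_sub, map_smul, he1, c5, hk, LinearMap.add_apply, LinearMap.comp_apply,
        LinearMap.flip_apply, c2]
      abel
    have hmem : U.D.rt k b (fl U.H₂ b) ∈ M := by
      have hEM : E ∈ M := hHM (U.eichV_mem hb hv hc)
      rw [eq_mul_inv_of_mul_eq key]
      exact mul_mem (mul_mem he hEM) (inv_mem (mul_mem hEM he))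
    obtain ⟨μ, hμ⟩ := hS b hb0 hb k hmem
    refine ⟨μ, fun a a' => ?_⟩
    have h1 : U.h₁ (U.cb v (N (U.D.T a b'))) a' = -U.h₁ a (U.cb b' (N (U.D.T a' v))) := by
      rw [← U.herm_right]
      have h2 := U.iso_of_mem hMK he (U.D.T a b') (U.D.T a' v)
      have h3 : app e (U.D.T a' v) = U.D.T a' v + U.D.T (U.cb b' (N (U.D.T a' v))) b :=
        hline _ (by rw [U.cb_T, hv, zero_smul])
      rw [show app e (U.D.T a b') = U.D.T a b' + N (U.D.T a b') by rw [Nap, add_sub_cancel], h3,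
        U.hermV.add_left, U.hermV.add_right U.hF, U.hermV.add_right U.hF, U.tensor, U.tensor, hb'b,
        U.herm_right (N _) _ b, Nperp, U.H₁.zero_left] at h2
      linear_combination h2
    have h4 := congrArg (fun z => U.h₁ z a') (hμ a)
    simp only [hk, LinearMap.add_apply, LinearMap.comp_apply, LinearMap.flip_apply, U.H₁.add_left,
      U.H₁.smul_left, h1] at h4
    linear_combination h4
  obtain ⟨ν, hν⟩ : ∃ ν : F, ν ^ q ≠ ν := by
    by_contra! hc
    obtain ⟨d, hd0, hd⟩ := exists_skew U.hF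
    obtain ⟨t, ht⟩ := exists_trace_eq U.hF (one_pow q : (1 : F) ^ q = 1)
    have h2 : (2 : F) * d = 0 := by
      have := hd.symm.trans (hc d)
      linear_combination -this
    rw [hc t] at ht
    rcases mul_eq_zero.1 h2 with h | h
    · exact one_ne_zero (ht.symm.trans (by linear_combination t * h))
    · exact hd0 h
  obtain ⟨μ, hμ⟩ := main v hv
  obtain ⟨μ', hμ'⟩ := main (ν • v) (by rw [U.H₂.smul_left, hv, mul_zero])
  have hne : ν - ν ^ q ≠ 0 := sub_ne_zero.2 (Ne.symm hν)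
  refine ⟨(μ' - ν ^ q * μ) / (ν - ν ^ q), fun a => ?_⟩
  refine sub_eq_zero.1 (U.nd₁ _ fun a' => ?_)
  have h1 := hμ a a'
  have h2 := hμ' a a'
  simp only [map_smul, U.H₁.smul_left, U.H₁.smul_right] at h2
  rw [U.H₁.sub_left, U.H₁.smul_left, show app e (U.D.T a v) - U.D.T a v = N (U.D.T a v) from rfl,
    div_mul_eq_mul_div, eq_comm, ← sub_eq_zero]
  field_simp
  linear_combination ν ^ q * h1 - h2

omit hS hHM hMK

/-- Only scalars commute, up to scalars, with all transvections of `A`. -/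
lemma scalar_of_comm (G : (Fin n₁ → F) →ₗ[F] (Fin n₁ → F))
    (hG : ∀ r, U.h₁ r r = 0 → ∀ s, s + s ^ q = 0 → s ≠ 0 →
      ∃ μ : F, ∀ x, G (app (tu U.H₁ r s) x) - app (tu U.H₁ r s) (G x) = μ • app (tu U.H₁ r s) x) :
    ∃ c : F, ∀ x, G x = c • x := by
  refine scalar_of_iso_eigen U.hF U.H₁ U.nd₁ U.two_le fun r hr => ?_
  by_cases hr0 : r = 0
  · exact ⟨0, by simp [hr0]⟩
  obtain ⟨r', hr', hr'r, -, -⟩ := exists_partner U.hF U.H₁ U.nd₁ hr0 hr
  have key : ∀ s, s + s ^ q = 0 → s ≠ 0 → ∃ μ : F, ∀ x, s • (U.h₁ x r • G r - U.h₁ (G x) r • r) =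
      μ • (x + (s * U.h₁ x r) • r) := fun s hs hs0 => by
    obtain ⟨μ, hμ⟩ := hG r hr s hs hs0
    refine ⟨μ, fun x => ?_⟩
    have := hμ x
    rw [tu_apply U.H₁ hr, tu_apply U.H₁ hr, map_add, map_smul] at this
    rw [← this]
    module
  set e := U.h₁ (G r) r with he
  have he0 : e = 0 ∧ ∀ s : F, s + s ^ q = 0 → s ≠ 0 → ∀ x, s • (U.h₁ x r • G r - U.h₁ (G x) r • r) = 0 := by
    have hμe : ∀ s μ : F, (∀ x, s • (U.h₁ x r • G r - U.h₁ (G x) r • r) =
        μ • (x + (s * U.h₁ x r) • r)) → μ = -(s * e) := fun s μ h => by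
      have h1 := h r
      rw [hr, zero_smul, zero_sub, mul_zero, zero_smul, add_zero, smul_neg, smul_smul, ← he,
        ← neg_smul] at h1
      exact (smul_left_injective F hr0 h1).symm
    obtain ⟨d, hd0, hd⟩ := exists_skew U.hF
    have hds : d + d ^ q = 0 := by rw [hd, add_neg_cancel]
    suffices h : e = 0 from ⟨h, fun s hs hs0 x => by
      obtain ⟨μ, hμ⟩ := key s hs hs0
      rw [hμ, hμe s μ hμ, h, mul_zero, neg_zero, zero_smul]⟩
    by_cases hq : 3 ≤ q
    · obtain ⟨s, hs, hs0, hsd⟩ : ∃ s, s + s ^ q = 0 ∧ s ≠ 0 ∧ s ≠ d := by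
        by_contra! hc
        classical
        have hsub : ∀ x : {x : F // x + x ^ q = 0}, x.1 ∈ ({0, d} : Finset F) := fun x => by
          by_cases h0 : x.1 = 0
          · simp [h0]
          · simp [hc _ x.2 h0]
        have := Nat.card_le_card_of_injective (fun x => (⟨x.1, hsub x⟩ : ({0, d} : Finset F)))
          fun a b h => Subtype.ext (congrArg (fun y : ({0, d} : Finset F) => y.1) h)
        rw [card_trace_zero U.hF, Nat.card_eq_fintype_card, Fintype.card_coe] at this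
        exact absurd (this.trans Finset.card_le_two) (by omega)
      obtain ⟨μ, hμ⟩ := key s hs hs0
      obtain ⟨μ', hμ'⟩ := key d hds hd0
      have h1 := hμ r'
      have h2 := hμ' r'
      rw [hμe s μ hμ, hr'r, one_smul, mul_one, neg_smul, mul_smul, ← smul_neg] at h1
      rw [hμe d μ' hμ', hr'r, one_smul, mul_one, neg_smul, mul_smul, ← smul_neg] at h2
      have h3 := ((IsUnit.mk0 _ hs0).smul_left_cancel.1 h1).symm.trans
        ((IsUnit.mk0 _ hd0).smul_left_cancel.1 h2)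
      have h4 : ((s - d) * e) • r = 0 := by
        have h5 := sub_eq_zero.2 h3
        rw [← neg_eq_zero, ← h5]
        module
      exact (mul_eq_zero.1 ((smul_eq_zero.1 h4).resolve_right hr0)).resolve_left (sub_ne_zero.2 hsd)
    · have hq2 : q = 2 := le_antisymm (by omega) (two_le_q U.hF)
      have h3 : 3 ≤ n₁ := by
        have := U.exc
        have := U.two_le
        omega
      obtain ⟨μ, hμ⟩ := key d hds hd0
      let φ : (Fin n₁ → F) →ₗ[F] (Fin 2 → F) := LinearMap.pi ![fl U.H₁ r, fl U.H₁ r ∘ₗ G]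
      obtain ⟨x, hx, hx0⟩ := Submodule.exists_mem_ne_zero_of_ne_bot
        (p := LinearMap.ker φ) (LinearMap.ker_ne_bot_of_finrank_lt (by simp; omega))
      have e1 : U.h₁ x r = 0 := congrFun (LinearMap.mem_ker.1 hx) 0
      have e2 : U.h₁ (G x) r = 0 := congrFun (LinearMap.mem_ker.1 hx) 1
      have h1 := hμ x
      rw [e1, e2, zero_smul, zero_smul, sub_zero, smul_zero, mul_zero, zero_smul, add_zero,
        eq_comm, smul_eq_zero] at h1
      have h2 := hμe d μ hμ
      rw [h1.resolve_right hx0, eq_comm, neg_eq_zero] at h2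
      exact (mul_eq_zero.1 h2).resolve_left hd0
  obtain ⟨d, hd0, hd⟩ := exists_skew U.hF
  have h1 := he0.2 d (by rw [hd, add_neg_cancel]) hd0 r'
  rw [hr'r, one_smul, smul_eq_zero, sub_eq_zero] at h1
  exact ⟨_, h1.resolve_left hd0⟩

include hHM hMK hS

/-- An element of `M` stabilising an isotropic line of tensors is a tensor. -/
theorem mem_tens_of_stab {b : Fin n₂ → F} (hb0 : b ≠ 0) (hb : U.h₂ b b = 0) {g : GL (Fin n) F}
    (hg : g ∈ M) (hP : ∀ a, app g (U.D.T a b) ∈ U.D.line b) : g ∈ U.tens := by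
  obtain ⟨b', hb'0, hb'b, hbb', -⟩ := exists_partner U.hF U.H₂ U.nd₂ hb0 hb
  set τ : (Fin n₁ → F) →ₗ[F] (Fin n₁ → F) := U.cb b' ∘ₗ (app g).toLinearMap ∘ₗ U.D.T.flip b
  have hτ : ∀ a, app g (U.D.T a b) = U.D.T (τ a) b := fun a => U.eq_T_of_line hbb' (hP a)
  have hτi : Function.Injective τ := fun a a' h => by
    refine U.D.T_inj_left hb0 ((app g).injective ?_)
    rw [hτ, hτ, h]
  have hτs : Function.Surjective τ := LinearMap.surjective_of_injective hτi
  have perp1 : ∀ x, U.cb b x = 0 → U.cb b (app g x) = 0 := fun x hx => U.cb_eq_zero_iff.2 fun a => by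
    obtain ⟨a0, rfl⟩ := hτs a
    rw [← hτ, U.iso_of_mem hMK hg]
    exact U.cb_eq_zero_iff.1 hx a0
  have perp2 : ∀ x, U.cb b x = 0 → U.cb b (app g⁻¹ x) = 0 := fun x hx =>
    U.cb_eq_zero_iff.2 fun a => by
      rw [← U.iso_of_mem hMK hg, app_app_inv, hτ]
      exact U.cb_eq_zero_iff.1 hx _
  have hinv : ∀ a, app g⁻¹ (U.D.T (τ a) b) = U.D.T a b := fun a => by rw [← hτ, app_inv_app]
  -- contractions of the images of tensors
  have key : ∀ v z, U.h₂ v b = 0 → U.h₂ z b = 0 →
      ∃ μ : F, ∀ a, U.cb v (app g (U.D.T a z)) = μ • τ a := by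
    intro v z hv hz
    obtain ⟨c, hc⟩ := exists_trace_eq U.hF (c := -(U.h₂ v v))
      (by rw [neg_pow_q U.hF, U.H₂.self_fixed])
    have hbv := (U.H₂.eq_zero_symm U.hF).1 hv
    set E := U.D.kr 1 (eich U.H₂ b v c)
    have hE : ∀ x, U.cb b x = 0 → app E x = x - U.D.T (U.cb v x) b := fun x hx => by
      rw [U.eichV_apply hb hbv hv, hx]; simp
    have hEfix : ∀ a, app E (U.D.T a b) = U.D.T a b := fun a => by
      rw [hE _ (by rw [U.cb_T, hb, zero_smul]), U.cb_T, hbv, zero_smul]; simp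
    have he : g⁻¹ * E * g ∈ M := mul_mem (mul_mem (inv_mem hg) (hHM (U.eichV_mem hb hv hc))) hg
    have hap : ∀ x, app (g⁻¹ * E * g) x = app g⁻¹ (app E (app g x)) := fun x => by
      rw [map_mul, map_mul]; rfl
    have he2 : ∀ x, U.cb b x = 0 → app (g⁻¹ * E * g) x - x =
        -app g⁻¹ (U.D.T (U.cb v (app g x)) b) := fun x hx => by
      rw [hap, hE _ (perp1 x hx), map_sub, app_inv_app, sub_sub_cancel_left]
    obtain ⟨μ, hμ⟩ := U.radical_scalar hHM hMK hS hb0 hb hb'b hbb' he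
      (fun a => by rw [hap, hτ, hEfix, hinv]) (fun x hx => by
        rw [he2 x hx]
        obtain ⟨a0, ha0⟩ := hτs (U.cb v (app g x))
        rw [← ha0, hinv]
        exact neg_mem (U.D.mem_line _)) hz
    refine ⟨-μ, fun a => ?_⟩
    have h1 := hμ a
    obtain ⟨a0, ha0⟩ := hτs (U.cb v (app g (U.D.T a z)))
    rw [he2 _ (by rw [U.cb_T, hz, zero_smul]), ← ha0, hinv, map_neg, U.cb_T, hbb', one_smul,
      neg_eq_iff_eq_neg] at h1
    rw [← ha0, h1, map_neg, map_smul, neg_smul]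
  -- the second factor
  obtain ⟨a0, ha00⟩ : ∃ a : Fin n₁ → F, a ≠ 0 := by
    have : Nonempty (Fin n₁) := ⟨⟨0, by have := U.two_le; omega⟩⟩
    exact exists_ne 0
  obtain ⟨a1, ha1⟩ : ∃ a1, U.h₁ (τ a0) a1 = 1 := by
    obtain ⟨x, hx⟩ := exists_pair U.hF U.H₁ U.nd₁ (v := τ a0) fun h => ha00 (hτi (h.trans τ.map_zero.symm))
    exact ⟨x, by rw [U.H₁.conj_symm x, hx, one_pow]⟩
  set σ : (Fin n₂ → F) →ₗ[F] (Fin n₂ → F) := U.lc a1 ∘ₗ (app g).toLinearMap ∘ₗ U.D.T a0 with hσ
  have hσpair : ∀ z w, U.h₂ (σ z) w = U.h₁ (U.cb w (app g (U.D.T a0 z))) a1 := fun z w => by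
    rw [← U.herm_right, U.herm_lc]; rfl
  have hσb : σ b = b := by
    show U.lc a1 (app g (U.D.T a0 b)) = b
    rw [hτ, U.lc_T, ha1, one_smul]
  have hσperp : ∀ z, U.h₂ z b = 0 → U.h₂ (σ z) b = 0 := fun z hz => by
    rw [hσpair, perp1 _ (by rw [U.cb_T, hz, zero_smul]), U.H₁.zero_left]
  have approx : ∀ z, U.h₂ z b = 0 → ∀ a,
      app g (U.D.T a z) - U.D.T (τ a) (σ z) ∈ U.D.line b := by
    intro z hz a
    refine U.mem_line_of_cb fun v hv => ?_
    obtain ⟨μ, hμ⟩ := key v z ((U.H₂.eq_zero_symm U.hF).1 hv) hz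
    rw [map_sub, U.cb_T, hμ, hσpair, hμ, U.H₁.smul_left, ha1, mul_one, sub_self]
  -- similitude factor
  obtain ⟨z, hz, hzz⟩ : ∃ z, U.h₂ z b = 0 ∧ U.h₂ z z ≠ 0 := by
    by_contra! hc
    let P := perpF U.H₂ ![b, b']
    have h2 : n₂ ≤ finrank F P + 2 := le_finrank_perpF U.H₂ ![b, b']
    obtain ⟨y, hy, hy0⟩ := Submodule.exists_mem_ne_zero_of_ne_bot (p := P) (by
      intro h
      rw [h, finrank_bot] at h2
      have := U.three_le
      omega)
    obtain ⟨x, hx⟩ := exists_pair U.hF U.H₂ U.nd₂ hy0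
    have hyb : U.h₂ y b = 0 := (mem_perpF U.H₂).1 hy 0
    have hyb' : U.h₂ y b' = 0 := (mem_perpF U.H₂).1 hy 1
    set x1 := x - U.h₂ x b • b' with hx1
    have e1 : U.h₂ x1 b = 0 := by rw [hx1, U.H₂.sub_left, U.H₂.smul_left, hb'b, mul_one, sub_self]
    have e2 : U.h₂ x1 y = 1 := by
      rw [hx1, U.H₂.sub_left, U.H₂.smul_left, (U.H₂.eq_zero_symm U.hF).1 hyb', mul_zero, sub_zero, hx]
    let Q := perpF U.H₂ fun _ : Fin 1 => b
    have := (U.H₂.comap Q.subtype).eq_zero_of_isotropic U.hF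
      (fun w => hc _ ((mem_perpF U.H₂).1 w.2 0))
      ⟨x1, (mem_perpF U.H₂).2 fun _ => e1⟩ ⟨y, (mem_perpF U.H₂).2 fun _ => hyb⟩
    simp only [Submodule.subtype_apply] at this
    rw [e2] at this
    exact one_ne_zero this
  have hsim : ∀ z z', U.h₂ z b = 0 → U.h₂ z' b = 0 → ∀ a a',
      U.h₁ (τ a) (τ a') * U.h₂ (σ z) (σ z') = U.h₁ a a' * U.h₂ z z' := by
    intro z z' hz hz' a a'
    obtain ⟨d, hd⟩ := approx z hz a
    obtain ⟨d', hd'⟩ := approx z' hz' a'
    have e := U.iso_of_mem hMK hg (U.D.T a z) (U.D.T a' z')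
    rw [U.tensor, show app g (U.D.T a z) = U.D.T (τ a) (σ z) + U.D.T d b by
        rw [show U.D.T d b = _ from hd, add_sub_cancel],
      show app g (U.D.T a' z') = U.D.T (τ a') (σ z') + U.D.T d' b by
        rw [show U.D.T d' b = _ from hd', add_sub_cancel],
      U.hermV.add_left, U.hermV.add_right U.hF, U.hermV.add_right U.hF, U.tensor, U.tensor,
      U.tensor, U.tensor, hσperp z hz, hb, (U.H₂.eq_zero_symm U.hF).1 (hσperp z' hz')] at e
    linear_combination e
  have hσz : U.h₂ (σ z) (σ z) ≠ 0 := fun h => by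
    obtain ⟨a', ha'⟩ := exists_pair U.hF U.H₁ U.nd₁ ha00
    have := hsim z z hz hz a' a0
    rw [h, mul_zero, ha', one_mul] at this
    exact hzz this.symm
  set κ := U.h₂ z z / U.h₂ (σ z) (σ z) with hκ
  have hκ0 : κ ≠ 0 := div_ne_zero hzz hσz
  have hκq : κ ^ q = κ := by rw [hκ, div_pow, U.H₂.self_fixed, U.H₂.self_fixed]
  have hτsim : ∀ a a', U.h₁ (τ a) (τ a') = κ * U.h₁ a a' := fun a a' => by
    rw [hκ, div_mul_eq_mul_div, eq_div_iff hσz]
    linear_combination hsim z z hz hz a a'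
  -- the images of tensors are tensors
  have exact' : ∀ z, U.h₂ z b = 0 → ∀ a, app g (U.D.T a z) = U.D.T (τ a) (σ z) := by
    intro z hz a
    set φ : (Fin n₁ → F) →ₗ[F] (Fin n₁ → F) :=
      U.cb b' ∘ₗ ((app g).toLinearMap ∘ₗ U.D.T.flip z - U.D.T.flip (σ z) ∘ₗ τ) with hφdef
    have hφ : ∀ a, app g (U.D.T a z) = U.D.T (τ a) (σ z) + U.D.T (φ a) b := fun a => by
      show _ = _ + U.D.T (U.cb b' (app g (U.D.T a z) - U.D.T (τ a) (σ z))) b
      rw [← U.eq_T_of_line hbb' (approx z hz a), add_sub_cancel]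
    let τe := LinearEquiv.ofBijective τ ⟨hτi, hτs⟩
    set G : (Fin n₁ → F) →ₗ[F] (Fin n₁ → F) := τe.symm.toLinearMap ∘ₗ φ with hG
    have hτG : ∀ a, τ (G a) = φ a := fun a => τe.apply_symm_apply (φ a)
    obtain ⟨γ, hγ⟩ := U.scalar_of_comm G fun r hr s hs hs0 => by
      set t := tu U.H₁ r s
      have hτr : U.h₁ (τ r) (τ r) = 0 := by rw [hτsim, hr, mul_zero]
      have hs' : s / κ + (s / κ) ^ q = 0 := by rw [div_pow, hκq, skew_pow hs]; ring
      set t' := tu U.H₁ (τ r) (s / κ)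
      have ht' : ∀ a, app t' (τ a) = τ (app t a) := fun a => by
        rw [tu_apply U.H₁ hτr, tu_apply U.H₁ hr, map_add, map_smul, hτsim]
        congr 2
        field_simp
      set L1 := U.Lt r s
      set L2 := U.Lt (τ r) (s / κ)
      have hLt : ∀ a w, app L1 (U.D.T a w) = U.D.T (app t a) w := fun a w => by
        simp only [L1, UData0.Lt, U.D.app_kr, map_one]; rfl
      have hLt' : ∀ a w, app L2 (U.D.T a w) = U.D.T (app t' a) w := fun a w => by
        simp only [L2, UData0.Lt, U.D.app_kr, map_one]; rfl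
      set e := g * L1 * g⁻¹ * L2⁻¹ with he
      have heM : e ∈ M := mul_mem (mul_mem (mul_mem hg (hHM (U.Lt_mem hr hs))) (inv_mem hg))
        (inv_mem (hHM (U.Lt_mem hτr hs')))
      have heap : ∀ x, app e (app L2 x) = app g (app L1 (app g⁻¹ x)) := fun x => by
        rw [he, map_mul, map_mul, map_mul, LinearEquiv.mul_apply, LinearEquiv.mul_apply,
          LinearEquiv.mul_apply, app_inv_app]
      have hinv' : ∀ a w, app L2⁻¹ (U.D.T (app t' a) w) = U.D.T a w := fun a w => by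
        rw [← hLt', app_inv_app]
      -- on tensors orthogonal to the line
      have hez : ∀ y, U.h₂ y b = 0 → ∀ a, app e (U.D.T (τ (app t a)) (σ y)) -
          U.D.T (τ (app t a)) (σ y) ∈ U.D.line b := by
        intro y hy a
        obtain ⟨d, hd⟩ := approx y hy a
        obtain ⟨d0, rfl⟩ := hτs d
        obtain ⟨d1, hd1⟩ := approx y hy (app t a)
        have h1 : app g⁻¹ (U.D.T (τ a) (σ y)) = U.D.T a y - U.D.T d0 b := by
          rw [show U.D.T (τ a) (σ y) = app g (U.D.T a y) - U.D.T (τ d0) b by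
            rw [show U.D.T (τ d0) b = _ from hd, sub_sub_cancel], map_sub, app_inv_app, hinv]
        rw [← ht', ← hLt', heap, hLt', ht', h1, map_sub, hLt, hLt, map_sub, hτ,
          show app g (U.D.T (app t a) y) = U.D.T (τ (app t a)) (σ y) + U.D.T d1 b by
            rw [show U.D.T d1 b = _ from hd1, add_sub_cancel]]
        rw [show ∀ A B C : Fin n → F, A + B - C - A = B - C from fun A B C => by abel]
        exact sub_mem (U.D.mem_line _) (U.D.mem_line _)
      have hefix : ∀ a, app e (U.D.T a b) = U.D.T a b := fun a => by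
        obtain ⟨a0, rfl⟩ := hτs a
        obtain ⟨a1, rfl⟩ := (app t).surjective a0
        conv_lhs => rw [← ht', ← hLt', heap, hinv, hLt, hτ]
      have he2 : ∀ x, U.cb b x = 0 → app e x - x ∈ U.D.line b := by
        let N : (Fin n → F) →ₗ[F] (Fin n → F) := (app e).toLinearMap - LinearMap.id
        have hN : ∀ a y, U.h₂ y b = 0 → N (U.D.T a y) ∈ U.D.line b := by
          intro a y hy
          obtain ⟨a', rfl⟩ := hτs a
          obtain ⟨a'', rfl⟩ := (app t).surjective a'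
          have h1 : U.h₂ (y - U.h₂ y b • b') b = 0 := by
            rw [U.H₂.sub_left, U.H₂.smul_left, hb'b, mul_one, sub_self]
          -- every vector orthogonal to `b` is an image
          let Q := perpF U.H₂ fun _ : Fin 1 => b
          let f : Q →ₗ[F] Q := σ.restrict fun z hz =>
            (mem_perpF U.H₂).2 fun _ => hσperp z ((mem_perpF U.H₂).1 hz 0)
          have hf : Function.Injective f := by
            rw [injective_iff_map_eq_zero]
            intro x hx
            have hxb : U.h₂ (x : Fin n₂ → F) b = 0 := (mem_perpF U.H₂).1 x.2 0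
            have hσx : σ (x : Fin n₂ → F) = 0 := congrArg Subtype.val hx
            obtain ⟨d, hd⟩ := approx x hxb a0
            obtain ⟨d2, rfl⟩ := hτs d
            have h2 : app g (U.D.T a0 (x : Fin n₂ → F)) = app g (U.D.T d2 b) := by
              rw [hσx, map_zero, sub_zero] at hd
              rw [hτ]; exact hd.symm
            have h3 := (app g).injective h2
            obtain ⟨α, hα⟩ := exists_pair U.hF U.H₁ U.nd₁ ha00
            have h4 := congrArg (U.lc α) h3
            rw [U.lc_T, U.lc_T, U.H₁.conj_symm α a0, hα, one_pow, one_smul] at h4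
            have hk : U.h₁ d2 α • σ b = 0 := by rw [← map_smul, ← h4, hσx]
            rw [hσb, smul_eq_zero] at hk
            exact Subtype.ext (by rw [h4, hk.resolve_right hb0, zero_smul]; rfl)
          obtain ⟨z', hz'⟩ := (LinearMap.surjective_of_injective hf)
            ⟨y, (mem_perpF U.H₂).2 fun _ => hy⟩
          have := hez z' ((mem_perpF U.H₂).1 z'.2 0) a''
          rwa [show σ (z' : Fin n₂ → F) = y from congrArg Subtype.val hz'] at this
        intro x hx
        have hrow : ∀ i, U.h₂ (U.D.row x i) b = 0 := fun i => congrFun hx i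
        show N x ∈ U.D.line b
        rw [← U.D.sum_T_row x, map_sum]
        exact Submodule.sum_mem _ fun i _ => hN _ _ (hrow i)
      obtain ⟨μ, hμ⟩ := U.radical_scalar hHM hMK hS hb0 hb hb'b hbb' heM hefix he2 (hσperp z hz)
      refine ⟨μ, fun x => hτi ?_⟩
      have h1 := hμ (τ (app t x))
      rw [show app e (U.D.T (τ (app t x)) (σ z)) = U.D.T (τ (app t x)) (σ z) +
          U.D.T (φ (app t x) - app t' (φ x)) b by
        obtain ⟨d1, hd1⟩ : ∃ d1, τ d1 = φ x := hτs _
        rw [← ht', ← hLt', heap, hLt', ht',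
          show U.D.T (τ x) (σ z) = app g (U.D.T x z) - app g (U.D.T d1 b) by
            rw [hφ, hτ, hd1, add_sub_cancel_right],
          ← map_sub, app_inv_app, map_sub, hLt, hLt, map_sub, hφ, hτ, ← hd1, ← ht', map_sub,
          LinearMap.sub_apply, ht' d1]
        abel, add_sub_cancel_left, U.cb_T, hbb', one_smul] at h1
      rw [map_sub, map_smul, ← ht', hτG, hτG, ← h1]
    have h1 := congrArg (U.lc a1) (hφ a0)
    rw [map_add, U.lc_T, U.lc_T, ha1, one_smul, show U.lc a1 (app g (U.D.T a0 z)) = σ z from rfl,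
      left_eq_add, smul_eq_zero, ← hτG, hγ, map_smul, U.H₁.smul_left, ha1, mul_one] at h1
    rw [hφ, ← hτG, hγ, h1.resolve_right hb0, zero_smul, map_zero, map_zero, LinearMap.zero_apply,
      add_zero]
  -- `σ` is a similitude
  have hσfull : ∀ x z, U.h₂ z b = 0 → κ * U.h₂ (σ x) (σ z) = U.h₂ x z := by
    intro x z hz
    obtain ⟨a2, ha2⟩ := hτs a1
    have h1 := U.iso_of_mem hMK hg (U.D.T a0 x) (U.D.T a2 z)
    rw [exact' z hz, ha2, U.herm_right, U.tensor, ← hσpair] at h1
    have h2 : κ * U.h₁ a0 a2 = 1 := by rw [← hτsim, ha2, ha1]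
    rw [h1]
    linear_combination U.h₂ x z * h2
  have hperp_eq : ∀ w, U.h₂ w b = 0 → ∃ z, U.h₂ z b = 0 ∧ σ z = w := by
    intro w hw
    let Q := perpF U.H₂ fun _ : Fin 1 => b
    let f : Q →ₗ[F] Q := σ.restrict fun z hz =>
      (mem_perpF U.H₂).2 fun _ => hσperp z ((mem_perpF U.H₂).1 hz 0)
    have hf : Function.Injective f := fun x y h => by
      refine Subtype.ext (sub_eq_zero.1 ?_)
      have hxy : U.h₂ ((x : Fin n₂ → F) - y) b = 0 := (mem_perpF U.H₂).1 (Q.sub_mem x.2 y.2) 0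
      refine ((U.D.T_eq_zero (a := a0) ((app g).map_eq_zero_iff.1 ?_)).resolve_left ha00)
      rw [exact' _ hxy, map_sub, show σ x = σ y from congrArg Subtype.val h, sub_self]
      simp
    obtain ⟨z, hz⟩ := (LinearMap.surjective_of_injective hf) ⟨w, (mem_perpF U.H₂).2 fun _ => hw⟩
    exact ⟨z, (mem_perpF U.H₂).1 z.2 0, congrArg Subtype.val hz⟩
  have hσi : Function.Injective σ := by
    rw [injective_iff_map_eq_zero]
    intro x hx
    have h0 : ∀ z, U.h₂ z b = 0 → U.h₂ x z = 0 := fun z hz => by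
      rw [← hσfull x z hz, hx, U.H₂.zero_left, mul_zero]
    set x' := x - U.h₂ x b' • b with hx'
    have hxb : U.h₂ x b = 0 := h0 b hb
    by_cases hx0 : x' = 0
    · have h := congrArg σ (sub_eq_zero.1 hx0)
      rw [hx, map_smul, hσb, eq_comm, smul_eq_zero] at h
      rw [sub_eq_zero.1 hx0, h.resolve_right hb0, zero_smul]
    · obtain ⟨y, hy⟩ := exists_pair U.hF U.H₂ U.nd₂ hx0
      exfalso
      set y1 := y - U.h₂ y b • b' with hy1
      have e1 : U.h₂ y1 b = 0 := by rw [hy1, U.H₂.sub_left, U.H₂.smul_left, hb'b, mul_one, sub_self]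
      have e2 := (U.H₂.eq_zero_symm U.hF).1 (h0 y1 e1)
      have hb'x' : U.h₂ b' x' = 0 := by
        rw [hx', U.H₂.sub_right U.hF, U.H₂.smul_right, hb'b, mul_one, U.H₂.conj_symm x b', sub_self]
      have e3 : U.h₂ y1 x' = 1 := by
        rw [hy1, U.H₂.sub_left, U.H₂.smul_left, hy, hb'x', mul_zero, sub_zero]
      rw [hx', U.H₂.sub_right U.hF, U.H₂.smul_right, e1, e2, mul_zero, sub_zero] at e3
      exact zero_ne_one e3
  -- the long part
  set E : (Fin n₁ → F) →ₗ[F] (Fin n₁ → F) :=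
    U.cb b' ∘ₗ ((app g).toLinearMap ∘ₗ U.D.T.flip b' - U.D.T.flip (σ b') ∘ₗ τ)
  have hEap : ∀ a, app g (U.D.T a b') = U.D.T (τ a) (σ b') + U.D.T (E a) b := by
    intro a
    show _ = _ + U.D.T (U.cb b' (app g (U.D.T a b') - U.D.T (τ a) (σ b'))) b
    rw [← U.eq_T_of_line hbb' (x := app g (U.D.T a b') - U.D.T (τ a) (σ b')) ?_, add_sub_cancel]
    refine U.mem_line_of_cb fun w hw => ?_
    obtain ⟨z, hz, rfl⟩ := hperp_eq w ((U.H₂.eq_zero_symm U.hF).1 hw)
    refine U.cb_eq_zero_iff.2 fun a' => ?_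
    obtain ⟨a'', rfl⟩ := hτs a'
    rw [U.hermV.sub_left, ← exact' z hz, U.iso_of_mem hMK hg, exact' z hz, U.tensor, U.tensor,
      hτsim, ← hσfull b' z hz]
    ring
  have decomp : ∀ w : Fin n₂ → F, U.h₂ (w - U.h₂ w b • b') b = 0 := fun w => by
    rw [U.H₂.sub_left, U.H₂.smul_left, hb'b, mul_one, sub_self]
  have glT : ∀ {G : GL (Fin n) F}, (∀ a z, U.h₂ z b = 0 → app G (U.D.T a z) = app g (U.D.T a z)) →
      (∀ a, app G (U.D.T a b') = app g (U.D.T a b')) → G = g := by
    intro G h1 h2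
    refine U.D.gl_ext_T fun a w => ?_
    rw [← sub_add_cancel w (U.h₂ w b • b'), map_add, map_add, map_add, map_smul, map_smul, map_smul,
      h2, h1 a _ (decomp w)]
  -- conjugation of transvections of the first factor
  have hσb'b : U.h₂ (σ b') b = κ⁻¹ := by
    have := hσfull b' b hb
    rw [hσb, hb'b] at this
    exact eq_inv_of_mul_eq_one_right this
  set G : (Fin n₁ → F) →ₗ[F] (Fin n₁ → F) :=
    (LinearEquiv.ofBijective τ ⟨hτi, hτs⟩).symm.toLinearMap ∘ₗ E with hG
  have hτG : ∀ a, τ (G a) = E a := fun a =>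
    (LinearEquiv.ofBijective τ ⟨hτi, hτs⟩).apply_symm_apply (E a)
  obtain ⟨γ, hγ⟩ := U.scalar_of_comm G fun r hr s hs hs0 => by
    set t := tu U.H₁ r s
    have hτr : U.h₁ (τ r) (τ r) = 0 := by rw [hτsim, hr, mul_zero]
    have hs' : s / κ + (s / κ) ^ q = 0 := by
      rw [div_pow, hκq, skew_pow hs]; ring
    set t' := tu U.H₁ (τ r) (s / κ)
    have ht' : ∀ a, app t' (τ a) = τ (app t a) := fun a => by
      rw [tu_apply U.H₁ hτr, tu_apply U.H₁ hr, map_add, map_smul, hτsim]
      congr 2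
      field_simp
    set D : (Fin n₁ → F) →ₗ[F] (Fin n₁ → F) :=
      κ • (E ∘ₗ (LinearEquiv.ofBijective τ ⟨hτi, hτs⟩).symm.toLinearMap -
        (app t').toLinearMap ∘ₗ E ∘ₗ (app t⁻¹).toLinearMap ∘ₗ
          (LinearEquiv.ofBijective τ ⟨hτi, hτs⟩).symm.toLinearMap) with hD
    have hDt : ∀ a, D (τ (app t a)) = κ • (E (app t a) - app t' (E a)) := fun a => by
      simp only [hD, LinearMap.smul_apply, LinearMap.sub_apply, LinearMap.comp_apply,
        LinearEquiv.coe_coe]
      rw [(LinearEquiv.ofBijective τ ⟨hτi, hτs⟩).symm_apply_eq.2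
        (show τ (app t a) = LinearEquiv.ofBijective τ ⟨hτi, hτs⟩ (app t a) from rfl), app_inv_app]
    have hLt : ∀ a w, app (U.Lt r s) (U.D.T a w) = U.D.T (app t a) w := fun a w => by
      rw [UData0.Lt, U.D.app_kr, map_one]; rfl
    have hLt' : ∀ a w, app (U.Lt (τ r) (s / κ)) (U.D.T a w) = U.D.T (app t' a) w := fun a w => by
      rw [UData0.Lt, U.D.app_kr, map_one]; rfl
    have eq : U.D.rt D b (fl U.H₂ b) * (U.Lt (τ r) (s / κ) * g) = g * U.Lt r s := by
      refine U.D.gl_ext_T fun a w => ?_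
      rw [← sub_add_cancel w (U.h₂ w b • b'), map_add, map_add, map_add, map_smul, map_smul,
        map_smul]
      simp only [map_mul, LinearEquiv.mul_apply]
      congr 1
      · rw [hLt, exact' _ (decomp w), hLt', exact' _ (decomp w), ht',
          U.D.rt_fix hb _ (show U.D.ct (fl U.H₂ b) _ = 0 by
            rw [U.D.ct_T, fl_apply, hσperp _ (decomp w), zero_smul])]
      · congr 1
        rw [hLt, hEap, hEap, map_add, hLt', hLt', U.D.rt_apply hb]
        simp only [map_add, U.D.ct_T, fl_apply, hσb'b, hb, zero_smul, add_zero, map_smul,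
          LinearMap.smul_apply, ht', hDt, map_sub, LinearMap.sub_apply, smul_smul,
          inv_mul_cancel₀ hκ0, one_smul]
        abel
    have hDM : U.D.rt D b (fl U.H₂ b) ∈ M := by
      rw [eq_mul_inv_of_mul_eq eq]
      exact mul_mem (mul_mem hg (hHM (U.Lt_mem hr hs)))
        (inv_mem (mul_mem (hHM (U.Lt_mem hτr hs')) hg))
    obtain ⟨μ, hμ⟩ := hS b hb0 hb D hDM
    refine ⟨μ / κ, fun x => hτi ?_⟩
    have h1 := hμ (τ (app t x))
    rw [hDt] at h1
    rw [map_sub, map_smul, ← ht', hτG, hτG, div_eq_inv_mul, mul_smul, ← h1, inv_smul_smul₀ hκ0]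
  -- assemble
  obtain ⟨A, hA⟩ := exists_app_eq τ hτi
  obtain ⟨S', hS'⟩ := exists_app_eq σ hσi
  let B : GL (Fin n₂) F := S' * tv b (γ • fl U.H₂ b)
  have hB : ∀ w, app B w = σ w + (γ * U.h₂ w b) • b := fun w => by
    simp only [B, map_mul, LinearEquiv.mul_apply, hS',
      tv_apply (show (γ • fl U.H₂ b) b = 0 by simp [hb]), LinearMap.smul_apply, fl_apply,
      smul_eq_mul, map_add, map_smul, hσb]
  have : U.D.kr A B = g := glT
    (fun a z hz => by rw [U.D.app_kr, hA, hB, hz, mul_zero, zero_smul, add_zero, exact' z hz])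
    (fun a => by
      rw [U.D.app_kr, hA, hB, hEap, ← hτG, hγ, hb'b, mul_one]
      simp only [map_add, map_smul, LinearMap.smul_apply])
  rw [← this]
  exact U.D.kr_mem A B

end UData

end Cfsg.Agent.C4
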