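import Cfsg.Agent.Lib.C4.Unitary.Ruling

/-!
# The decomposition `2 ⊗ 3`: stabilisers of rulings

An element of `M` stabilising a subspace `a ⊗ W` is a tensor.
-/

set_option autoImplicit false
set_option linter.unusedSectionVars false

namespace Cfsg.Agent.C4

open Matrix Module Cfsg.Agent.Transvect Cfsg.Agent.Unitary Cfsg.Agent.C4.Herm
open scoped MatrixGroups

namespace UData

variable {F : Type*} [Field F] [Fintype F] {q n n₁ n₂ : ℕ} (U : UData F q n n₁ n₂)

local notation "hh" => Cfsg.hermForm n F q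
local notation "W₁" => (Fin n₁ → F)
local notation "W₂" => (Fin n₂ → F)

include U

lemma three_eq (h2 : n₁ = 2) (h6 : n = 6) : n₂ = 3 := by
  have := U.card_eq
  rw [h2, h6] at this
  omega

lemma three_le_q (h2 : n₁ = 2) : 3 ≤ q := by
  have := U.exc
  have := two_le_q U.hF
  omega

lemma Lt_apply {r : W₁} (hr : U.h₁ r r = 0) (s : F) (x : Fin n → F) :
    app (U.Lt r s) x = x + s • U.D.T r (U.lc r x) :=
  LinearMap.congr_fun (U.D.lin_ext (f := (app (U.Lt r s)).toLinearMap)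
    (g := LinearMap.id + s • (U.D.T r ∘ₗ U.lc r)) fun a w => by
      simp only [UData0.Lt, LinearEquiv.coe_coe, U.D.app_kr, tu_apply U.H₁ hr, LinearMap.add_apply,
        LinearMap.id_apply, LinearMap.smul_apply, LinearMap.comp_apply, U.lc_T, map_add, map_smul,
        map_one, LinearEquiv.coe_one, id_eq, smul_smul]) x

lemma dec_hyp (h2 : n₁ = 2) {r r' : W₁} (hr : U.h₁ r r = 0) (hr' : U.h₁ r' r' = 0)
    (hr'r : U.h₁ r' r = 1) (hrr' : U.h₁ r r' = 1) (x : Fin n → F) :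
    x = U.D.T r (U.lc r' x) + U.D.T r' (U.lc r x) :=
  LinearMap.congr_fun (U.D.lin_ext (f := LinearMap.id)
    (g := U.D.T r ∘ₗ U.lc r' + U.D.T r' ∘ₗ U.lc r) fun a w => by
      simp only [LinearMap.id_apply, LinearMap.add_apply, LinearMap.comp_apply, U.lc_T, map_smul]
      conv_lhs => rw [expand_hyp U.H₁ h2 hr hr' hr'r hrr' a]
      simp only [map_add, map_smul, LinearMap.add_apply, LinearMap.smul_apply]) x

lemma dec_orth (h2 : n₁ = 2) {a a' : W₁} (ha : U.h₁ a a ≠ 0) (ha' : U.h₁ a' a' ≠ 0)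
    (h1 : U.h₁ a' a = 0) (x : Fin n → F) :
    x = (U.h₁ a a)⁻¹ • U.D.T a (U.lc a x) + (U.h₁ a' a')⁻¹ • U.D.T a' (U.lc a' x) :=
  LinearMap.congr_fun (U.D.lin_ext (f := LinearMap.id)
    (g := (U.h₁ a a)⁻¹ • (U.D.T a ∘ₗ U.lc a) + (U.h₁ a' a')⁻¹ • (U.D.T a' ∘ₗ U.lc a')) fun c w => by
      simp only [LinearMap.id_apply, LinearMap.add_apply, LinearMap.smul_apply, LinearMap.comp_apply,
        U.lc_T, map_smul, smul_smul]
      conv_lhs => rw [expand_orth U.hF U.H₁ h2 ha ha' h1 c]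
      simp only [map_add, map_smul, LinearMap.add_apply, LinearMap.smul_apply, div_eq_inv_mul]) x

/-- The tensor with given factors. -/
lemma mem_tens_of_eq {g : GL (Fin n) F} {A : W₁ →ₗ[F] W₁} {B : W₂ →ₗ[F] W₂}
    (hA : Function.Injective A) (hB : Function.Injective B)
    (h : ∀ a w, app g (U.D.T a w) = U.D.T (A a) (B w)) : g ∈ U.tens := by
  obtain ⟨A', hA'⟩ := exists_app_eq A hA
  obtain ⟨B', hB'⟩ := exists_app_eq B hB
  have : U.D.kr A' B' = g := U.D.gl_ext_T fun a w => by rw [U.D.app_kr, hA', hB', h]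
  rw [← this]
  exact U.D.kr_mem _ _

variable {M : Subgroup (GL (Fin n) F)} (hHM : U.stab ≤ M) (hMK : M ≤ suGL n F q) (hS : U.Scal M)
  (h2 : n₁ = 2) (h6 : n = 6)

include hHM hMK hS h2 h6

/-- An element of `M` stabilising an isotropic ruling is a tensor. -/
theorem mem_tens_of_ruling {r : W₁} (hr0 : r ≠ 0) (hr : U.h₁ r r = 0) {g : GL (Fin n) F}
    (hg : g ∈ M) (hst : ∀ w, ∃ w', app g (U.D.T r w) = U.D.T r w') : g ∈ U.tens := by
  have h3 := U.three_eq h2 h6
  obtain ⟨r', hr', hr'r, hrr', -⟩ := exists_partner U.hF U.H₁ U.nd₁ hr0 hr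
  set σ : W₂ →ₗ[F] W₂ := U.lc r' ∘ₗ (app g).toLinearMap ∘ₗ U.D.T r with hσdef
  set σ' : W₂ →ₗ[F] W₂ := U.lc r ∘ₗ (app g).toLinearMap ∘ₗ U.D.T r' with hσ'def
  set φ : W₂ →ₗ[F] W₂ := U.lc r' ∘ₗ (app g).toLinearMap ∘ₗ U.D.T r' with hφdef
  have hσ : ∀ w, app g (U.D.T r w) = U.D.T r (σ w) := fun w => by
    obtain ⟨w', hw'⟩ := hst w
    rw [hw', show σ w = w' by
      simp only [hσdef, LinearMap.comp_apply, LinearEquiv.coe_coe, hw', U.lc_T, hrr', one_smul]]
  have hσ' : ∀ w, app g (U.D.T r' w) = U.D.T r (φ w) + U.D.T r' (σ' w) := fun w =>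
    U.dec_hyp h2 hr hr' hr'r hrr' _
  have hpair : ∀ w w', U.h₂ (σ w) (σ' w') = U.h₂ w w' := fun w w' => by
    have h := U.iso_of_mem hMK hg (U.D.T r w) (U.D.T r' w')
    simpa [hσ, hσ', U.hermV.add_right U.hF, U.tensor, hr, hrr'] using h
  have hσi : Function.Injective σ := (injective_iff_map_eq_zero σ).2 fun w hw => by
    have h := hσ w
    rw [hw, map_zero, (app g).map_eq_zero_iff] at h
    exact (U.D.T_eq_zero h).resolve_left hr0
  have hσ'i : Function.Injective σ' := (injective_iff_map_eq_zero σ').2 fun w' hw' =>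
    U.nd₂ _ fun w => (U.H₂.eq_zero_symm U.hF).1 (by rw [← hpair w w', hw', U.H₂.zero_right U.hF])
  let e' := LinearEquiv.ofBijective σ' ⟨hσ'i, LinearMap.surjective_of_injective hσ'i⟩
  have he' : ∀ w, e'.symm (σ' w) = w := fun w => e'.symm_apply_apply w
  have hlc : ∀ x, U.lc r (app g x) = σ' (U.lc r x) := fun x => by
    conv_lhs => rw [U.dec_hyp h2 hr hr' hr'r hrr' x, map_add, hσ, hσ']
    simp [U.lc_T, hr, hr'r]
  obtain ⟨s, hs0, hs⟩ := exists_skew U.hF
  have hs' : s + s ^ q = 0 := by rw [hs, add_neg_cancel]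
  -- the radical gives `σ' = d σ`
  obtain ⟨c, hc⟩ := U.inK_scalar hHM hMK hS (by omega) hr0 hr (K := s • (σ ∘ₗ e'.symm.toLinearMap))
    ⟨g * U.Lt r s * g⁻¹, mul_mem (mul_mem hg (hHM (U.Lt_mem hr hs'))) (inv_mem hg), fun x => by
      obtain ⟨y, rfl⟩ := (app g).surjective x
      rw [map_mul, map_mul, LinearEquiv.mul_apply, LinearEquiv.mul_apply, app_inv_app,
        U.Lt_apply hr, map_add, map_smul, hσ, hlc]
      simp [he', map_smul]⟩
  have hσσ' : ∀ w, s • σ w = c • σ' w := fun w => by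
    have := hc (σ' w)
    simpa [he'] using this
  have hw0 : Nontrivial W₂ := by
    have : Nonempty (Fin n₂) := ⟨⟨0, by omega⟩⟩
    infer_instance
  obtain ⟨w1, hw1⟩ := exists_ne (0 : W₂)
  have hc0 : c ≠ 0 := fun h0 => by
    have h := hσσ' w1
    rw [h0, zero_smul, smul_eq_zero] at h
    exact hw1 (hσi ((h.resolve_left hs0).trans σ.map_zero.symm))
  set d := s / c with hd
  have hdσ : ∀ w, σ' w = d • σ w := fun w => by
    rw [hd, div_eq_inv_mul, mul_smul, hσσ', inv_smul_smul₀ hc0]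
  have hd0 : d ≠ 0 := div_ne_zero hs0 hc0
  have hsim : ∀ w w', d ^ q * U.h₂ (σ w) (σ w') = U.h₂ w w' := fun w w' => by
    have h := hpair w w'
    rwa [hdσ, U.H₂.smul_right] at h
  have hdq : d ^ q = d := by
    obtain ⟨x, hx, hxx⟩ : ∃ x : W₂, x ≠ 0 ∧ U.h₂ x x ≠ 0 := by
      by_contra! hall
      refine hw1 (U.nd₂ _ fun y => U.H₂.eq_zero_of_isotropic U.hF (fun z => ?_) w1 y)
      by_cases hz : z = 0
      · rw [hz, U.H₂.zero_left]
      · exact hall z hz
    have h := hsim x x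
    have h' := congrArg (fun z => z ^ q) h
    simp only [mul_pow, U.H₂.self_fixed, pow_q_pow_q U.hF] at h'
    refine mul_right_cancel₀ (fun h0 => hxx ?_) (h.trans h'.symm)
    rw [← h, h0, mul_zero]
  have hσiso : ∀ w, U.h₂ w w = 0 → U.h₂ (σ w) (σ w) = 0 := fun w hw => by
    have h := hsim w w
    rw [hw] at h
    exact (mul_eq_zero.1 h).resolve_left (pow_ne_zero q hd0)
  -- `φ` is a multiple of `σ`
  let e := LinearEquiv.ofBijective σ ⟨hσi, LinearMap.surjective_of_injective hσi⟩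
  have he : ∀ w, e.symm (σ w) = w := fun w => e.symm_apply_apply w
  have heσ : ∀ w, σ (e.symm w) = w := fun w => e.apply_symm_apply w
  obtain ⟨γ, hγ⟩ := scalar_of_comm_tu U.hF U.H₂ U.nd₂ (by omega) (U.three_le_q h2)
    (e.symm.toLinearMap ∘ₗ φ) fun b hb x hx _ => by
    have hb' := hσiso b hb
    have hxd : x * d + (x * d) ^ q = 0 := by
      rw [mul_pow, hdq, skew_pow hx]; ring
    set t := tu U.H₂ b x
    set t' := tu U.H₂ (σ b) (x * d)
    have ht' : ∀ w, app t' (σ w) = σ (app t w) := fun w => by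
      rw [tu_apply U.H₂ hb', tu_apply U.H₂ hb, map_add, map_smul, ← hsim w b, hdq]
      congr 2
      ring
    set K : W₂ →ₗ[F] W₂ := (φ - (app t').toLinearMap ∘ₗ φ ∘ₗ (app t⁻¹).toLinearMap) ∘ₗ
      e'.symm.toLinearMap with hK
    have hKt : ∀ w, K (σ' (app t w)) = φ (app t w) - app t' (φ w) := fun w => by
      simp only [hK, LinearMap.comp_apply, LinearMap.sub_apply, LinearEquiv.coe_coe, he', app_inv_app]
    have hR : ∀ (v : W₂) (z : F) (a : W₁) (w : W₂),
        app (U.R v z) (U.D.T a w) = U.D.T a (app (tu U.H₂ v z) w) := fun v z a w => by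
      simp only [UData0.R, U.D.app_kr, map_one]; rfl
    set k := g * U.R b x * g⁻¹ * (U.R (σ b) (x * d))⁻¹ with hk
    have hkM : k ∈ M := mul_mem (mul_mem (mul_mem hg (hHM (U.R_mem hb hx))) (inv_mem hg))
      (inv_mem (hHM (U.R_mem hb' hxd)))
    have hkap : ∀ X, app k (app (U.R (σ b) (x * d)) X) = app g (app (U.R b x) (app g⁻¹ X)) :=
      fun X => by
        rw [hk, map_mul, map_mul, map_mul, LinearEquiv.mul_apply, LinearEquiv.mul_apply,
          LinearEquiv.mul_apply, app_inv_app]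
    have hkr : ∀ w, app k (U.D.T r w) = U.D.T r w := fun w => by
      obtain ⟨v, rfl⟩ := (app t').surjective w
      obtain ⟨u, rfl⟩ := e.surjective v
      show app k (U.D.T r (app t' (σ u))) = U.D.T r (app t' (σ u))
      conv_lhs => rw [← hR, hkap, ← hσ, app_inv_app, hR, hσ]
      rw [ht']
    have hkr' : ∀ w, app k (U.D.T r' (σ' (app t w))) =
        U.D.T r' (σ' (app t w)) + U.D.T r (φ (app t w) - app t' (φ w)) := fun w => by
      have h := hkap (app g (U.D.T r' w))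
      rw [app_inv_app, hR, hσ', hσ'] at h
      simp only [map_add, hR, hkr] at h
      rw [show app t' (σ' w) = σ' (app t w) by rw [hdσ, map_smul, ht', ← hdσ]] at h
      rw [map_sub]
      linear_combination (norm := module) h
    obtain ⟨μ, hμ⟩ := U.inK_scalar hHM hMK hS (by omega) hr0 hr (K := K) ⟨k, hkM, fun X => by
      conv_lhs => rw [U.dec_hyp h2 hr hr' hr'r hrr' X, map_add, hkr]
      obtain ⟨w, hw⟩ : ∃ w, σ' (app t w) = U.lc r X := by
        obtain ⟨v, hv⟩ := e'.surjective (U.lc r X)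
        obtain ⟨w, rfl⟩ := (app t).surjective v
        exact ⟨w, hv⟩
      rw [← hw, hkr', hKt, hw, ← add_assoc, ← U.dec_hyp h2 hr hr' hr'r hrr' X]⟩
    refine ⟨μ * d, fun w => hσi ?_⟩
    have h := hμ (σ' (app t w))
    rw [hKt, hdσ, smul_smul] at h
    simp only [LinearMap.comp_apply, LinearEquiv.coe_coe, map_sub, map_smul, ← ht', heσ, h]
  have hφ : ∀ w, φ w = γ • σ w := fun w => by
    have := congrArg σ (hγ w)
    simpa [heσ] using this
  -- assemble
  let τ : W₁ →ₗ[F] W₁ := (fl U.H₁ r).smulRight (d • r' + γ • r) + (fl U.H₁ r').smulRight r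
  refine U.mem_tens_of_eq (A := τ) (B := σ) ((injective_iff_map_eq_zero τ).2 fun a ha => ?_) hσi
    fun a w => ?_
  · have e1 := congrArg (fun z => U.h₁ z r) ha
    simp [τ, U.H₁.add_left, U.H₁.smul_left, hr, hr'r, hd0, U.H₁.zero_left] at e1
    simp [τ, e1, hr0] at ha
    rw [expand_hyp U.H₁ h2 hr hr' hr'r hrr' a, e1, ha]
    simp
  · conv_lhs => rw [expand_hyp U.H₁ h2 hr hr' hr'r hrr' a]
    simp only [τ, map_add, map_smul, LinearMap.add_apply, LinearMap.smul_apply,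
      LinearMap.smulRight_apply, fl_apply, hσ, hσ', hφ, hdσ]
    module

/-- An element of `M` trivial on one ruling and with an isotropic eigenvector on the other is
scalar there. -/
lemma half_scalar_of_eigen {a a' : W₁} (ha : U.h₁ a a ≠ 0) (ha' : U.h₁ a' a' ≠ 0)
    (h1 : U.h₁ a' a = 0) {k : GL (Fin n) F} (hk : k ∈ M) {N : W₂ →ₗ[F] W₂}
    (hka : ∀ w, app k (U.D.T a w) = U.D.T a w) (hkN : ∀ w, app k (U.D.T a' w) = U.D.T a' (N w))
    {x : W₂} (hx0 : x ≠ 0) (hx : U.h₂ x x = 0) {l : F} (hxl : N x = l • x) :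
    ∃ c : F, ∀ w, N w = c • w := by
  have ht := U.mem_tens_of_stab hHM hMK hS hx0 hx hk fun c => by
    rw [expand_orth U.hF U.H₁ h2 ha ha' h1 c]
    simp only [map_add, map_smul, LinearMap.add_apply, LinearMap.smul_apply, hka, hkN, hxl]
    exact add_mem (Submodule.smul_mem _ _ (U.D.mem_line _))
      (Submodule.smul_mem _ _ (Submodule.smul_mem _ _ (U.D.mem_line _)))
  obtain ⟨A, B, hAB⟩ := U.exists_tens ht
  set ρ := U.h₁ (app A a) a / U.h₁ a a with hρ
  set ρ' := U.h₁ (app A a') a' / U.h₁ a' a'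
  have e1 : ∀ w, w = ρ • app B w := fun w => by
    have h := congrArg (U.lc a) ((hAB a w).symm.trans (hka w))
    rw [U.lc_T, U.lc_T] at h
    rw [hρ, div_eq_inv_mul, mul_smul, h, inv_smul_smul₀ ha]
  have e2 : ∀ w, N w = ρ' • app B w := fun w => by
    have h := congrArg (U.lc a') ((hAB a' w).symm.trans (hkN w))
    rw [U.lc_T, U.lc_T] at h
    show N w = (U.h₁ (app A a') a' / U.h₁ a' a') • app B w
    rw [div_eq_inv_mul, mul_smul, h, inv_smul_smul₀ ha']
  have hρ0 : ρ ≠ 0 := fun h0 => hx0 (by rw [e1 x, h0, zero_smul])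
  exact ⟨ρ' / ρ, fun w => by
    conv_rhs => rw [e1 w, smul_smul, div_mul_cancel₀ _ hρ0]
    exact e2 w⟩

/-- An element of `M` trivial on an anisotropic ruling is scalar on the other. -/
lemma half_scalar {a a' : W₁} (ha : U.h₁ a a ≠ 0) (ha' : U.h₁ a' a' ≠ 0) (h1 : U.h₁ a' a = 0)
    {k : GL (Fin n) F} (hk : k ∈ M) {N : W₂ →ₗ[F] W₂}
    (hka : ∀ w, app k (U.D.T a w) = U.D.T a w) (hkN : ∀ w, app k (U.D.T a' w) = U.D.T a' (N w)) :
    ∃ c : F, ∀ w, N w = c • w := by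
  have h3 := U.three_eq h2 h6
  have hNiso : ∀ v w, U.h₂ (N v) (N w) = U.h₂ v w := fun v w => by
    have h := U.iso_of_mem hMK hk (U.D.T a' v) (U.D.T a' w)
    rw [hkN, hkN, U.tensor, U.tensor] at h
    exact mul_left_cancel₀ ha' h
  have hNi : Function.Injective N := (injective_iff_map_eq_zero N).2 fun w hw => U.nd₂ _ fun v => by
    rw [← hNiso, hw, U.H₂.zero_left]
  have hNs := LinearMap.surjective_of_injective hNi
  obtain ⟨b, -, hb0, hb⟩ := exists_iso_in U.hF U.H₂ (W := (⊤ : Submodule F W₂))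
    (by rw [finrank_top, finrank_fin_fun]; omega)
  set u := N b with hu
  have huu : U.h₂ u u = 0 := by rw [hu, hNiso, hb]
  have hu0 : u ≠ 0 := fun h => hb0 (hNi (h.trans N.map_zero.symm))
  by_cases hm : U.h₂ u b = 0
  · -- `u` is a multiple of `b`
    obtain ⟨b', hb', hb'b, hbb', -⟩ := exists_partner U.hF U.H₂ U.nd₂ hb0 hb
    obtain ⟨z, hzb, hzb', hzz⟩ :=
      U.exists_norm_perp U.H₂ U.nd₂ hb hb' hb'b hbb' (by omega) (one_pow q : (1 : F) ^ q = 1)
    exact U.half_scalar_of_eigen hHM hMK hS h2 h6 ha ha' h1 hk hka hkN hb0 hb (l := U.h₂ u b')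
      (eq_smul_of_iso_orth U.hF U.H₂ h3 hb hb' hb'b hbb' hzb hzb' hzz huu hm)
  exfalso
  set m' := U.h₂ u b with hm'
  obtain ⟨s, hs0, hsq⟩ := exists_skew U.hF
  have hs : s + s ^ q = 0 := by rw [hsq, add_neg_cancel]
  have hs' : -s + (-s) ^ q = 0 := by rw [neg_pow_q U.hF, hsq]; ring
  obtain ⟨l, hl, hl0, hl1⟩ := exists_fixed_ne_zero_one U.hF (U.three_le_q h2)
  set Nm := m' ^ (q + 1) with hNm
  have hNm0 : Nm ≠ 0 := pow_ne_zero _ hm
  have hNmq : Nm ^ q = Nm := by rw [hNm, pow_q_succ_fixed U.hF]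
  obtain ⟨c, hc⟩ := exists_norm_eq U.hF (c := (l - 1) ^ 2 / (l * (-(s * s)) * Nm ^ 2)) (by
    simp only [div_pow, mul_pow, neg_pow_q U.hF, sub_pow_q U.hF, one_pow, ← pow_mul, mul_comm 2 q]
    simp only [pow_mul, sub_pow_q U.hF, one_pow, hl, hsq, hNmq]
    ring)
  set b'' := (U.h₂ u b)⁻¹ • u with hb''def
  have hb''b : U.h₂ b'' b = 1 := by rw [hb''def, U.H₂.smul_left, inv_mul_cancel₀ hm]
  have hbb'' : U.h₂ b b'' = 1 := by rw [U.H₂.conj_symm b'' b, hb''b, one_pow]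
  have hb'' : U.h₂ b'' b'' = 0 := by rw [hb''def, U.H₂.smul_left, U.H₂.smul_right, huu, mul_zero, mul_zero]
  obtain ⟨z, hzb, hzb'', hzz⟩ := U.exists_norm_perp U.H₂ U.nd₂ hb hb'' hb''b hbb'' (by omega)
    (ν := -(c + c ^ q)) (by rw [neg_pow_q U.hF, trace_fixed U.hF])
  have hzu : U.h₂ z u = 0 := by
    rw [hb''def, U.H₂.smul_right] at hzb''
    exact (mul_eq_zero.1 hzb'').resolve_left (pow_ne_zero q (inv_ne_zero hm))
  have hbz := (U.H₂.eq_zero_symm U.hF).1 hzb
  have huz := (U.H₂.eq_zero_symm U.hF).1 hzu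
  set E := eich U.H₂ b z c
  have hEi : Iso U.h₂ E := eich_iso U.hF U.H₂ hb hzb (by rw [hzz, neg_neg])
  have hEb : app E b = b := by rw [eich_apply U.H₂ hb hbz hzb, hb, hbz]; simp
  set u' := app E u with hu'
  have hu'u' : U.h₂ u' u' = 0 := by rw [hu', hEi, huu]
  have hmm : U.h₂ u' u = c * Nm := by
    rw [hu', eich_apply U.H₂ hb hbz hzb, huz, hNm, hm']
    simp only [zero_smul, sub_zero, U.H₂.add_left, U.H₂.smul_left, huu, hzu, mul_zero, zero_add,
      U.H₂.conj_symm u b]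
    ring
  have hR : ∀ (v : W₂) (x : F) (d : W₁) (w : W₂),
      app (U.R v x) (U.D.T d w) = U.D.T d (app (tu U.H₂ v x) w) := fun v x d w => by
    simp only [UData0.R, U.D.app_kr, map_one]; rfl
  -- first commutator
  set k1 := k * U.R b s * k⁻¹ * U.R b (-s) with hk1
  have hk1M : k1 ∈ M := mul_mem (mul_mem (mul_mem hk (hHM (U.R_mem hb hs))) (inv_mem hk))
    (hHM (U.R_mem hb hs'))
  have hkinv : ∀ w, app k⁻¹ (U.D.T a w) = U.D.T a w := fun w => by
    conv_lhs => rw [← hka w, app_inv_app]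
  have hk1a : ∀ w, app k1 (U.D.T a w) = U.D.T a w := fun w => by
    rw [hk1, map_mul, map_mul, map_mul, LinearEquiv.mul_apply, LinearEquiv.mul_apply,
      LinearEquiv.mul_apply, hR, hkinv, hR, hka, tu_cancel U.H₂ hb]
  have hk1a' : ∀ w, app k1 (U.D.T a' w) =
      U.D.T a' (app (tu U.H₂ u s) (app (tu U.H₂ b (-s)) w)) := fun w => by
    rw [hk1, map_mul, map_mul, map_mul, LinearEquiv.mul_apply, LinearEquiv.mul_apply,
      LinearEquiv.mul_apply, hR]
    obtain ⟨y, hy⟩ := hNs (app (tu U.H₂ b (-s)) w)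
    rw [← hy, ← hkN, app_inv_app, hR, hkN, tu_apply U.H₂ hb, tu_apply U.H₂ huu, map_add, map_smul,
      hu, hNiso]
  -- second commutator
  set mE := U.D.kr 1 E with hmEdef
  have hmE : mE ∈ M := hHM (U.kr_mem_stab (U.iso_one _) hEi (one_mem _) (eich_mem_sl U.H₂ b z c))
  have hmEap : ∀ d w, app mE (U.D.T d w) = U.D.T d (app E w) := fun d w => by
    rw [hmEdef, U.D.app_kr, map_one]; rfl
  set k2 := mE * k1 * mE⁻¹ * k1⁻¹ with hk2
  have hk2M : k2 ∈ M := mul_mem (mul_mem (mul_mem hmE hk1M) (inv_mem hmE)) (inv_mem hk1M)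
  have hk2ap : ∀ d w, app k2 (app k1 (U.D.T d (app E w))) = app mE (app k1 (U.D.T d w)) :=
    fun d w => by
      rw [hk2, map_mul, map_mul, map_mul, LinearEquiv.mul_apply, LinearEquiv.mul_apply,
        LinearEquiv.mul_apply, app_inv_app, ← hmEap, app_inv_app]
  have hk2a : ∀ w, app k2 (U.D.T a w) = U.D.T a w := fun w => by
    obtain ⟨y, rfl⟩ := (app E).surjective w
    conv_lhs => rw [← hk1a, hk2ap, hk1a, hmEap]
  have hk2a' : ∀ w, app k2 (U.D.T a' w) =
      U.D.T a' (((app (tu U.H₂ u' s)).toLinearMap ∘ₗ (app (tu U.H₂ u (-s))).toLinearMap) w) := by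
    intro w
    obtain ⟨w1, rfl⟩ := (app (tu U.H₂ u s)).surjective w
    obtain ⟨w2, rfl⟩ := (app (tu U.H₂ b (-s))).surjective w1
    obtain ⟨y, rfl⟩ := (app E).surjective w2
    conv_lhs => rw [← hk1a', hk2ap, hk1a', hmEap]
    simp only [LinearMap.comp_apply, LinearEquiv.coe_coe, tu_cancel' U.H₂ huu]
    rw [tu_conj U.hF U.H₂ hEi huu, tu_conj U.hF U.H₂ hEi hb, hEb, ← hu']
  -- an isotropic eigenvector
  set m := U.h₂ u' u with hmdef
  have hX : -(s * s) * m ^ (q + 1) * l = (l - 1) ^ 2 := by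
    rw [hmm, mul_pow c Nm, hc, pow_succ Nm q, hNmq]
    field_simp
  have hm0 : m ≠ 0 := fun h0 => by
    rw [h0, zero_pow (Nat.succ_ne_zero q), mul_zero, zero_mul] at hX
    exact sub_ne_zero.2 hl1 (pow_eq_zero_iff two_ne_zero |>.1 hX.symm)
  have huu' : U.h₂ u u' = m ^ q := U.H₂.conj_symm u' u
  set x := (l - 1) • u' + (-s * m) • u with hx
  have hx0 : x ≠ 0 := fun h0 => by
    have h := congrArg (fun y => U.h₂ y u) h0
    simp only [hx, U.H₂.add_left, U.H₂.smul_left, huu, U.H₂.zero_left, mul_zero, add_zero] at h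
    exact mul_ne_zero (sub_ne_zero.2 hl1) hm0 h
  have hxx : U.h₂ x x = 0 := by
    simp only [hx, U.H₂.add_left, U.H₂.add_right U.hF, U.H₂.smul_left, U.H₂.smul_right, huu, hu'u',
      huu', ← hmdef, mul_pow, neg_pow_q U.hF, sub_pow_q U.hF, one_pow, hl, hsq]
    ring
  have hNx : ((app (tu U.H₂ u' s)).toLinearMap ∘ₗ (app (tu U.H₂ u (-s))).toLinearMap) x = l • x := by
    simp only [LinearMap.comp_apply, LinearEquiv.coe_coe, tu_apply U.H₂ huu, tu_apply U.H₂ hu'u',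
      hx, U.H₂.add_left, U.H₂.smul_left, huu, hu'u', huu', ← hmdef, mul_zero, add_zero, zero_add]
    match_scalars
    · linear_combination hX
    · ring
  obtain ⟨ρ, hρ⟩ := U.half_scalar_of_eigen hHM hMK hS h2 h6 ha ha' h1 hk2M hk2a hk2a' hx0 hxx hNx
  have hρl : ρ = l := smul_left_injective F hx0 ((hρ x).symm.trans hNx)
  obtain ⟨y, hy, hy0⟩ := Submodule.exists_mem_ne_zero_of_ne_bot (p := perpF U.H₂ ![u', u]) (fun h => by
    have h4 : n₂ ≤ finrank F (perpF U.H₂ ![u', u]) + 2 := le_finrank_perpF U.H₂ ![u', u]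
    rw [h, finrank_bot] at h4
    omega)
  have hy1 : U.h₂ y u' = 0 := (mem_perpF U.H₂).1 hy 0
  have hy2 : U.h₂ y u = 0 := (mem_perpF U.H₂).1 hy 1
  have hρy := hρ y
  simp only [LinearMap.comp_apply, LinearEquiv.coe_coe, tu_apply U.H₂ huu, hy2, mul_zero, zero_smul,
    add_zero, tu_apply U.H₂ hu'u', hy1] at hρy
  have : ρ = 1 := smul_left_injective F hy0 (by simpa using hρy.symm)
  exact hl1 (hρl ▸ this)

/-- An element of `M` stabilising an anisotropic ruling is a tensor. -/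
theorem mem_tens_of_aniso_ruling {a : W₁} (ha : U.h₁ a a ≠ 0) {g : GL (Fin n) F} (hg : g ∈ M)
    (hst : ∀ w, ∃ w', app g (U.D.T a w) = U.D.T a w') : g ∈ U.tens := by
  have h3 := U.three_eq h2 h6
  obtain ⟨a', h1, ha'⟩ := exists_orth_aniso U.hF U.H₁ U.nd₁ U.two_le ha
  have h1' := (U.H₁.eq_zero_symm U.hF).1 h1
  set C1 : W₂ →ₗ[F] W₂ := (U.h₁ a a)⁻¹ • (U.lc a ∘ₗ (app g).toLinearMap ∘ₗ U.D.T a) with hC1def
  set C2 : W₂ →ₗ[F] W₂ := (U.h₁ a' a')⁻¹ • (U.lc a' ∘ₗ (app g).toLinearMap ∘ₗ U.D.T a') with hC2def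
  have hC1 : ∀ w, app g (U.D.T a w) = U.D.T a (C1 w) := fun w => by
    obtain ⟨w', hw'⟩ := hst w
    rw [hw', show C1 w = w' by
      simp only [hC1def, LinearMap.smul_apply, LinearMap.comp_apply, LinearEquiv.coe_coe, hw',
        U.lc_T, inv_smul_smul₀ ha]]
  have hC1iso : ∀ v w, U.h₂ (C1 v) (C1 w) = U.h₂ v w := fun v w => by
    have h := U.iso_of_mem hMK hg (U.D.T a v) (U.D.T a w)
    rw [hC1, hC1, U.tensor, U.tensor] at h
    exact mul_left_cancel₀ ha h
  have hC1i : Function.Injective C1 := (injective_iff_map_eq_zero C1).2 fun w hw =>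
    U.nd₂ _ fun v => by rw [← hC1iso, hw, U.H₂.zero_left]
  have hC2 : ∀ w, app g (U.D.T a' w) = U.D.T a' (C2 w) := fun w => by
    have hlc : U.lc a (app g (U.D.T a' w)) = 0 := U.nd₂ _ fun v => by
      obtain ⟨v0, rfl⟩ := LinearMap.surjective_of_injective hC1i v
      rw [← U.herm_lc, ← hC1, U.iso_of_mem hMK hg, U.tensor, h1, zero_mul]
    have h := U.dec_orth h2 ha ha' h1 (app g (U.D.T a' w))
    rw [hlc, map_zero, smul_zero, zero_add, ← map_smul] at h
    exact h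
  have hC2iso : ∀ v w, U.h₂ (C2 v) (C2 w) = U.h₂ v w := fun v w => by
    have h := U.iso_of_mem hMK hg (U.D.T a' v) (U.D.T a' w)
    rw [hC2, hC2, U.tensor, U.tensor] at h
    exact mul_left_cancel₀ ha' h
  have hC2i : Function.Injective C2 := (injective_iff_map_eq_zero C2).2 fun w hw =>
    U.nd₂ _ fun v => by rw [← hC2iso, hw, U.H₂.zero_left]
  let e2 := LinearEquiv.ofBijective C2 ⟨hC2i, LinearMap.surjective_of_injective hC2i⟩
  have he2 : ∀ w, e2.symm (C2 w) = w := fun w => e2.symm_apply_apply w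
  have he2' : ∀ w, C2 (e2.symm w) = w := fun w => e2.apply_symm_apply w
  have key : ∀ b, U.h₂ b b = 0 → ∃ d : F, (e2.symm.toLinearMap ∘ₗ C1) b = d • b := by
    intro b hb
    by_cases hb0 : b = 0
    · exact ⟨0, by simp [hb0]⟩
    set b1 := C1 b
    set b2 := C2 b
    have hb1 : U.h₂ b1 b1 = 0 := by rw [hC1iso, hb]
    have hb2 : U.h₂ b2 b2 = 0 := by rw [hC2iso, hb]
    obtain ⟨s, hs0, hsq⟩ := exists_skew U.hF
    have hs : s + s ^ q = 0 := by rw [hsq, add_neg_cancel]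
    have hs' : -s + (-s) ^ q = 0 := by rw [neg_pow_q U.hF, hsq]; ring
    have hR : ∀ (v : W₂) (x : F) (d : W₁) (w : W₂),
        app (U.R v x) (U.D.T d w) = U.D.T d (app (tu U.H₂ v x) w) := fun v x d w => by
      simp only [UData0.R, U.D.app_kr, map_one]; rfl
    set k := g * U.R b s * g⁻¹ * U.R b1 (-s) with hk
    have hkM : k ∈ M := mul_mem (mul_mem (mul_mem hg (hHM (U.R_mem hb hs))) (inv_mem hg))
      (hHM (U.R_mem hb1 hs'))
    have hka : ∀ w, app k (U.D.T a w) = U.D.T a w := fun w => by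
      rw [hk, map_mul, map_mul, map_mul, LinearEquiv.mul_apply, LinearEquiv.mul_apply,
        LinearEquiv.mul_apply, hR]
      obtain ⟨y, hy⟩ := LinearMap.surjective_of_injective hC1i (app (tu U.H₂ b1 (-s)) w)
      rw [← hy, ← hC1, app_inv_app, hR, hC1,
        show C1 (app (tu U.H₂ b s) y) = app (tu U.H₂ b1 s) (C1 y) by
          rw [tu_apply U.H₂ hb, tu_apply U.H₂ hb1, map_add, map_smul, hC1iso],
        hy, tu_cancel U.H₂ hb1]
    have hka' : ∀ w, app k (U.D.T a' w) =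
        U.D.T a' (((app (tu U.H₂ b2 s)).toLinearMap ∘ₗ (app (tu U.H₂ b1 (-s))).toLinearMap) w) :=
      fun w => by
        rw [hk, map_mul, map_mul, map_mul, LinearEquiv.mul_apply, LinearEquiv.mul_apply,
          LinearEquiv.mul_apply, hR]
        obtain ⟨y, hy⟩ := LinearMap.surjective_of_injective hC2i (app (tu U.H₂ b1 (-s)) w)
        simp only [LinearMap.comp_apply, LinearEquiv.coe_coe]
        rw [← hy, ← hC2, app_inv_app, hR, hC2,
          show C2 (app (tu U.H₂ b s) y) = app (tu U.H₂ b2 s) (C2 y) by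
            rw [tu_apply U.H₂ hb, tu_apply U.H₂ hb2, map_add, map_smul, hC2iso]]
    obtain ⟨ν, hν⟩ := U.half_scalar hHM hMK hS h2 h6 ha ha' h1 hkM hka hka'
    obtain ⟨y, hy, hy0⟩ := Submodule.exists_mem_ne_zero_of_ne_bot (p := perpF U.H₂ ![b1, b2])
      (fun h => by
        have h4 : n₂ ≤ finrank F (perpF U.H₂ ![b1, b2]) + 2 := le_finrank_perpF U.H₂ ![b1, b2]
        rw [h, finrank_bot] at h4
        omega)
    have hy1 : U.h₂ y b1 = 0 := (mem_perpF U.H₂).1 hy 0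
    have hy2 : U.h₂ y b2 = 0 := (mem_perpF U.H₂).1 hy 1
    have hνy := hν y
    simp only [LinearMap.comp_apply, LinearEquiv.coe_coe, tu_apply U.H₂ hb1, hy1, mul_zero,
      zero_smul, add_zero, tu_apply U.H₂ hb2, hy2] at hνy
    have hν1 : ν = 1 := smul_left_injective F hy0 (by simpa using hνy.symm)
    obtain ⟨x, hx⟩ := exists_pair U.hF U.H₂ U.nd₂ (v := b1) fun h0 =>
      hb0 (hC1i (h0.trans C1.map_zero.symm))
    have h := hν (app (tu U.H₂ b1 s) x)
    rw [hν1, one_smul, LinearMap.comp_apply, LinearEquiv.coe_coe, LinearEquiv.coe_coe,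
      tu_cancel' U.H₂ hb1, tu_apply U.H₂ hb1, tu_apply U.H₂ hb2, add_right_inj, hx, mul_one,
      mul_smul] at h
    refine ⟨U.h₂ x b2, ?_⟩
    show e2.symm b1 = _
    rw [← (IsUnit.mk0 _ hs0).smul_left_cancel.1 h, map_smul, he2]
  obtain ⟨c, hc⟩ := scalar_of_iso_eigen U.hF U.H₂ U.nd₂ (by omega) key
  have hC12 : ∀ w, C1 w = c • C2 w := fun w => by
    have := congrArg C2 (hc w)
    simpa [he2'] using this
  have hc0 : c ≠ 0 := fun h0 => by
    obtain ⟨b, -, hb0, -⟩ := exists_iso_in U.hF U.H₂ (W := (⊤ : Submodule F W₂))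
      (by rw [finrank_top, finrank_fin_fun]; omega)
    exact hb0 (hC1i (by rw [hC12, h0, zero_smul, map_zero]))
  let τ : W₁ →ₗ[F] W₁ := ((U.h₁ a a)⁻¹ * c) • (fl U.H₁ a).smulRight a +
    (U.h₁ a' a')⁻¹ • (fl U.H₁ a').smulRight a'
  refine U.mem_tens_of_eq (A := τ) (B := C2) ((injective_iff_map_eq_zero τ).2 fun e he => ?_) hC2i
    fun e w => ?_
  · have e1 := congrArg (fun z => U.h₁ z a) he
    have e2 := congrArg (fun z => U.h₁ z a') he
    simp [τ, U.H₁.add_left, U.H₁.smul_left, h1, h1', U.H₁.zero_left, ha, ha', hc0] at e1 e2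
    rw [expand_orth U.hF U.H₁ h2 ha ha' h1 e, e1, e2]
    simp
  · conv_lhs => rw [expand_orth U.hF U.H₁ h2 ha ha' h1 e]
    simp only [τ, map_add, map_smul, LinearMap.add_apply, LinearMap.smul_apply,
      LinearMap.smulRight_apply, fl_apply, hC1, hC2, hC12, smul_smul, div_eq_inv_mul]
    module

end UData

end Cfsg.Agent.C4
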